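import Groth.Agent.GrpSchLib.BundleQuot
import Groth.Agent.GrpSchLib.KernelGrp
import Groth.Agent.GrpSchLib.ImageFactor
import Groth.Agent.GrpSchLib.AntiAffineHom
import Groth.Agent.TransLib.Centralizer
import Groth.Agent.S3278
import Groth.Agent.S3279
import Mathlib.GroupTheory.Nilpotent

/-! Homogeneous spaces of nilpotent affine groups over a field are affine. -/

universe u

open CategoryTheory CategoryTheory.Limits AlgebraicGeometry MonoidalCategory CartesianMonoidalCategory MonObj

open scoped commutatorElement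

noncomputable section

namespace Groth.Agent.GrpSchLib.NilpQuot

open BundleQuot

section series

variable {S : Scheme.{u}}

/-- The upper central series of the functor of points, stable under change of the test object. -/
def CentralAt (G : Over S) [GrpObj G] : ℕ → ∀ T : Over S, (T ⟶ G) → Prop
  | 0, _, x => x = 1
  | n + 1, T, x => ∀ (T' : Over S) (t : T' ⟶ T) (y : T' ⟶ G), CentralAt G n T' ⁅t ≫ x, y⁆

theorem comp_commutator {G T T' : Over S} [GrpObj G] (t : T' ⟶ T) (x y : T ⟶ G) :
    t ≫ ⁅x, y⁆ = ⁅t ≫ x, t ≫ y⁆ := by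
  simp only [commutatorElement_def, MonObj.comp_mul, GrpObj.comp_inv]

theorem commutator_comp {G Q T : Over S} [GrpObj G] [GrpObj Q] (q : G ⟶ Q) [IsMonHom q] (x y : T ⟶ G) :
    ⁅x, y⁆ ≫ q = ⁅x ≫ q, y ≫ q⁆ := by
  simp only [commutatorElement_def, MonObj.mul_comp, GrpObj.inv_comp]

theorem CentralAt.comp {G : Over S} [GrpObj G] {n : ℕ} {T T' : Over S} {x : T ⟶ G} (h : CentralAt G n T x) (t : T' ⟶ T) :
    CentralAt G n T' (t ≫ x) := by
  cases n with
  | zero =>
    show t ≫ x = 1
    rw [show x = 1 from h, MonObj.comp_one]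
  | succ n =>
    intro T'' t' y
    rw [← Category.assoc]
    exact h T'' (t' ≫ t) y

theorem CentralAt.of_cover {G : Over S} [GrpObj G] : ∀ {n : ℕ} {T T' : Over S} {x : T ⟶ G} (c : T' ⟶ T), Cover c →
    CentralAt G n T' (c ≫ x) → CentralAt G n T x := by
  intro n
  induction n with
  | zero =>
    intro T T' x c hc h
    exact hc.hasLocSec.hom_ext (by rw [show c ≫ x = 1 from h, MonObj.comp_one])
  | succ n ih =>
    intro T T' x c hc h T₁ t y
    obtain ⟨T₂, c', s, hc', hs⟩ := hc.lift t
    refine ih c' hc' ?_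
    rw [comp_commutator, ← Category.assoc c' t x, ← hs, Category.assoc]
    exact h T₂ s (c' ≫ y)

/-- Nilpotency of class at most `n` of the functor of points. -/
def NilpotentAt (n : ℕ) (G : Over S) [GrpObj G] : Prop := ∀ (T : Over S) (x : T ⟶ G), CentralAt G n T x

theorem nilpotentAt_of_upperCentralSeries {G : Over S} [GrpObj G] {n : ℕ}
    (h : ∀ T : Over S, Subgroup.upperCentralSeries (T ⟶ G) n = ⊤) : NilpotentAt n G := by
  suffices H : ∀ m (T : Over S) (x : T ⟶ G),
      (∀ (T' : Over S) (t : T' ⟶ T), t ≫ x ∈ Subgroup.upperCentralSeries (T' ⟶ G) m) → CentralAt G m T x from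
    fun T x => H n T x fun T' t => by rw [h T']; exact Subgroup.mem_top _
  intro m
  induction m with
  | zero =>
    intro T x hx
    have := hx T (𝟙 T)
    rw [Category.id_comp, Subgroup.upperCentralSeries_zero, Subgroup.mem_bot] at this
    exact this
  | succ m ih =>
    intro T x hx T' t y
    refine ih _ _ fun T'' t' => ?_
    rw [comp_commutator, ← Category.assoc]
    exact Subgroup.mem_upperCentralSeries_succ_iff.mp (hx T'' (t' ≫ t)) (t' ≫ y)

theorem centralAt_image {G Q : Over S} [GrpObj G] [GrpObj Q] (q : G ⟶ Q) [IsMonHom q] (hq : Cover q)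
    (h1 : ∀ (T : Over S) (x : T ⟶ G), CentralAt G 1 T x → x ≫ q = 1) :
    ∀ n (T : Over S) (x : T ⟶ G), CentralAt G (n + 1) T x → CentralAt Q n T (x ≫ q) := by
  intro n
  induction n with
  | zero => exact fun T x hx => h1 T x hx
  | succ n ih =>
    intro T x hx T' t y
    obtain ⟨T'', c, y', hc, hy⟩ := hq.lift y
    refine CentralAt.of_cover c hc ?_
    have := ih T'' ⁅(c ≫ t) ≫ x, y'⁆ (hx T'' (c ≫ t) y')
    rw [commutator_comp, hy] at this
    rw [comp_commutator]
    simpa only [Category.assoc] using this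

theorem nilpotentAt_quotient {G Q : Over S} [GrpObj G] [GrpObj Q] (q : G ⟶ Q) [IsMonHom q] (hq : Cover q)
    (h1 : ∀ (T : Over S) (x : T ⟶ G), CentralAt G 1 T x → x ≫ q = 1) {n : ℕ} (hG : NilpotentAt (n + 1) G) :
    NilpotentAt n Q := fun T y => by
  obtain ⟨T', c, y', hc, hy⟩ := hq.lift y
  refine CentralAt.of_cover c hc ?_
  rw [← hy]
  exact centralAt_image q hq h1 n T' y' (hG T' y')

/-- The kernel pair of a homomorphism as a quotient by its kernel. -/
theorem square_of_isKernel {Z' Z V : Over S} [GrpObj Z'] [GrpObj Z] [GrpObj V] (j : Z' ⟶ Z) [Mono j]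
    (qa : Z ⟶ V) [IsMonHom qa] (h : AlgGrp.IsKernel j qa) :
    IsPullback (fst Z Z') ((Z ◁ j) ≫ μ[Z]) qa qa := by
  have e : (Z ◁ j) ≫ μ[Z] = fst Z Z' * (snd Z Z' ≫ j) := by
    rw [Hom.mul_def]
    congr 1
  rw [e]
  refine ⟨⟨?_⟩, ⟨PullbackCone.IsLimit.mk _ (fun s => lift s.fst (h.lift (s.fst⁻¹ * s.snd) (toUnit _) ?_)) ?_ ?_ ?_⟩⟩
  · rw [MonObj.mul_comp, Category.assoc, h.w, ← Category.assoc, toUnit_unique (snd Z Z' ≫ toUnit Z') (toUnit _),
      ← Hom.one_def, _root_.mul_one]
  · rw [MonObj.mul_comp, GrpObj.inv_comp, s.condition, inv_mul_cancel]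
    rfl
  · intro s; simp
  · intro s
    simp only [MonObj.comp_mul, lift_fst, lift_snd_assoc, IsPullback.lift_fst, mul_inv_cancel_left]
  · intro s m h1 h2
    apply CartesianMonoidalCategory.hom_ext
    · rw [lift_fst, h1]
    · rw [lift_snd, ← cancel_mono j, IsPullback.lift_fst, ← h1, ← h2]
      simp only [MonObj.comp_mul, Category.assoc, inv_mul_cancel_left]

end series

variable {k : Type u} [Field k]

theorem cover_of_lft {U Y : Over (Spec (CommRingCat.of k))} (j : U ⟶ Y) [Flat j.left] [Surjective j.left]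
    [LocallyOfFiniteType U.hom] [LocallyOfFiniteType Y.hom] : Cover j := by
  haveI : IsLocallyNoetherian Y.left := LocallyOfFiniteType.isLocallyNoetherian Y.hom
  haveI : LocallyOfFiniteType (j.left ≫ Y.hom) := by rw [Over.w j]; infer_instance
  haveI : LocallyOfFiniteType j.left := locallyOfFiniteType_of_comp j.left Y.hom
  exact ⟨inferInstance, inferInstance, inferInstance⟩

/-- A homogeneous space of a nilpotent affine group scheme of finite type over a field is affine. -/
theorem isAffine_quotient : ∀ (n : ℕ) {G : Over (Spec (CommRingCat.of k))} [GrpObj G] [IsAffine G.left]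
    [LocallyOfFiniteType G.hom], NilpotentAt n G → ∀ {H : Over (Spec (CommRingCat.of k))} [GrpObj H] (i : H ⟶ G)
    [IsMonHom i] [IsClosedImmersion i.left] {X : Over (Spec (CommRingCat.of k))} (qX : G ⟶ X), Cover qX →
    IsPullback (fst G H) ((G ◁ i) ≫ μ[G]) qX qX → IsAffine X.left := by
  intro n
  induction n with
  | zero =>
    intro G _ _ _ hG H _ i _ _ X qX hc hsq
    have hid : (𝟙 G : G ⟶ G) = 1 := hG G (𝟙 G)
    haveI : Surjective qX.left := hc.2.1
    haveI : Subsingleton G.left := ⟨fun a b => by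
      have h : (toUnit G ≫ η[G]).left = 𝟙 G.left := by
        rw [← Hom.one_def, ← hid]; rfl
      have ha : η[G].left ((toUnit G).left a) = a := by
        rw [← Scheme.Hom.comp_apply, ← Over.comp_left, h]; rfl
      have hb : η[G].left ((toUnit G).left b) = b := by
        rw [← Scheme.Hom.comp_apply, ← Over.comp_left, h]; rfl
      rw [← ha, ← hb]
      exact congrArg _ (Subsingleton.elim (α := PrimeSpectrum k) _ _)⟩
    haveI : Subsingleton X.left := qX.left.surjective.subsingleton
    infer_instance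
  | succ n ih =>
    intro G _ _ _ hG H _ i _ _ X qX hc hsq
    haveI : IsAffineHom G.hom := inferInstance
    haveI : QuasiCompact G.hom := inferInstance
    obtain ⟨Z, _, c, _, _, hZ⟩ := TransLib.exists_centralizer (G := G) (𝟙 G)
    have hZc : ∀ (T : Over (Spec (CommRingCat.of k))) (z : T ⟶ Z) (g : T ⟶ G), Commute (z ≫ c) g := by
      intro T z g
      have := (hZ T (z ≫ c)).mp ⟨z, rfl⟩ T (𝟙 T) g
      simpa using this
    have hcn : AlgGrp.IsNormalHom c := fun T g z => ⟨z, by rw [← (hZc T z g).eq, mul_inv_cancel_right]⟩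
    obtain ⟨G₁, _, q, _, hG₁, hG₁ft, hqf, hqs, hker⟩ := S3278.result k G Z c hcn
    haveI := hG₁
    haveI := hG₁ft
    haveI := hqf
    haveI := hqs
    have hq := cover_of_lft q
    haveI : IsAffineHom G₁.hom := inferInstance
    haveI : QuasiCompact G₁.hom := inferInstance
    have hG₁n : NilpotentAt n G₁ := nilpotentAt_quotient q hq (fun T x hx => by
      obtain ⟨z, rfl⟩ := (hZ T x).mpr fun T' t y => by
        have := hx T' t y
        rw [Category.comp_id]
        exact commutatorElement_eq_one_iff_commute.mp this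
      rw [Category.assoc, hker.w, ← Category.assoc, toUnit_unique (z ≫ toUnit Z) (toUnit T)]
      rfl) hG
    haveI : IsAffine Z.left := isAffine_of_isAffineHom c.left
    haveI : LocallyOfFiniteType Z.hom := by rw [← Over.w c]; infer_instance
    haveI : IsAffine H.left := isAffine_of_isAffineHom i.left
    haveI : LocallyOfFiniteType H.hom := by rw [← Over.w i]; infer_instance
    haveI : IsAffineHom H.hom := inferInstance
    haveI : QuasiCompact H.hom := inferInstance
    obtain ⟨H₁, _, p, i₁, _, _, hpi, _, _, _, hH₁ft, hH₁qc⟩ := ImageFactor.exists_image (i ≫ q)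
    haveI := hH₁ft
    haveI := hH₁qc
    have hp := cover_of_lft p
    haveI : Mono i₁.left := inferInstance
    haveI : Mono i₁ := Over.mono_of_mono_left i₁
    obtain ⟨Y, aY, oY, hYft, hYqc, hYf, hYs, hYsq⟩ := S3279.result k G₁ H₁ i₁
    haveI := hYft
    haveI := hYf
    haveI := hYs
    have hYc := cover_of_lft (aY.orbitMap oY)
    haveI : IsAffine Y.left := ih hG₁n i₁ (aY.orbitMap oY) hYc hYsq
    haveI := AntiAffine.isSeparated_grp G₁
    obtain ⟨Z', _, j', _, _, -, hj'⟩ := exists_kernel (i ≫ q)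
    haveI : Mono j'.left := inferInstance
    haveI : Mono j' := Over.mono_of_mono_left j'
    haveI : Mono c.left := inferInstance
    haveI : Mono c := Over.mono_of_mono_left c
    have hjq : (j' ≫ i) ≫ q = toUnit Z' ≫ η[G₁] := by rw [Category.assoc, hj'.w]
    let j : Z' ⟶ Z := hker.lift (j' ≫ i) (toUnit Z') hjq
    have hjc : j ≫ c = j' ≫ i := hker.lift_fst _ _ _
    haveI : IsMonHom j := by
      refine ⟨?_, ?_⟩
      · rw [← cancel_mono c, Category.assoc, hjc, IsMonHom.one_hom c, ← Category.assoc, IsMonHom.one_hom j',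
          IsMonHom.one_hom i]
      · rw [← cancel_mono c, Category.assoc, hjc, Category.assoc, IsMonHom.mul_hom c, IsMonHom.mul_hom_assoc j',
          IsMonHom.mul_hom i, MonoidalCategory.tensorHom_comp_tensorHom_assoc,
          MonoidalCategory.tensorHom_comp_tensorHom_assoc, hjc]
    have hj : IsPullback j j' c i := by
      have hsnd : ∀ s : PullbackCone c i, s.snd ≫ i ≫ q = toUnit s.pt ≫ η[G₁] := fun s => by
        rw [← Category.assoc, ← s.condition, Category.assoc, hker.w, ← Category.assoc,
          toUnit_unique (s.fst ≫ toUnit Z) (toUnit s.pt)]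
      refine ⟨⟨hjc⟩, ⟨PullbackCone.IsLimit.mk _ (fun s => hj'.lift s.snd (toUnit s.pt) (hsnd s)) (fun s => ?_)
        (fun s => hj'.lift_fst _ _ _) (fun s m _ h2 => ?_)⟩⟩
      · rw [← cancel_mono c, Category.assoc, hjc, IsPullback.lift_fst_assoc, s.condition]
      · rw [← cancel_mono j', h2, hj'.lift_fst]
    haveI : IsSeparated Z.hom := inferInstance
    haveI : IsClosedImmersion (j.left ≫ c.left) := by
      rw [← Over.comp_left, hjc, Over.comp_left]; infer_instance
    haveI : IsClosedImmersion j.left := IsClosedImmersion.of_comp j.left c.left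
    haveI : Mono j.left := inferInstance
    haveI : Mono j := Over.mono_of_mono_left j
    have hjn : AlgGrp.IsNormalHom j := fun T z w => ⟨w, by
      rw [← cancel_mono c, MonObj.mul_comp, MonObj.mul_comp, GrpObj.inv_comp, (hZc T z ((w ≫ j) ≫ c)).eq,
        mul_inv_cancel_right]⟩
    obtain ⟨V, _, qa, _, hV, hVft, hVf, hVs, hVk⟩ := S3278.result k Z Z' j hjn
    haveI := hV
    haveI := hVft
    haveI := hVf
    haveI := hVs
    exact BundleQuot.isAffine i c q hq hker p hp i₁ hpi j j' hj qX hc hsq (aY.orbitMap oY) hYc hYsq qa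
      (cover_of_lft qa) (square_of_isKernel j qa hVk)

end Groth.Agent.GrpSchLib.NilpQuot
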