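import Groth.Agent.GrpSchLib.AffinizationKer
import Groth.Agent.GrpSchLib.KernelGrp
import Groth.Agent.GrpSchLib.NilpQuot
import Groth.Agent.GrpSchLib.QuotAffine
import Groth.Agent.GrpSchLib.HomFlat
import Groth.Agent.GrpSchLib.SmoothReduced
import Groth.Agent.GrpQuotLib.Group
import Groth.Agent.LargeNormal.Galois
import Groth.Agent.S3293
import Groth.Agent.S7996
import Mathlib.AlgebraicGeometry.Morphisms.QuasiFinite

/-!
An affine normal subgroup with proper quotient and the largest anti-affine subgroup generate the group.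
-/

set_option backward.isDefEq.respectTransparency false
set_option backward.isDefEq.respectTransparency.types false
set_option maxHeartbeats 1600000
set_option synthInstance.maxHeartbeats 400000

universe u

open CategoryTheory Limits AlgebraicGeometry MonoidalCategory CartesianMonoidalCategory MonObj
open Groth.Agent.GrpSchLib.BundleQuot

noncomputable section

namespace Groth.Agent.GrpSchLib.Rosenlicht

variable {k : Type u} [Field k]

/-- An algebraic group has an anti-affine subgroup, the kernel of its affinization. -/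
theorem exists_antiAffine_kernel (G : Over (Spec (CommRingCat.of k))) [GrpObj G] [LocallyOfFiniteType G.hom]
    [QuasiCompact G.hom] :
    ∃ (I : Over (Spec (CommRingCat.of k))) (_ : GrpObj I) (p : G ⟶ I) (K : Over (Spec (CommRingCat.of k))) (_ : GrpObj K)
      (κ : K ⟶ G), IsMonHom p ∧ IsAffine I.left ∧ LocallyOfFiniteType I.hom ∧ QuasiCompact I.hom ∧ Flat p.left ∧
        Surjective p.left ∧ IsMonHom κ ∧ IsClosedImmersion κ.left ∧ AlgGrp.IsKernel κ p ∧
        Function.Bijective K.hom.appTop := by
  haveI := AntiAffine.isSeparated_grp G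
  obtain ⟨I, _, p, hp, hI, hlft, hfl, hs, hb⟩ := Affinization.exists_affinization G
  haveI := hp; haveI := hI; haveI := hlft; haveI := hfl; haveI := hs
  haveI : IsSeparated I.hom := AntiAffine.isSeparated_grp I
  obtain ⟨K, _, κ, hκ, hκc, -, hk⟩ := exists_kernel p
  obtain ⟨_, -, -, hbij⟩ := AffinizationKer.main G
  refine ⟨I, inferInstance, p, K, inferInstance, κ, hp, hI, hlft, inferInstance, hfl, hs, hκ, hκc, hk, ?_⟩
  haveI : IsIso p.left.appTop := (ConcreteCategory.isIso_iff_bijective _).mpr hb
  obtain ⟨m, _, hm⟩ : ∃ m : I.left ⟶ Spec Γ(G.left, ⊤), IsIso m ∧ G.left.toSpecΓ = p.left ≫ m :=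
    ⟨I.left.toSpecΓ ≫ inv (Spec.map p.left.appTop), inferInstance, by
      rw [← Category.assoc, Scheme.toSpecΓ_naturality, Category.assoc, IsIso.hom_inv_id, Category.comp_id]⟩
  have hη : η[G].left ≫ p.left = η[I].left := congrArg CommaMorphism.left (IsMonHom.one_hom p)
  have sq : IsPullback κ.left (toUnit K).left p.left η[I].left := IsPullback.map (Over.forget _) hk
  have sq' : IsPullback κ.left (toUnit K).left G.left.toSpecΓ (η[G].left ≫ G.left.toSpecΓ) := by
    rw [hm, ← Category.assoc, hη]
    exact sq.of_iso (Iso.refl _) (Iso.refl _) (Iso.refl _) (asIso m)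
      (by simp) (by simp) (by simp) (by simp)
  let e := sq'.isoPullback
  have he : e.hom ≫ (AffinizationKer.ker G).hom = K.hom := by
    show e.hom ≫ pullback.snd _ _ ≫ _ = _
    rw [sq'.isoPullback_hom_snd_assoc]
    exact Over.w (toUnit K)
  have happ : K.hom.appTop = (AffinizationKer.ker G).hom.appTop ≫ e.hom.appTop := by
    rw [← Scheme.Hom.comp_appTop, he]
  rw [happ]
  exact (ConcreteCategory.bijective_of_isIso e.hom.appTop).comp hbij

variable {H A : Over (Spec (CommRingCat.of k))} [GrpObj H] [GrpObj A] [LocallyOfFiniteType H.hom] [QuasiCompact H.hom]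
  [IsProper A.hom] [ConnectedSpace A.left]

/-- A proper connected quotient is covered by the anti-affine part. -/
theorem surjective_comp (f : H ⟶ A) [IsMonHom f] [Surjective f.left] {I K : Over (Spec (CommRingCat.of k))} [GrpObj I]
    [GrpObj K] (p : H ⟶ I) [IsMonHom p] [IsAffine I.left] [LocallyOfFiniteType I.hom] [QuasiCompact I.hom]
    [Flat p.left] [Surjective p.left] (κ : K ⟶ H) [IsMonHom κ] [IsClosedImmersion κ.left]
    (hk : AlgGrp.IsKernel κ p) (hK : Function.Bijective K.hom.appTop) : Surjective (κ ≫ f).left := by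
  haveI : LocallyOfFiniteType K.hom := by rw [← Over.w κ]; infer_instance
  haveI : QuasiCompact K.hom := by rw [← Over.w κ]; infer_instance
  obtain ⟨B, _, p₁, b, _, _, hpb, _, _, hs₁, hBl, hBq⟩ := ImageFactor.exists_image (κ ≫ f)
  haveI : LocallyOfFiniteType B.hom := hBl
  haveI : QuasiCompact B.hom := hBq
  haveI := hs₁
  haveI : Mono b := Over.mono_of_mono_left _
  have hc₁ : Cover p₁ := GrpSchLib.NilpQuot.cover_of_lft p₁
  have hB : AlgGrp.IsNormalHom b := by
    intro T g n
    refine ⟨n, ?_⟩
    obtain ⟨T', c, n', hc, hn'⟩ := hc₁.lift n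
    have hcomm := S7996.result k K A ((AntiAffine.bijective_appTop_iff K.hom).mpr hK) (κ ≫ f) T' n' T' (𝟙 T') (c ≫ g)
    have key : g * (n ≫ b) = (n ≫ b) * g := by
      refine hc.hasLocSec.hom_ext ?_
      rw [MonObj.comp_mul, MonObj.comp_mul, ← Category.assoc c n b, ← hn', Category.assoc n' p₁ b, hpb]
      simpa using hcomm.symm
    rw [key, mul_inv_cancel_right]
  obtain ⟨C, _, r, _, hrf, hrs, _, hCl, -, hrk⟩ := GrpQuotLib.exists_quotientGrp b hB
  haveI := hrf; haveI := hrs; haveI := hCl
  haveI : IsSeparated C.hom := AntiAffine.isSeparated_grp C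
  haveI : UniversallyClosed (r.left ≫ C.hom) := by rw [Over.w r]; infer_instance
  haveI : UniversallyClosed C.hom := UniversallyClosed.of_comp_surjective r.left C.hom
  haveI : IsProper C.hom := ⟨⟩
  haveI : ConnectedSpace C.left := r.left.surjective.connectedSpace r.left.continuous
  have hcp : Cover p := GrpSchLib.NilpQuot.cover_of_lft p
  have hinv : ∀ (T : Over (Spec (CommRingCat.of k))) (x y : T ⟶ H), x ≫ p = y ≫ p → x ≫ f ≫ r = y ≫ f ≫ r := by
    intro T x y hxy
    let z := hk.lift (x * y⁻¹) (toUnit T) (by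
      rw [MonObj.mul_comp, GrpObj.inv_comp, hxy, mul_inv_cancel, Hom.one_def])
    have hz : z ≫ κ = x * y⁻¹ := hk.lift_fst _ _ _
    have h1 : (κ ≫ f) ≫ r = 1 := by
      rw [← hpb, Category.assoc, hrk.w, ← Hom.one_def, MonObj.comp_one]
    have h2 := congrArg (z ≫ ·) h1
    simp only [MonObj.comp_one, ← Category.assoc, hz] at h2
    rw [Category.assoc, MonObj.mul_comp, GrpObj.inv_comp, mul_inv_eq_one] at h2
    exact h2
  obtain ⟨g, hg, -⟩ := hcp.hasLocSec.existsUnique_desc (f ≫ r) hinv
  haveI : IsMonHom g := LargeNormal.isMonHom_of_mul _ fun T a a' => by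
    obtain ⟨T₁, c₁, s, hc₁, hs⟩ := hcp.lift a
    obtain ⟨T₂, c₂, s', hc₂, hs'⟩ := hcp.lift (c₁ ≫ a')
    refine (hc₂.comp hc₁).hasLocSec.hom_ext ?_
    have ha : (c₂ ≫ c₁) ≫ a = (c₂ ≫ s) ≫ p := by rw [Category.assoc, Category.assoc, hs]
    have ha' : (c₂ ≫ c₁) ≫ a' = s' ≫ p := by rw [Category.assoc, hs']
    simp only [MonObj.comp_mul]
    rw [← Category.assoc _ (a * a'), MonObj.comp_mul, ← Category.assoc _ a g, ← Category.assoc _ a' g, ha, ha',
      ← MonObj.mul_comp _ _ p, Category.assoc, Category.assoc, Category.assoc, hg, MonObj.mul_comp]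
    simp only [Category.assoc, hg]
  haveI : QuasiCompact C.hom := inferInstance
  obtain ⟨J, _, g₁, j, _, _, hgj, hjc, hgf, hgs, hJl, hJq⟩ := ImageFactor.exists_image g
  haveI := hgf; haveI := hgs; haveI := hJl; haveI := hJq; haveI := hjc
  haveI : IsAffine J.left := GrpSchLib.isAffine_of_quotient g₁
  haveI : IsProper J.hom := by rw [← Over.w j]; infer_instance
  haveI : IsAffineHom J.hom := inferInstance
  haveI : IsFinite J.hom := IsFinite.iff_isProper_and_isAffineHom.mpr ⟨inferInstance, inferInstance⟩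
  haveI : IsLocallyArtinian J.left := IsLocallyArtinian.of_locallyQuasiFinite J.hom
  haveI : DiscreteTopology J.left := inferInstance
  haveI : Surjective (p ≫ g).left := by
    rw [hg]
    exact inferInstanceAs (Surjective (f.left ≫ r.left))
  haveI : Surjective g.left := Surjective.of_comp p.left g.left
  haveI : Surjective j.left := by
    haveI : Surjective (g₁.left ≫ j.left) := by
      rw [← Over.comp_left, hgj]; infer_instance
    exact Surjective.of_comp g₁.left j.left
  haveI : ConnectedSpace J.left :=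
    ((j.left.isClosedEmbedding.toIsEmbedding.toHomeomorph.trans
      ((Homeomorph.setCongr j.left.surjective.range_eq).trans (Homeomorph.Set.univ _))).symm.surjective).connectedSpace
      (j.left.isClosedEmbedding.toIsEmbedding.toHomeomorph.trans
      ((Homeomorph.setCongr j.left.surjective.range_eq).trans (Homeomorph.Set.univ _))).symm.continuous
  haveI : Subsingleton J.left := PreconnectedSpace.trivial_of_discrete
  haveI : Subsingleton C.left := j.left.surjective.subsingleton
  have hker : IsPullback b.left (toUnit B).left r.left η[C].left := IsPullback.map (Over.forget _) hrk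
  haveI : Surjective b.left := ⟨fun a => by
    obtain ⟨w, hw, -⟩ := Scheme.Pullback.exists_preimage_pullback (f := r.left) (g := η[C].left) a
      (IsLocalRing.closedPoint k) (Subsingleton.elim _ _)
    exact ⟨hker.isoPullback.inv w, by rw [← Scheme.Hom.comp_apply, hker.isoPullback_inv_fst, hw]⟩⟩
  rw [← hpb]
  exact inferInstanceAs (Surjective (p₁.left ≫ b.left))

variable {G N M : Over (Spec (CommRingCat.of k))} [GrpObj G] [GrpObj N] [GrpObj M] [LocallyOfFiniteType G.hom]
  [QuasiCompact G.hom] [LocallyOfFiniteType M.hom] [QuasiCompact M.hom] [IsAffine N.left]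
  (i : N ⟶ G) [IsMonHom i] [IsClosedImmersion i.left] (q : G ⟶ A) [IsMonHom q] [Surjective q.left]
  (hq : AlgGrp.IsKernel i q) (j : M ⟶ G) [IsMonHom j] [IsClosedImmersion j.left]
  (hM : Function.Bijective M.hom.appTop)
  (hMmax : ∀ (M' : Over (Spec (CommRingCat.of k))) [GrpObj M'] [LocallyOfFiniteType M'.hom] [QuasiCompact M'.hom]
    (j' : M' ⟶ G) [IsMonHom j'] [IsClosedImmersion j'.left],
    Function.Bijective M'.hom.appTop → ∃ g : M' ⟶ M, g ≫ j = j')

include hMmax in
theorem surjective_antiAffine : Surjective (j ≫ q).left := by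
  obtain ⟨I, _, p, K, _, κ, _, _, _, _, _, _, _, _, hk, hK⟩ := exists_antiAffine_kernel G
  haveI : LocallyOfFiniteType K.hom := by rw [← Over.w κ]; infer_instance
  haveI : QuasiCompact K.hom := by rw [← Over.w κ]; infer_instance
  haveI := surjective_comp q p κ hk hK
  obtain ⟨g, hg⟩ := hMmax K κ hK
  haveI : Surjective (g.left ≫ (j ≫ q).left) := by
    rw [← Over.comp_left, reassoc_of% hg]; infer_instance
  exact Surjective.of_comp g.left (j ≫ q).left

include hq hMmax in
theorem surjective_mul : Surjective ((i ⊗ₘ j) ≫ μ[G]).left := by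
  haveI := surjective_antiAffine q j hMmax
  let P : Over (Spec (CommRingCat.of k)) := Over.mk (pullback.fst q.left (j ≫ q).left ≫ G.hom)
  let x : P ⟶ G := Over.homMk (pullback.fst q.left (j ≫ q).left) rfl
  let y : P ⟶ M := Over.homMk (pullback.snd q.left (j ≫ q).left) (by
    show _ = pullback.fst q.left (j ≫ q).left ≫ G.hom
    rw [← Over.w q, pullback.condition_assoc, Over.w (j ≫ q)])
  have hxy : x ≫ q = y ≫ j ≫ q := Over.OverMorphism.ext pullback.condition
  let n := hq.lift (x * (y ≫ j)⁻¹) (toUnit P) (by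
    rw [MonObj.mul_comp, GrpObj.inv_comp, Category.assoc, hxy, mul_inv_cancel, Hom.one_def])
  have hn : lift n y ≫ (i ⊗ₘ j) ≫ μ[G] = x := by
    rw [← Category.assoc, lift_map, ← Hom.mul_def, hq.lift_fst, inv_mul_cancel_right]
  haveI : Surjective ((lift n y).left ≫ ((i ⊗ₘ j) ≫ μ[G]).left) := by
    rw [← Over.comp_left, hn]
    exact inferInstanceAs (Surjective (pullback.fst q.left (j ≫ q).left))
  exact Surjective.of_comp (lift n y).left ((i ⊗ₘ j) ≫ μ[G]).left

include hq hM hMmax in
theorem factors_of_surjective {L : Over (Spec (CommRingCat.of k))} [GrpObj L] (h : L ⟶ G) [IsMonHom h]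
    [IsClosedImmersion h.left] (hsurj : Surjective ((h ⊗ₘ i) ≫ μ[G]).left) : ∃ g : M ⟶ L, g ≫ h = j := by
  haveI := hsurj
  haveI : LocallyOfFiniteType L.hom := by rw [← Over.w h]; infer_instance
  haveI : QuasiCompact L.hom := by rw [← Over.w h]; infer_instance
  have hfac : ((h ⊗ₘ i) ≫ μ[G]) ≫ q = fst L N ≫ h ≫ q := by
    rw [show (h ⊗ₘ i) ≫ μ[G] = (fst L N ≫ h) * (snd L N ≫ i) by rw [Hom.mul_def, ← lift_map, lift_fst_snd, Category.id_comp],
      MonObj.mul_comp, Category.assoc, Category.assoc, hq.w,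
      ← Hom.one_def, MonObj.comp_one, _root_.mul_one]
  haveI : Surjective (h ≫ q).left := by
    haveI : Surjective ((fst L N).left ≫ (h ≫ q).left) := by
      rw [← Over.comp_left, ← hfac]
      exact inferInstanceAs (Surjective (((h ⊗ₘ i) ≫ μ[G]).left ≫ q.left))
    exact Surjective.of_comp (fst L N).left (h ≫ q).left
  obtain ⟨I, _, p, K, _, κ, _, _, _, _, _, _, _, _, hk, hK⟩ := exists_antiAffine_kernel L
  haveI := surjective_comp (h ≫ q) p κ hk hK
  haveI : LocallyOfFiniteType K.hom := by rw [← Over.w κ]; infer_instance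
  haveI : QuasiCompact K.hom := by rw [← Over.w κ]; infer_instance
  haveI : IsClosedImmersion (κ ≫ h).left := inferInstanceAs (IsClosedImmersion (κ.left ≫ h.left))
  obtain ⟨f, hf⟩ := hMmax K (κ ≫ h) hK
  haveI : IsSeparated M.hom := AntiAffine.isSeparated_grp M
  haveI : Mono j := Over.mono_of_mono_left _
  haveI : IsMonHom f := ⟨by rw [← cancel_mono j, Category.assoc, hf, IsMonHom.one_hom (κ ≫ h), IsMonHom.one_hom j],
    by rw [← cancel_mono j, Category.assoc, hf, IsMonHom.mul_hom (κ ≫ h), Category.assoc, IsMonHom.mul_hom j,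
      MonoidalCategory.tensorHom_comp_tensorHom_assoc, hf]⟩
  haveI : IsClosedImmersion f.left := by
    haveI : IsClosedImmersion (f.left ≫ j.left) := by rw [← Over.comp_left, hf]; infer_instance
    exact IsClosedImmersion.of_comp f.left j.left
  haveI : Mono f := Over.mono_of_mono_left _
  obtain ⟨-, hcomm⟩ := S3293.result k M ((AntiAffine.bijective_appTop_iff M.hom).mpr hM)
  haveI := hcomm
  have hfn : AlgGrp.IsNormalHom f := fun T g n => ⟨n, by rw [mul_comm g (n ≫ f), mul_inv_cancel_right]⟩
  obtain ⟨T, _, r, _, hrf, hrs, _, hTl, -, hrk⟩ := GrpQuotLib.exists_quotientGrp f hfn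
  haveI := hrf; haveI := hrs; haveI := hTl
  haveI : QuasiCompact T.hom := by
    haveI : CompactSpace M.left := (quasiCompact_iff_compactSpace M.hom).mp inferInstance
    haveI : CompactSpace T.left := r.left.surjective.compactSpace r.left.continuous
    exact (quasiCompact_iff_compactSpace T.hom).mpr inferInstance
  haveI : Epi r.left := (FpqcDescLib.covers_of_isCovering (FpqcDescLib.isCovering_of_lfp r.left)).epi
  have hT : Function.Bijective T.hom.appTop := by
    have he : M.hom.appTop = T.hom.appTop ≫ r.left.appTop := by rw [← Scheme.Hom.comp_appTop, Over.w r]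
    rw [he] at hM
    refine ⟨Function.Injective.of_comp (f := r.left.appTop) hM.1, fun y => ?_⟩
    obtain ⟨x, hx⟩ := hM.2 (r.left.appTop y)
    exact ⟨x, AntiAffine.appTop_injective_of_epi r.left hx⟩
  haveI : Smooth T.hom := AntiAffineSmooth.smooth hT
  haveI : IsReduced T.left := GrpSchLib.isReduced_of_smooth_field T.hom
  obtain ⟨E, _, e, e', _, _, _, sq⟩ := LargeNormal.exists_preimage j i
  haveI : IsClosedImmersion e'.left := MorphismProperty.of_isPullback (P := @IsClosedImmersion)
    (sq.map (Over.forget _)) ‹IsClosedImmersion j.left›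
  haveI : IsAffine E.left := isAffine_of_isAffineHom e'.left
  haveI : LocallyOfFiniteType E.hom := by rw [← Over.w e]; infer_instance
  haveI : QuasiCompact E.hom := by rw [← Over.w e]; infer_instance
  haveI : QuasiCompact (e ≫ r).left := by
    haveI := AntiAffine.isSeparated_grp T
    haveI : QuasiCompact ((e ≫ r).left ≫ T.hom) := by rw [Over.w (e ≫ r)]; infer_instance
    exact QuasiCompact.of_comp (e ≫ r).left T.hom
  let P : Over (Spec (CommRingCat.of k)) := Over.mk (pullback.fst (j ≫ q).left (κ ≫ h ≫ q).left ≫ M.hom)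
  let x : P ⟶ M := Over.homMk (pullback.fst (j ≫ q).left (κ ≫ h ≫ q).left) rfl
  let y : P ⟶ K := Over.homMk (pullback.snd (j ≫ q).left (κ ≫ h ≫ q).left) (by
    show _ = pullback.fst (j ≫ q).left (κ ≫ h ≫ q).left ≫ M.hom
    rw [← Over.w (j ≫ q), pullback.condition_assoc, Over.w (κ ≫ h ≫ q)])
  have hxy : x ≫ j ≫ q = y ≫ κ ≫ h ≫ q := Over.OverMorphism.ext pullback.condition
  have hcond : ((x * (y ≫ f)⁻¹) ≫ j) ≫ q = toUnit P ≫ η[A] := by
    rw [MonObj.mul_comp, GrpObj.inv_comp, Category.assoc, hf, MonObj.mul_comp, GrpObj.inv_comp, Category.assoc,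
      Category.assoc, hxy]
    simp only [Category.assoc, mul_inv_cancel, Hom.one_def]
  let z := sq.lift (x * (y ≫ f)⁻¹) (hq.lift _ (toUnit P) hcond) (hq.lift_fst _ _ _).symm
  have hfr : f ≫ r = 1 := by rw [hrk.w, ← Hom.one_def]
  have hz : z ≫ e ≫ r = x ≫ r := by
    rw [← Category.assoc, sq.lift_fst, MonObj.mul_comp, GrpObj.inv_comp, Category.assoc, hfr, MonObj.comp_one,
      inv_one, _root_.mul_one]
  haveI : Surjective (e ≫ r).left := by
    haveI : Surjective (z.left ≫ (e ≫ r).left) := by
      rw [← Over.comp_left, hz]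
      exact inferInstanceAs (Surjective (pullback.fst (j ≫ q).left (κ ≫ h ≫ q).left ≫ r.left))
    exact Surjective.of_comp z.left (e ≫ r).left
  haveI : Flat (e ≫ r).left := GrpSchLib.flat_of_surjective_hom (e ≫ r)
  haveI : IsAffine T.left := GrpSchLib.isAffine_of_quotient (e ≫ r)
  have hid : (𝟙 T : T ⟶ T) = 1 := by
    rw [AntiAffine.eq_const_of_isAffine hT (𝟙 T) η[T], Category.comp_id, ← Hom.one_def]
  let s : M ⟶ K := hrk.lift (𝟙 M) (toUnit M) (by
    rw [Category.id_comp, ← Category.comp_id r, hid, MonObj.comp_one, Hom.one_def])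
  exact ⟨s ≫ κ, by rw [Category.assoc, ← hf, ← Category.assoc, hrk.lift_fst, Category.id_comp]⟩

end Groth.Agent.GrpSchLib.Rosenlicht
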