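import Groth.Agent.GrpSchLib.AntiAffineRosenlicht
import Groth.Agent.DescLib.Flat

/-!
The largest anti-affine subgroup of a quotient, and groups all of whose proper subgroups are affine.
-/

set_option backward.isDefEq.respectTransparency false
set_option backward.isDefEq.respectTransparency.types false
set_option maxHeartbeats 1600000
set_option synthInstance.maxHeartbeats 400000

universe u

open CategoryTheory Limits AlgebraicGeometry MonoidalCategory CartesianMonoidalCategory MonObj
open Groth.Agent.GrpSchLib.BundleQuot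

noncomputable section

namespace Groth.Agent.GrpSchLib.Rosenlicht

variable {k : Type u} [Field k]

theorem bijective_of_comp {K B : Over (Spec (CommRingCat.of k))} (p : K ⟶ B) [Epi p.left]
    (hK : Function.Bijective K.hom.appTop) : Function.Bijective B.hom.appTop := by
  have he : K.hom.appTop = B.hom.appTop ≫ p.left.appTop := by rw [← Scheme.Hom.comp_appTop, Over.w p]
  rw [he] at hK
  refine ⟨Function.Injective.of_comp (f := p.left.appTop) hK.1, fun y => ?_⟩
  obtain ⟨x, hx⟩ := hK.2 (p.left.appTop y)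
  exact ⟨x, AntiAffine.appTop_injective_of_epi p.left hx⟩

theorem hom_affine_eq_one {K Z : Over (Spec (CommRingCat.of k))} [GrpObj K] [GrpObj Z] [IsAffine Z.left]
    (hK : Function.Bijective K.hom.appTop) (a : K ⟶ Z) [IsMonHom a] : a = 1 := by
  rw [AntiAffine.eq_const_of_isAffine hK a η[K], IsMonHom.one_hom a, ← Hom.one_def]

theorem isIso_of_mono_cover {X Y : Scheme.{u}} (p : X ⟶ Y) [Mono p] [Flat p] [Surjective p]
    [LocallyOfFinitePresentation p] : IsIso p := by
  have := (FpqcDescLib.isCovering_of_lfp p).effectiveEpi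
  have h : p ≫ EffectiveEpi.desc p (𝟙 X) (fun a b e => by rw [(cancel_mono p).mp e]) = 𝟙 X := EffectiveEpi.fac _ _ _
  exact ⟨_, h, by rw [← cancel_epi p, reassoc_of% h, Category.comp_id]⟩

variable {G Q M M' : Over (Spec (CommRingCat.of k))} [GrpObj G] [GrpObj Q] [GrpObj M] [GrpObj M']
  [LocallyOfFiniteType G.hom] [QuasiCompact G.hom] [LocallyOfFiniteType Q.hom] [QuasiCompact Q.hom]
  [LocallyOfFiniteType M.hom] [QuasiCompact M.hom]

/-- The image of the largest anti-affine subgroup is the largest one of the quotient. -/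
theorem range_eq (q : G ⟶ Q) [IsMonHom q] [Surjective q.left] [Flat q.left]
    (j : M ⟶ G) [IsMonHom j] [IsClosedImmersion j.left] (hM : Function.Bijective M.hom.appTop)
    (hMmax : ∀ (M₁ : Over (Spec (CommRingCat.of k))) [GrpObj M₁] [LocallyOfFiniteType M₁.hom] [QuasiCompact M₁.hom]
      (j₁ : M₁ ⟶ G) [IsMonHom j₁] [IsClosedImmersion j₁.left],
      Function.Bijective M₁.hom.appTop → ∃ g : M₁ ⟶ M, g ≫ j = j₁)
    (j' : M' ⟶ Q) [IsMonHom j'] (hM' : Function.Bijective M'.hom.appTop)
    (hM'max : ∀ (M₁ : Over (Spec (CommRingCat.of k))) [GrpObj M₁] [LocallyOfFiniteType M₁.hom] [QuasiCompact M₁.hom]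
      (j₁ : M₁ ⟶ Q) [IsMonHom j₁] [IsClosedImmersion j₁.left],
      Function.Bijective M₁.hom.appTop → ∃ g : M₁ ⟶ M', g ≫ j' = j₁) :
    Set.range ⇑(j ≫ q).left = Set.range ⇑j'.left := by
  obtain ⟨I, _, p, K, _, κ, _, _, _, _, _, _, _, _, hk, hK⟩ := exists_antiAffine_kernel G
  haveI : LocallyOfFiniteType K.hom := by rw [← Over.w κ]; infer_instance
  haveI : QuasiCompact K.hom := by rw [← Over.w κ]; infer_instance
  haveI : Mono j := Over.mono_of_mono_left _
  obtain ⟨g, hg⟩ := hMmax K κ hK
  let l : M ⟶ K := hk.lift j (toUnit M) ((hom_affine_eq_one hM (j ≫ p)).trans Hom.one_def)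
  have hl : l ≫ κ = j := hk.lift_fst _ _ _
  haveI : Mono κ := Over.mono_of_mono_left _
  have hjn : AlgGrp.IsNormalHom j := fun T x n => by
    let y := hk.lift (x * (n ≫ j) * x⁻¹) (toUnit T) (by
      rw [MonObj.mul_comp, MonObj.mul_comp, GrpObj.inv_comp, Category.assoc, hom_affine_eq_one hM (j ≫ p),
        MonObj.comp_one, _root_.mul_one, mul_inv_cancel, Hom.one_def])
    exact ⟨y ≫ g, by rw [Category.assoc, hg, hk.lift_fst]⟩
  obtain ⟨B, _, p₁, b, _, _, hpb, _, _, hs₁, hBl, hBq⟩ := ImageFactor.exists_image (j ≫ q)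
  haveI := hs₁; haveI := hBl; haveI := hBq
  haveI : Mono b := Over.mono_of_mono_left _
  have hc₁ : Cover p₁ := GrpSchLib.NilpQuot.cover_of_lft p₁
  have hc : Cover q := GrpSchLib.NilpQuot.cover_of_lft q
  haveI : Flat p₁.left := hc₁.1
  haveI : LocallyOfFinitePresentation p₁.left := hc₁.2.2
  haveI : Epi p₁.left := (FpqcDescLib.covers_of_isCovering (FpqcDescLib.isCovering_of_lfp p₁.left)).epi
  have hB : Function.Bijective B.hom.appTop := bijective_of_comp p₁ hM
  have hbn : AlgGrp.IsNormalHom b := LargeNormal.isNormalHom_image hc hjn hc₁ hpb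
  obtain ⟨f, hf⟩ := hM'max B b hB
  obtain ⟨C, _, r, _, hrf, hrs, _, hCl, -, hrk⟩ := GrpQuotLib.exists_quotientGrp b hbn
  haveI := hrf; haveI := hrs; haveI := hCl
  have hcp : Cover p := GrpSchLib.NilpQuot.cover_of_lft p
  have h1 : (κ ≫ q) ≫ r = 1 := by
    rw [← hg, Category.assoc g j q, ← hpb, Category.assoc, Category.assoc, hrk.w, ← Hom.one_def, MonObj.comp_one,
      MonObj.comp_one]
  have hinv : ∀ (T : Over (Spec (CommRingCat.of k))) (x y : T ⟶ G), x ≫ p = y ≫ p → x ≫ q ≫ r = y ≫ q ≫ r := by
    intro T x y hxy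
    let z := hk.lift (x * y⁻¹) (toUnit T) (by
      rw [MonObj.mul_comp, GrpObj.inv_comp, hxy, mul_inv_cancel, Hom.one_def])
    have hz : z ≫ κ = x * y⁻¹ := hk.lift_fst _ _ _
    have h2 := congrArg (z ≫ ·) h1
    simp only [MonObj.comp_one, ← Category.assoc, hz] at h2
    rw [Category.assoc, MonObj.mul_comp, GrpObj.inv_comp, mul_inv_eq_one] at h2
    exact h2
  obtain ⟨u, hu, -⟩ := hcp.hasLocSec.existsUnique_desc (q ≫ r) hinv
  haveI : IsMonHom u := LargeNormal.isMonHom_of_mul _ fun T a a' => by
    obtain ⟨T₁, c₁, s, hc₁', hs⟩ := hcp.lift a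
    obtain ⟨T₂, c₂, s', hc₂, hs'⟩ := hcp.lift (c₁ ≫ a')
    refine (hc₂.comp hc₁').hasLocSec.hom_ext ?_
    have ha : (c₂ ≫ c₁) ≫ a = (c₂ ≫ s) ≫ p := by rw [Category.assoc, Category.assoc, hs]
    have ha' : (c₂ ≫ c₁) ≫ a' = s' ≫ p := by rw [Category.assoc, hs']
    simp only [MonObj.comp_mul]
    rw [← Category.assoc _ (a * a'), MonObj.comp_mul, ← Category.assoc _ a u, ← Category.assoc _ a' u, ha, ha',
      ← MonObj.mul_comp _ _ p, Category.assoc, Category.assoc, Category.assoc, hu, MonObj.mul_comp]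
    simp only [Category.assoc, hu]
  haveI : Flat (p.left ≫ u.left) := by
    rw [← Over.comp_left, hu]
    exact inferInstanceAs (Flat (q.left ≫ r.left))
  haveI : Flat (𝟙 G.left ≫ p.left) := by rw [Category.id_comp]; infer_instance
  haveI : Surjective (𝟙 G.left ≫ p.left) := by rw [Category.id_comp]; infer_instance
  haveI : Flat u.left := DescLib.flat_of_flat_comp_refined p.left u.left (𝟙 _)
  haveI : Surjective u.left := by
    haveI : Surjective (p.left ≫ u.left) := by
      rw [← Over.comp_left, hu]; exact inferInstanceAs (Surjective (q.left ≫ r.left))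
    exact Surjective.of_comp p.left u.left
  haveI : QuasiCompact C.hom := by
    haveI : CompactSpace Q.left := (quasiCompact_iff_compactSpace Q.hom).mp inferInstance
    haveI : CompactSpace C.left := r.left.surjective.compactSpace r.left.continuous
    exact (quasiCompact_iff_compactSpace C.hom).mpr inferInstance
  haveI : IsAffine C.left := GrpSchLib.isAffine_of_quotient u
  let w : M' ⟶ B := hrk.lift j' (toUnit M') ((hom_affine_eq_one hM' (j' ≫ r)).trans Hom.one_def)
  have hw : w ≫ b = j' := hrk.lift_fst _ _ _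
  ext x
  constructor
  · rintro ⟨m, rfl⟩
    rw [← hpb, ← hf]
    exact ⟨f.left (p₁.left m), rfl⟩
  · rintro ⟨m, rfl⟩
    obtain ⟨m', hm'⟩ := p₁.left.surjective (w.left m)
    refine ⟨m', ?_⟩
    rw [← hpb, ← hw]
    show b.left (p₁.left m') = b.left (w.left m)
    rw [hm']

/-- A group is anti-affine without smaller such subgroups iff it is minimal non-affine. -/
theorem nonaffine_minimal_iff (hG : ¬ Red.IsTrivialGrp G) :
    (¬ IsAffine G.left ∧ ∀ (H : Over (Spec (CommRingCat.of k))) [GrpObj H] (h : H ⟶ G) [IsMonHom h]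
      [IsClosedImmersion h.left], ¬ IsIso h → IsAffine H.left) ↔
    (Function.Bijective G.hom.appTop ∧ ∀ (H : Over (Spec (CommRingCat.of k))) [GrpObj H] (h : H ⟶ G) [IsMonHom h]
      [IsClosedImmersion h.left], ¬ IsIso h → Function.Bijective H.hom.appTop → Red.IsTrivialGrp H) := by
  have triv : ∀ (K : Over (Spec (CommRingCat.of k))) [GrpObj K] [IsAffine K.left],
      Function.Bijective K.hom.appTop → Red.IsTrivialGrp K := fun K _ _ hK => by
    have h : K.hom ≫ η[K].left = 𝟙 _ := by
      have := congrArg CommaMorphism.left (AntiAffine.eq_const_of_isAffine hK (𝟙 K) η[K])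
      rw [Category.comp_id] at this
      exact this.symm
    exact ⟨η[K].left, h, Over.w η[K]⟩
  obtain ⟨I, _, p, K, _, κ, _, hI, _, _, _, _, _, _, hk, hK⟩ := exists_antiAffine_kernel G
  haveI : Mono κ := Over.mono_of_mono_left _
  constructor
  · rintro ⟨hna, hsub⟩
    have hiso : IsIso κ := by
      by_contra hne
      haveI := hsub K κ hne
      have hKt := triv K hK
      haveI : IsAffineHom p.left := by
        haveI : IsIso K.hom := hKt
        have hpu : ∀ (T : Over (Spec (CommRingCat.of k))) (a b : T ⟶ G), a ≫ p = b ≫ p → a = b := fun T a b hab => by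
          let z := hk.lift (a * b⁻¹) (toUnit T) (by rw [MonObj.mul_comp, GrpObj.inv_comp, hab, mul_inv_cancel, Hom.one_def])
          have hz : z = 1 := Over.OverMorphism.ext (by rw [← cancel_mono K.hom, Over.w z, Over.w (1 : T ⟶ K)])
          have h := hk.lift_fst (a * b⁻¹) (toUnit T) (by rw [MonObj.mul_comp, GrpObj.inv_comp, hab, mul_inv_cancel, Hom.one_def])
          rw [show hk.lift (a * b⁻¹) (toUnit T) _ = 1 from hz, MonObj.one_comp] at h
          exact mul_inv_eq_one.mp h.symm
        haveI : Mono p.left := ⟨fun {T} a b hab => by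
          have e : b ≫ G.hom = a ≫ G.hom := by rw [← Over.w p, reassoc_of% hab]
          exact congrArg CommaMorphism.left (hpu (Over.mk (a ≫ G.hom)) (Over.homMk a rfl) (Over.homMk b e)
            (Over.OverMorphism.ext hab))⟩
        have hc : Cover p := GrpSchLib.NilpQuot.cover_of_lft p
        haveI : Flat p.left := hc.1
        haveI : Surjective p.left := hc.2.1
        haveI : LocallyOfFinitePresentation p.left := hc.2.2
        haveI : IsIso p.left := isIso_of_mono_cover p.left
        infer_instance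
      haveI := hI
      exact hna (isAffine_of_isAffineHom p.left)
    refine ⟨?_, fun H _ h _ _ hne hH => ?_⟩
    · haveI := hiso
      haveI : IsIso κ.left := ((Over.forget _).mapIso (asIso κ)).isIso_hom
      have he : K.hom.appTop = G.hom.appTop ≫ κ.left.appTop := by rw [← Scheme.Hom.comp_appTop, Over.w κ]
      rw [he] at hK
      exact (Function.Bijective.of_comp_iff' (ConcreteCategory.bijective_of_isIso κ.left.appTop) _).mp hK
    · haveI := hsub H h hne
      exact triv H hH
  · rintro ⟨hGa, hsub⟩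
    refine ⟨fun h => hG (triv G hGa), fun H _ h _ _ hne => ?_⟩
    haveI : LocallyOfFiniteType H.hom := by rw [← Over.w h]; infer_instance
    haveI : QuasiCompact H.hom := by rw [← Over.w h]; infer_instance
    obtain ⟨J, _, p', K', _, κ', _, hJ, _, _, _, _, _, _, hk', hK'⟩ := exists_antiAffine_kernel H
    haveI : Mono h := Over.mono_of_mono_left _
    haveI : IsClosedImmersion (κ' ≫ h).left := inferInstanceAs (IsClosedImmersion (κ'.left ≫ h.left))
    have hne' : ¬ IsIso (κ' ≫ h) := fun hi => hne (by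
      haveI := hi
      haveI : IsSplitEpi h := ⟨⟨⟨inv (κ' ≫ h) ≫ κ', by rw [Category.assoc, IsIso.inv_hom_id]⟩⟩⟩
      exact isIso_of_mono_of_isSplitEpi h)
    have hKt := hsub K' (κ' ≫ h) hne' hK'
    haveI : IsIso K'.hom := hKt
    have hpu : ∀ (T : Over (Spec (CommRingCat.of k))) (a b : T ⟶ H), a ≫ p' = b ≫ p' → a = b := fun T a b hab => by
      have h0 : (a * b⁻¹) ≫ p' = toUnit T ≫ η[J] := by
        rw [MonObj.mul_comp, GrpObj.inv_comp, hab, mul_inv_cancel, Hom.one_def]
      have hz : hk'.lift (a * b⁻¹) (toUnit T) h0 = 1 :=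
        Over.OverMorphism.ext (by rw [← cancel_mono K'.hom, Over.w (1 : T ⟶ K')]; exact Over.w _)
      have h := hk'.lift_fst (a * b⁻¹) (toUnit T) h0
      rw [hz, MonObj.one_comp] at h
      exact mul_inv_eq_one.mp h.symm
    haveI : Mono p'.left := ⟨fun {T} a b hab => by
      have e : b ≫ H.hom = a ≫ H.hom := by rw [← Over.w p', reassoc_of% hab]
      exact congrArg CommaMorphism.left (hpu (Over.mk (a ≫ H.hom)) (Over.homMk a rfl) (Over.homMk b e)
        (Over.OverMorphism.ext hab))⟩
    have hc : Cover p' := GrpSchLib.NilpQuot.cover_of_lft p'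
    haveI : Flat p'.left := hc.1
    haveI : Surjective p'.left := hc.2.1
    haveI : LocallyOfFinitePresentation p'.left := hc.2.2
    haveI : IsIso p'.left := isIso_of_mono_cover p'.left
    exact isAffine_of_isAffineHom p'.left

end Groth.Agent.GrpSchLib.Rosenlicht
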