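import Groth.Agent.GrpSchLib.KernelGrp
import Groth.Agent.GrpSchLib.TopDescent
import Groth.Agent.FBaseLib.Basic
import Groth.Agent.GrpSchLib.SmoothReduced
import Groth.Agent.S3278
import Groth.Agent.S3036
import Mathlib.AlgebraicGeometry.Sites.Fpqc
import Mathlib.AlgebraicGeometry.Morphisms.Smooth
import Mathlib.AlgebraicGeometry.Morphisms.Finite

/-!
Homomorphisms from smooth connected affine groups to proper groups are trivial.
-/

universe u

open CategoryTheory CategoryTheory.Limits MonoidalCategory CartesianMonoidalCategory MonObj GrpObj AlgebraicGeometry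

set_option linter.style.haveILetI false

namespace Groth.Agent.GrpSchLib.AffToProper

open TopDescent

variable {k : Type u} [Field k] {H A : Over (Spec (CommRingCat.of k))} [GrpObj H] [GrpObj A]

theorem hasLocSec_of_flat_surjective {S : Scheme.{u}} {U Y : Over S} (j : U ⟶ Y) [Flat j.left] [Surjective j.left]
    [QuasiCompact j.left] : HasLocSec Scheme.fpqcTopology j := by
  refine ⟨Sieve.generate (Presieve.singleton j.left), Precoverage.generate_mem_toGrothendieck
    j.left.singleton_mem_fpqcPrecoverage, ?_⟩
  rintro T _ ⟨_, b, _, ⟨⟩, rfl⟩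
  exact ⟨b, rfl⟩

/-- A homomorphism from a smooth connected affine group to a proper group is trivial. -/
theorem hom_eq_one [IsAffine H.left] [Smooth H.hom] [ConnectedSpace H.left] [IsProper A.hom] (f : H ⟶ A) [IsMonHom f] :
    f = 1 := by
  haveI : LocallyOfFiniteType H.hom := inferInstance
  obtain ⟨K, _, i, _, _, hN, hk⟩ := GrpSchLib.exists_kernel f
  obtain ⟨Q, _, q, _, hQa, hQf, _, _, hkq⟩ := Groth.Agent.S3278.result k H K i hN
  haveI : IsAffine Q.left := hQa
  haveI : LocallyOfFiniteType Q.hom := hQf
  haveI : IsAffineHom Q.hom := inferInstance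
  haveI : QuasiCompact q.left := inferInstance
  have hloc := hasLocSec_of_flat_surjective q
  have hinv : ∀ (T : Over (Spec (CommRingCat.of k))) (a b : T ⟶ H), a ≫ q = b ≫ q → a ≫ f = b ≫ f := by
    intro T a b hab
    have h1 : (a * b⁻¹) ≫ q = toUnit T ≫ η[Q] := by
      rw [MonObj.mul_comp, GrpObj.inv_comp, hab, mul_inv_cancel]
      rfl
    have h2 : (hkq.lift _ _ h1 ≫ i) ≫ f = 1 := by
      rw [Category.assoc, hk.w, ← Category.assoc, toUnit_unique (hkq.lift _ _ h1 ≫ toUnit K) (toUnit T)]
      rfl
    rw [hkq.lift_fst, MonObj.mul_comp, GrpObj.inv_comp, mul_inv_eq_one] at h2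
    exact h2
  obtain ⟨u, hu, -⟩ := hloc.existsUnique_desc f hinv
  haveI : IsMonHom u := by
    refine ⟨?_, ?_⟩
    · rw [← IsMonHom.one_hom q, Category.assoc, hu, IsMonHom.one_hom f]
    · refine (hloc.whiskerLeft Q).hom_ext ?_
      have hR : ∀ {W : Over (Spec (CommRingCat.of k))} {a b : Q ⊗ H ⟶ W}, (q ▷ H) ≫ a = (q ▷ H) ≫ b → a = b := by
        intro W a b h
        rw [← cancel_epi (β_ H Q).hom]
        refine (hloc.whiskerLeft H).hom_ext ?_
        rw [BraidedCategory.braiding_naturality_right_assoc, BraidedCategory.braiding_naturality_right_assoc]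
        exact congrArg ((β_ H H).hom ≫ ·) h
      apply hR
      rw [← MonoidalCategory.tensorHom_def_assoc, ← MonoidalCategory.tensorHom_def_assoc, ← IsMonHom.mul_hom_assoc, hu,
        IsMonHom.mul_hom, MonoidalCategory.tensorHom_comp_tensorHom_assoc, hu]
  have hker : ∀ {T : Over (Spec (CommRingCat.of k))} (t : T ⟶ Q), t ≫ u = 1 → t = 1 := by
    intro T t ht
    let c : pullback q.left t.left ⟶ T.left := pullback.snd q.left t.left
    let T' : Over (Spec (CommRingCat.of k)) := Over.mk (c ≫ T.hom)
    let cc : T' ⟶ T := Over.homMk c rfl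
    let g : T' ⟶ H := Over.homMk (pullback.fst q.left t.left) (by
      show pullback.fst q.left t.left ≫ H.hom = c ≫ T.hom
      rw [← Over.w q, pullback.condition_assoc, Over.w t])
    have hg : g ≫ q = cc ≫ t := Over.OverMorphism.ext pullback.condition
    have h1 : g ≫ f = toUnit T' ≫ η[A] := by
      rw [← hu, ← Category.assoc, hg, Category.assoc, ht, MonObj.comp_one]
      rfl
    have h2 : g ≫ q = 1 := by
      rw [← hk.lift_fst g (toUnit T') h1, Category.assoc, hkq.w, ← Category.assoc,
        toUnit_unique (hk.lift g (toUnit T') h1 ≫ toUnit K) (toUnit T')]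
      rfl
    haveI : Flat cc.left := inferInstanceAs (Flat (pullback.snd q.left t.left))
    haveI : Surjective cc.left := inferInstanceAs (Surjective (pullback.snd q.left t.left))
    haveI : QuasiCompact cc.left := inferInstanceAs (QuasiCompact (pullback.snd q.left t.left))
    refine (hasLocSec_of_flat_surjective cc).hom_ext ?_
    rw [← hg, h2, MonObj.comp_one]
  haveI : Mono u := ⟨fun a b hab => by
    refine mul_inv_eq_one.1 (hker (a * b⁻¹) ?_)
    rw [MonObj.mul_comp, GrpObj.inv_comp, hab, mul_inv_cancel]⟩
  haveI : LocallyOfFiniteType A.hom := inferInstance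
  haveI : QuasiCompact (u.left ≫ A.hom) := by rw [Over.w u]; infer_instance
  haveI : QuasiCompact u.left := QuasiCompact.of_comp u.left A.hom
  haveI : IsClosedImmersion u.left := Groth.Agent.S3036.result k Q A u
  haveI : IsProper Q.hom := by rw [← Over.w u]; infer_instance
  haveI : IsFinite Q.hom := IsFinite.iff_isProper_and_isAffineHom.2 ⟨inferInstance, inferInstance⟩
  haveI : IsReduced H.left := Groth.Agent.GrpSchLib.isReduced_of_smooth_field H.hom
  haveI : IsReduced Q.left := Groth.Agent.FBaseLib.isReduced_of_flat_surjective q.left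
  haveI : ConnectedSpace Q.left := q.left.surjective.connectedSpace q.left.continuous
  haveI : Finite Q.left := by
    have h := Q.hom.finite_preimage_singleton (IsLocalRing.closedPoint k)
    have h2 : Q.hom ⁻¹' {IsLocalRing.closedPoint k} = Set.univ :=
      Set.eq_univ_of_forall fun a => Subsingleton.elim (Q.hom a) _
    replace h : (Set.univ : Set Q.left).Finite := h2 ▸ h
    exact Set.finite_univ_iff.1 h
  haveI : DiscreteTopology Q.left := by
    have h := Q.hom.isDiscrete_preimage_singleton (IsLocalRing.closedPoint k)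
    have h2 : Q.hom ⁻¹' {IsLocalRing.closedPoint k} = Set.univ :=
      Set.eq_univ_of_forall fun a => Subsingleton.elim (Q.hom a) _
    have h4 : _root_.IsDiscrete (Set.univ : Set Q.left) := h2 ▸ h
    haveI := h4.to_subtype
    exact (Homeomorph.Set.univ Q.left).discreteTopology
  haveI : Subsingleton Q.left := PreconnectedSpace.trivial_of_discrete
  haveI : IsSeparated Q.hom := inferInstance
  haveI : IsClosedImmersion (η[Q].left ≫ Q.hom) := by
    rw [Over.w η[Q]]
    exact inferInstanceAs (IsClosedImmersion (𝟙 _))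
  haveI : IsClosedImmersion η[Q].left := IsClosedImmersion.of_comp η[Q].left Q.hom
  haveI : Surjective η[Q].left := ⟨fun a => ⟨IsLocalRing.closedPoint k, Subsingleton.elim _ _⟩⟩
  haveI : IsIso η[Q].left := isIso_of_isClosedImmersion_of_surjective _
  haveI : IsIso ((Over.forget _).map η[Q]) := ‹IsIso η[Q].left›
  haveI : IsIso η[Q] := isIso_of_reflects_iso η[Q] (Over.forget _)
  have hq : q = 1 := by
    rw [← cancel_mono (inv η[Q])]
    exact toUnit_unique _ _
  rw [← hu, hq, MonObj.one_comp]

end Groth.Agent.GrpSchLib.AffToProper
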