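import Groth.Agent.GrpSchLib.SubgroupDescent
import Groth.Agent.DescLib.SigmaLocal

/-!
# fpqc descent of affine monomorphic subgroups
-/

set_option autoImplicit false
set_option backward.isDefEq.respectTransparency false
set_option backward.isDefEq.respectTransparency.types false

universe u

open CategoryTheory CategoryTheory.Limits MonoidalCategory CartesianMonoidalCategory MonObj GrpObj AlgebraicGeometry

namespace Groth.Agent.GrpSchLib.MonoSubgroupDescent

/-- Points of a base change followed by a base changed morphism. -/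
theorem theta_map' {S S' : Scheme.{u}} (π : S' ⟶ S) {A B : Over S} {Y : Over S'} (a : Y ⟶ (Over.pullback π).obj A)
    (f : A ⟶ B) : DSPtsLib.theta π (a ≫ (Over.pullback π).map f) = DSPtsLib.theta π a ≫ f :=
  (Over.mapPullbackAdj π).homEquiv_naturality_right_symm _ _

variable {S S' : Scheme.{u}} {π : S' ⟶ S}

/-- Descent data affine over a single fpqc covering are effective. -/
theorem effective (hπ : FpqcDescLib.IsCovering π) (D : Desc.SchDD π) [h : IsAffineHom D.obj.hom] :
    ∃ U : Over S, Nonempty ((Desc.toDD π).obj U ≅ D) :=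
  (DescLib.isEffective_ofSchDD_iff π D).1 (DescLib.effective_of_affine_case @IsAffineHom
    (DescLib.prop_sigmaMap' @IsAffineHom) (fun X S p _ _ _ _ D (hD : IsAffineHom D.obj.hom) =>
      haveI : IsAffine D.obj.left := isAffine_of_isAffineHom D.obj.hom
      DescLib.effective_affine p D) (fun _ : PUnit.{u + 1} => π)
    (by rw [Presieve.ofArrows_pUnit]; exact hπ) _ fun _ => h)

variable {G : Over S} {H' : Over S'} (j' : H' ⟶ Red.bc π G)

/-- A monomorphism affine over the covering whose pullbacks agree descends. -/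
theorem exists_descend [Mono j'] [IsAffineHom H'.hom] (hπ : FpqcDescLib.IsCovering π)
    (key : ∀ (T : Scheme.{u}) (a b : T ⟶ pullback G.hom π), a ≫ pullback.fst G.hom π = b ≫ pullback.fst G.hom π →
      (∃ l, l ≫ j'.left = a) → ∃ l, l ≫ j'.left = b) :
    ∃ (H : Over S) (j : H ⟶ G) (φ : Red.bc π H ≅ H'), Mono j ∧ φ.hom ≫ j' = (Over.pullback π).map j := by
  haveI : Mono j'.left := inferInstance
  let gpt : ∀ {T : Scheme.{u}} {x : T ⟶ S'}, Desc.Lifts H' x → (T ⟶ G.left) := fun v =>
    v.1 ≫ j'.left ≫ pullback.fst G.hom π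
  have hval : ∀ {T : Scheme.{u}} {x : T ⟶ S'} (v : Desc.Lifts H' x), v.1 ≫ j'.left ≫ pullback.snd G.hom π = x :=
    fun v => by rw [show j'.left ≫ pullback.snd G.hom π = H'.hom from Over.w j']; exact v.2
  have hex : ∀ {T : Scheme.{u}} (x₀ x₁ : T ⟶ S') (_ : x₀ ≫ π = x₁ ≫ π) (v : Desc.Lifts H' x₀),
      ∃ w : Desc.Lifts H' x₁, gpt w = gpt v := by
    intro T x₀ x₁ h v
    let b : T ⟶ pullback G.hom π := pullback.lift (gpt v) x₁ (by
      simp only [gpt, Category.assoc, pullback.condition]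
      rw [reassoc_of% (hval v), h])
    obtain ⟨l, hl⟩ := key T (v.1 ≫ j'.left) b
      (by rw [pullback.lift_fst]; exact Category.assoc _ _ _) ⟨v.1, rfl⟩
    refine ⟨⟨l, ?_⟩, ?_⟩
    · rw [← Over.w j', reassoc_of% hl]
      exact pullback.lift_snd _ _ _
    · show l ≫ j'.left ≫ _ = _
      rw [reassoc_of% hl]
      exact pullback.lift_fst _ _ _
  have huniq : ∀ {T : Scheme.{u}} {x : T ⟶ S'} (v w : Desc.Lifts H' x), gpt v = gpt w → v = w := fun v w h =>
    Subtype.ext ((cancel_mono j'.left).mp (pullback.hom_ext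
      (by rw [Category.assoc, Category.assoc]; exact h) (by rw [Category.assoc, Category.assoc, hval v, hval w])))
  choose tr htr using @hex
  let D : Desc.SchDD π :=
    { obj := H'
      φ := fun T x₀ x₁ h =>
        { toFun := tr x₀ x₁ h
          invFun := tr x₁ x₀ h.symm
          left_inv := fun v => huniq _ _ (by rw [htr, htr])
          right_inv := fun v => huniq _ _ (by rw [htr, htr]) }
      φ_natural := fun T T' g x₀ x₁ h h' v v' hv' => by
        have := huniq (tr (g ≫ x₀) (g ≫ x₁) h' v') ⟨g ≫ (tr x₀ x₁ h v).1, by rw [Category.assoc, (tr x₀ x₁ h v).2]⟩ (by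
          rw [htr]
          show v'.1 ≫ _ = (g ≫ (tr x₀ x₁ h v).1) ≫ _
          have e : (tr x₀ x₁ h v).1 ≫ j'.left ≫ pullback.fst G.hom π = v.1 ≫ j'.left ≫ pullback.fst G.hom π := htr _ _ _ _
          rw [hv', Category.assoc, Category.assoc, e])
        exact congrArg Subtype.val this
      φ_self := fun T x v => huniq _ _ (htr _ _ _ _)
      φ_comp := fun T x₀ x₁ x₂ h₀ h₁ v => huniq _ _ (by
        show gpt (tr x₁ x₂ h₁ (tr x₀ x₁ h₀ v)) = gpt (tr x₀ x₂ _ v)
        rw [htr, htr, htr]) }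
  haveI : IsAffineHom D.obj.hom := ‹IsAffineHom H'.hom›
  obtain ⟨U, ⟨e⟩⟩ := effective hπ D
  let eh : Over.mk (pullback.fst π U.hom) ⟶ H' := e.hom.hom
  let eo : Over.mk (pullback.fst π U.hom) ≅ H' := ⟨e.hom.hom, e.inv.hom,
    congrArg (fun φ => φ.hom) e.hom_inv_id, congrArg (fun φ => φ.hom) e.inv_hom_id⟩
  let m : pullback π U.hom ⟶ G.left := eh.left ≫ j'.left ≫ pullback.fst G.hom π
  have hcovU : FpqcDescLib.Covers (pullback.snd π U.hom) :=
    (FpqcDescLib.covers_of_isCovering hπ).pullback U.hom _ (pullback.fst π U.hom) (IsPullback.of_hasPullback π U.hom).flip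
  obtain ⟨j₀, hj₀, -⟩ := hcovU.desc m fun T a b hab => by
    let x₀ := a ≫ pullback.fst π U.hom
    let x₁ := b ≫ pullback.fst π U.hom
    have hx : x₀ ≫ π = x₁ ≫ π := by
      simp only [x₀, x₁, Category.assoc, pullback.condition]
      rw [reassoc_of% hab]
    let v : Desc.Lifts ((Desc.toDD π).obj U).obj x₀ := ⟨a, rfl⟩
    let w : Desc.Lifts H' x₀ := ⟨a ≫ eh.left, by rw [Category.assoc]; exact congrArg (a ≫ ·) (Over.w eh)⟩
    have hc := e.hom.comm x₀ x₁ hx v w rfl
    have hb : (Desc.canMap π U x₀ x₁ hx ⟨a, rfl⟩).1 = b := by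
      rw [Desc.canMap_val]
      refine pullback.hom_ext (by rw [pullback.lift_fst]) ?_
      rw [pullback.lift_snd]
      exact hab
    have h2 : (tr x₀ x₁ hx w).1 = b ≫ eh.left := hc.trans (congrArg (· ≫ eh.left) hb)
    have h3 := htr x₀ x₁ hx w
    simp only [gpt, h2, w, Category.assoc] at h3
    simp only [m]
    exact h3.symm
  have hj₀w : j₀ ≫ G.hom = U.hom := by
    haveI := hcovU.epi
    rw [← cancel_epi (pullback.snd π U.hom), reassoc_of% hj₀, ← pullback.condition]
    simp only [m, Category.assoc, pullback.condition]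
    have h2 : j'.left ≫ pullback.snd G.hom π = H'.hom := Over.w j'
    have h3 : eh.left ≫ H'.hom = pullback.fst π U.hom := Over.w eh
    rw [reassoc_of% h2, reassoc_of% h3, pullback.condition]
  let j : U ⟶ G := Over.homMk j₀ hj₀w
  let s : Red.bc π U ≅ Over.mk (pullback.fst π U.hom) :=
    Over.isoMk (pullbackSymmetry U.hom π) (pullbackSymmetry_hom_comp_fst _ _)
  have hφ : (s ≪≫ eo).hom ≫ j' = (Over.pullback π).map j := by
    refine Over.OverMorphism.ext (pullback.hom_ext ?_ ?_)
    · show ((pullbackSymmetry U.hom π).hom ≫ eh.left ≫ j'.left) ≫ _ = _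
      have e1 : ((Over.pullback π).map j).left ≫ pullback.fst G.hom π = pullback.fst U.hom π ≫ j₀ := by simp [j]
      rw [e1, ← pullbackSymmetry_hom_comp_snd U.hom π]
      simp only [Category.assoc]
      rw [hj₀]
    · exact (Over.w _).trans (Over.w ((Over.pullback π).map j)).symm
  refine ⟨U, j, s ≪≫ eo, ⟨fun {Y} a b hab => ?_⟩, hφ⟩
  haveI : Epi (pullback.fst Y.hom π) := ((FpqcDescLib.covers_of_isCovering hπ).pullback Y.hom _
    (pullback.snd Y.hom π) (IsPullback.of_hasPullback Y.hom π)).epi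
  haveI : Mono ((Over.pullback π).map j) := by rw [← hφ]; infer_instance
  have h : (Over.pullback π).map a = (Over.pullback π).map b := by
    rw [← cancel_mono ((Over.pullback π).map j), ← Functor.map_comp, ← Functor.map_comp, hab]
  refine Over.OverMorphism.ext ((cancel_epi (pullback.fst Y.hom π)).mp ?_)
  have h' := congrArg (fun m => m.left ≫ pullback.fst U.hom π) h
  simpa using h'

/-- A subgroup affine over the covering whose pullbacks agree descends. -/
theorem exists_descent [GrpObj G] [GrpObj H'] [IsMonHom j'] [Mono j'] [IsAffineHom H'.hom]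
    (hπ : FpqcDescLib.IsCovering π)
    (key : ∀ (T : Scheme.{u}) (a b : T ⟶ pullback G.hom π), a ≫ pullback.fst G.hom π = b ≫ pullback.fst G.hom π →
      (∃ l, l ≫ j'.left = a) → ∃ l, l ≫ j'.left = b) :
    ∃ (H : Over S) (_ : GrpObj H) (j : H ⟶ G) (φ : Red.bc π H ≅ H'), IsMonHom j ∧ Mono j ∧ IsMonHom φ.hom ∧
      φ.hom ≫ j' = (Over.pullback π).map j := by
  obtain ⟨H, j, φ, hj, hφ⟩ := exists_descend j' hπ key
  haveI := hj
  let k : ∀ Y : Over S, (Over.map π).obj ((Over.pullback π).obj Y) ⟶ Y := fun Y => DSPtsLib.theta π (𝟙 _)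
  have hk : ∀ {Y : Over S}, FpqcDescLib.Covers (k Y).left := fun {Y} => by
    show FpqcDescLib.Covers (𝟙 (pullback Y.hom π) ≫ pullback.fst Y.hom π)
    rw [Category.id_comp]
    exact (FpqcDescLib.covers_of_isCovering hπ).pullback Y.hom _ (pullback.snd Y.hom π) (IsPullback.of_hasPullback Y.hom π)
  have hin : ∀ {Y : Over S} (x : Y ⟶ G), (∃ h, h ≫ j' = (Over.pullback π).map x) → ∃ y, y ≫ j = x := by
    intro Y x ⟨h, hh⟩
    have hg : DSPtsLib.theta π (h ≫ φ.inv) ≫ j = k Y ≫ x := by
      rw [← theta_map', ← theta_map', Category.assoc, ← hφ, φ.inv_hom_id_assoc, hh,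
        Category.id_comp]
    obtain ⟨y, hy, -⟩ := hk.over_desc (DSPtsLib.theta π (h ≫ φ.inv)) fun T a b e => by
      rw [← cancel_mono j, Category.assoc, Category.assoc, hg, reassoc_of% e]
    haveI := (hk (Y := Y)).over_epi
    exact ⟨y, by rw [← cancel_epi (k Y), reassoc_of% hy, hg]⟩
  have hout : ∀ {Y : Over S} (y : Y ⟶ H), ∃ h, h ≫ j' = (Over.pullback π).map (y ≫ j) := fun {Y} y =>
    ⟨(Over.pullback π).map y ≫ φ.hom, by rw [Category.assoc, hφ, Functor.map_comp]⟩
  have hlm : ∀ {Y : Over S} (x x' : Y ⟶ G),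
      (Over.pullback π).map (x * x') = (Over.pullback π).map x * (Over.pullback π).map x' := fun x x' => by
    refine (DSPtsLib.theta_bijective π).1 ?_
    rw [DSPtsLib.theta_mul, ← Category.id_comp ((Over.pullback π).map (x * x')),
      ← Category.id_comp ((Over.pullback π).map x), ← Category.id_comp ((Over.pullback π).map x'),
      theta_map', theta_map', theta_map', MonObj.comp_mul]
  have hl1 : ∀ {Y : Over S}, (Over.pullback π).map (1 : Y ⟶ G) = 1 := fun {Y} => by
    have h := hlm (1 : Y ⟶ G) 1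
    rwa [_root_.one_mul, left_eq_mul] at h
  have hli : ∀ {Y : Over S} (x : Y ⟶ G), (Over.pullback π).map x⁻¹ = ((Over.pullback π).map x)⁻¹ := fun x => by
    refine eq_inv_of_mul_eq_one_left ?_
    rw [← hlm, inv_mul_cancel, hl1]
  obtain ⟨η', he⟩ := hin η[G] ⟨1, by
    rw [show η[G] = (1 : 𝟙_ _ ⟶ G) by rw [Hom.one_def, toUnit_unique (toUnit _) (𝟙 _), Category.id_comp], hl1,
      MonObj.one_comp]⟩
  obtain ⟨μ', hm⟩ := hin ((fst H H ≫ j) * (snd H H ≫ j)) (by
    obtain ⟨a, ha⟩ := hout (fst H H)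
    obtain ⟨b, hb⟩ := hout (snd H H)
    exact ⟨a * b, by rw [MonObj.mul_comp, ha, hb, hlm]⟩)
  obtain ⟨ι', hv⟩ := hin j⁻¹ (by
    obtain ⟨a, ha⟩ := hout (𝟙 H)
    rw [Category.id_comp] at ha
    refine ⟨a⁻¹, ?_⟩
    rw [hli, ← ha]
    exact eq_inv_of_mul_eq_one_left (by rw [← MonObj.mul_comp, inv_mul_cancel, MonObj.one_comp]))
  obtain ⟨str, hjm⟩ := exists_grpObj_of_mono j η' he μ' hm ι' hv
  letI := str
  haveI := hjm
  refine ⟨H, str, j, φ, hjm, hj, ?_, hφ⟩
  constructor
  · rw [← cancel_mono j', Category.assoc, hφ, IsMonHom.one_hom j', IsMonHom.one_hom ((Over.pullback π).map j)]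
  · rw [← cancel_mono j', Category.assoc, Category.assoc, hφ, IsMonHom.mul_hom j',
      IsMonHom.mul_hom ((Over.pullback π).map j), ← Category.assoc (φ.hom ⊗ₘ φ.hom),
      MonoidalCategory.tensorHom_comp_tensorHom, hφ]

end Groth.Agent.GrpSchLib.MonoSubgroupDescent
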