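import Groth.Agent.GrpSchLib.Homogeneous
import Groth.Agent.GrpSchLib.HomFlat
import Groth.Agent.GrpSchLib.Action
import Groth.Agent.GrpSchLib.QuotStabGen
import Groth.Agent.GrpSchLib.Coincidence
import Groth.Agent.H23.RedSub
import Groth.Agent.FBaseLib.Basic
import Groth.Agent.FlatMisc.GenFlat
import Groth.Agent.DescLib.ImmDescend
import Groth.Prelude.Def_AGF

/-! An orbit of a reduced group is immersed. -/

set_option backward.isDefEq.respectTransparency false
set_option backward.isDefEq.respectTransparency.types false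
set_option linter.style.haveILetI false

universe u

open CategoryTheory CategoryTheory.Limits MonoidalCategory CartesianMonoidalCategory MonObj AlgebraicGeometry

namespace Groth.Agent.GrpSchLib.OrbitImmersion

/-- A morphism which is an immersion above each member of an open family covering its image is an immersion. -/
theorem isImmersion_of_cover {Y X : Scheme.{u}} (f : Y ⟶ X) {ι' : Type*} (V : ι' → X.Opens)
    (hV : Set.range f ⊆ ⋃ i, (V i : Set X)) (h : ∀ i, IsImmersion ((f ⁻¹ᵁ V i).ι ≫ f)) : IsImmersion f := by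
  let U : X.Opens := ⨆ i, V i
  let f' := IsOpenImmersion.lift U.ι f (by simpa [U] using hV)
  have hf : f' ≫ U.ι = f := IsOpenImmersion.lift_fac _ _ _
  haveI : IsImmersion f' := by
    refine IsZariskiLocalAtTarget.of_iSup_eq_top (P := @IsImmersion) (fun i => U.ι ⁻¹ᵁ V i) ?_ fun i => ?_
    · rw [eq_top_iff]
      intro x _
      obtain ⟨i, hi⟩ := TopologicalSpace.Opens.mem_iSup.mp (show x.1 ∈ ⨆ i, V i from x.2)
      exact TopologicalSpace.Opens.mem_iSup.mpr ⟨i, hi⟩
    · have h2 := h i
      have h3 : IsImmersion ((f' ∣_ U.ι ⁻¹ᵁ V i) ≫ (U.ι ⁻¹ᵁ V i).ι ≫ U.ι) := by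
        rw [morphismRestrict_ι_assoc, hf]
        have e : f' ⁻¹ᵁ U.ι ⁻¹ᵁ V i = f ⁻¹ᵁ V i := by rw [← Scheme.Hom.comp_preimage, hf]
        rw [e]
        exact h2
      haveI := h3
      exact IsImmersion.of_comp (f' ∣_ U.ι ⁻¹ᵁ V i) ((U.ι ⁻¹ᵁ V i).ι ≫ U.ι)
  rw [← hf]
  infer_instance

section

variable {C : Type*} [Category C] [CartesianMonoidalCategory C] {G X P : C} [GrpObj G]

omit [GrpObj G] in
theorem lift_whiskerRight' {T A B P : C} (f : A ⟶ B) (u : T ⟶ A) (v : T ⟶ P) :
    lift u v ≫ f ▷ P = lift (u ≫ f) v := by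
  apply CartesianMonoidalCategory.hom_ext <;> simp

end

variable {k : Type u} [Field k]

/-- Translation by a point of the base change of an acted upon scheme. -/
noncomputable def transAct {G X P : Over (Spec (CommRingCat.of k))} [GrpObj G] (a : AlgGrp.Action G X)
    (z : P ⟶ G) : X ⊗ P ≅ X ⊗ P where
  hom := lift (lift (snd X P ≫ z) (fst X P) ≫ a.act) (snd X P)
  inv := lift (lift (snd X P ≫ z)⁻¹ (fst X P) ≫ a.act) (snd X P)
  hom_inv_id := by
    apply CartesianMonoidalCategory.hom_ext
    · rw [Category.assoc, lift_fst, ← Category.assoc, comp_lift, lift_fst, GrpObj.comp_inv,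
        ← Category.assoc, lift_snd, act_mul, inv_mul_cancel, act_one, Category.id_comp]
    · simp
  inv_hom_id := by
    apply CartesianMonoidalCategory.hom_ext
    · rw [Category.assoc, lift_fst, ← Category.assoc, comp_lift, lift_fst,
        ← Category.assoc, lift_snd, act_mul, mul_inv_cancel, act_one, Category.id_comp]
    · simp

theorem transAct_whiskerRight {G X Y P : Over (Spec (CommRingCat.of k))} [GrpObj G] (a : AlgGrp.Action G X)
    (b : AlgGrp.Action G Y) (f : Y ⟶ X) (hf : (G ◁ f) ≫ a.act = b.act ≫ f) (z : P ⟶ G) :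
    (transAct b z).hom ≫ f ▷ P = f ▷ P ≫ (transAct a z).hom := by
  apply CartesianMonoidalCategory.hom_ext
  · simp only [transAct, Category.assoc, whiskerRight_fst, lift_fst_assoc, lift_fst]
    rw [← hf, lift_whiskerLeft_assoc, ← Category.assoc, comp_lift, whiskerRight_fst, ← Category.assoc,
      whiskerRight_snd]
  · simp [transAct]

/-- The action induced on a quotient of a group inside an acted upon scheme. -/
theorem exists_action {G X Q : Over (Spec (CommRingCat.of k))} [GrpObj G] (a : AlgGrp.Action G X)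
    (o : 𝟙_ (Over (Spec (CommRingCat.of k))) ⟶ X) (p : G ⟶ Q) (m : Q ⟶ X) [Mono m] [Surjective p.left]
    [Flat p.left] [LocallyOfFinitePresentation p.left] (hpm : p ≫ m = a.orbitMap o) :
    ∃ b : AlgGrp.Action G Q, (G ◁ m) ≫ a.act = b.act ≫ m ∧ b.orbitMap (η[G] ≫ p) = p ∧
      (η[G] ≫ p) ≫ m = o ∧ (G ◁ p) ≫ b.act = μ[G] ≫ p := by
  haveI : Surjective (G ◁ p).left :=
    MorphismProperty.of_isPullback (P := @Surjective) (isPullback_whiskerLeft (W := G) p).flip inferInstance
  haveI : Flat (G ◁ p).left :=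
    MorphismProperty.of_isPullback (P := @Flat) (isPullback_whiskerLeft (W := G) p).flip inferInstance
  haveI : LocallyOfFinitePresentation (G ◁ p).left :=
    MorphismProperty.of_isPullback (P := @LocallyOfFinitePresentation) (isPullback_whiskerLeft (W := G) p).flip
      inferInstance
  have hw : (μ[G] ≫ p) ≫ m = (G ◁ p) ≫ (G ◁ m) ≫ a.act := by
    rw [Category.assoc, hpm, ← MonoidalCategory.whiskerLeft_comp_assoc, hpm,
      show (G ◁ a.orbitMap o) = lift (fst G G) (snd G G ≫ a.orbitMap o) from by
        apply CartesianMonoidalCategory.hom_ext <;> simp,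
      comp_orbitMap, comp_orbitMap, act_mul]
    congr 1
    rw [Hom.mul_def, lift_fst_snd, Category.id_comp]
  obtain ⟨act, hact⟩ := AlgStLib.MonoFactor.exists_lift_of_fppf_over (G ◁ p) ((G ◁ m) ≫ a.act) (μ[G] ≫ p) m hw
  let b : AlgGrp.Action G Q :=
    { act := act
      one_act := by
        rw [← cancel_mono m, Category.assoc, hact, ← whisker_exchange_assoc, a.one_act, leftUnitor_naturality]
      mul_act := by
        rw [← cancel_mono m, Category.assoc, hact, ← whisker_exchange_assoc, a.mul_act,
          Category.assoc, Category.assoc, hact, associator_naturality_right_assoc,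
          ← MonoidalCategory.whiskerLeft_comp_assoc, ← hact, MonoidalCategory.whiskerLeft_comp_assoc, hact] }
  have hy : (η[G] ≫ p) ≫ m = o := by
    rw [Category.assoc, hpm, comp_orbitMap, toUnit_unique (toUnit (𝟙_ _)) (𝟙 _), Category.id_comp]
    have e : η[G] = (1 : 𝟙_ (Over (Spec (CommRingCat.of k))) ⟶ G) := by
      rw [Hom.one_def, toUnit_unique (toUnit (𝟙_ _)) (𝟙 _), Category.id_comp]
    rw [e, act_one]
  refine ⟨b, hact.symm, ?_, hy, ?_⟩
  · rw [← cancel_mono m, hpm]
    show (lift (𝟙 G) (toUnit G ≫ η[G] ≫ p) ≫ act) ≫ m = lift (𝟙 G) (toUnit G ≫ o) ≫ a.act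
    rw [Category.assoc, hact, lift_whiskerLeft_assoc, Category.assoc, hy]
  · rw [← cancel_mono m, hw, Category.assoc, hact]

variable {G X Y : Over (Spec (CommRingCat.of k))} [GrpObj G] [LocallyOfFiniteType G.hom] [QuasiCompact G.hom]
  [IsReduced G.left] [LocallyOfFiniteType X.hom] [LocallyOfFiniteType Y.hom]

/-- The quotient of a reduced group by the stabiliser of a point is immersed in the acted upon scheme. -/
theorem main (a : AlgGrp.Action G X) (o : 𝟙_ (Over (Spec (CommRingCat.of k))) ⟶ X) (p : G ⟶ Y) (m : Y ⟶ X)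
    [Mono m] [Surjective p.left] [Flat p.left] [LocallyOfFinitePresentation p.left]
    (hpm : p ≫ m = a.orbitMap o) :
    IsImmersion m.left ∧ IsReduced Y.left ∧ Set.range m.left = Set.range (a.orbitMap o).left := by
  let K := AlgebraicClosure k
  let σ : Spec (CommRingCat.of K) ⟶ Spec (CommRingCat.of k) := Spec.map (CommRingCat.ofHom (algebraMap k K))
  let P : Over (Spec (CommRingCat.of k)) := Over.mk σ
  have : Surjective σ := ⟨Function.surjective_to_subsingleton (α := Spec (CommRingCat.of K))
    (β := Spec (CommRingCat.of k)) _⟩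
  have : Flat σ := by
    rw [HasRingHomProperty.Spec_iff (P := @Flat)]
    exact RingHom.Flat.of_isField (Field.toIsField k) _
  haveI : Mono m.left := inferInstanceAs (Mono ((Over.forget _).map m))
  haveI hY : IsReduced Y.left := FBaseLib.isReduced_of_flat_surjective p.left
  let φ := a.orbitMap o
  haveI : CompactSpace G.left := (quasiCompact_iff_compactSpace G.hom).mp inferInstance
  haveI : CompactSpace Y.left := ⟨by
    rw [← Set.range_eq_univ.mpr p.left.surjective]
    exact isCompact_range p.left.continuous⟩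
  haveI : QuasiCompact Y.hom := (quasiCompact_iff_compactSpace Y.hom).mpr inferInstance
  haveI : IsLocallyNoetherian X.left := LocallyOfFiniteType.isLocallyNoetherian X.hom
  haveI : QuasiSeparated X.hom := QuasiSeparated.of_quasiSeparatedSpace X.hom
  haveI : QuasiCompact (m.left ≫ X.hom) := by rw [Over.w m]; infer_instance
  haveI : QuasiCompact m.left := QuasiCompact.of_comp m.left X.hom
  haveI : QuasiCompact (φ.left ≫ X.hom) := by rw [Over.w φ]; infer_instance
  haveI : QuasiCompact φ.left := QuasiCompact.of_comp φ.left X.hom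
  haveI : Nonempty G.left := ⟨η[G].left (default : Spec (CommRingCat.of k))⟩
  haveI : Nonempty Y.left := Nonempty.map p.left inferInstance
  have hrange : Set.range m.left = Set.range φ.left := by
    show _ = Set.range (a.orbitMap o).left
    rw [← hpm, Over.comp_left, Scheme.Hom.comp_base, TopCat.coe_comp]
    exact (p.left.surjective.range_comp _).symm
  have hR : IsLocallyClosed (Set.range φ.left) :=
    isLocallyClosed_range_of_homogeneous (K := K) φ fun w w' => by
      obtain ⟨S, T, h1, -, h2⟩ := orbitMap_homogeneous a o w w'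
      exact ⟨S, T, h1, h2⟩
  obtain ⟨b, hb, hby, -, hbp⟩ := exists_action a o p m hpm
  -- generic immersion
  obtain ⟨O, jO, _, _, hO⟩ := H23.RedSub.exists_reduced_subscheme X.left hR
  obtain ⟨g, hg⟩ := H23.RedSub.exists_lift m.left jO (hrange.trans hO.symm).le
  haveI : Mono (g ≫ jO) := by rw [hg]; infer_instance
  haveI : Mono g := mono_of_mono g jO
  haveI : LocallyOfFiniteType (m.left ≫ X.hom) := by rw [Over.w m]; infer_instance
  haveI : LocallyOfFiniteType (g ≫ jO) := by rw [hg]; exact locallyOfFiniteType_of_comp m.left X.hom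
  haveI : LocallyOfFiniteType g := locallyOfFiniteType_of_comp g jO
  haveI : QuasiCompact (g ≫ jO) := by rw [hg]; infer_instance
  haveI : QuasiCompact g := QuasiCompact.of_comp g jO
  haveI : Nonempty O := Nonempty.map g inferInstance
  obtain ⟨W, hWne, -, _, _⟩ := FlatMisc.exists_flat_open g ⊤ Set.univ_nonempty
  haveI : Mono (g ∣_ W) := MorphismProperty.of_isPullback (P := MorphismProperty.monomorphisms Scheme.{u})
    (isPullback_morphismRestrict g W).flip (MorphismProperty.monomorphisms.infer_property g)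
  haveI : IsOpenImmersion (g ∣_ W) := IsOpenImmersion.of_flat_of_mono _
  obtain ⟨V', hV', hVW'⟩ := jO.isEmbedding.isInducing.isOpen_iff.mp W.2
  let V : X.left.Opens := ⟨V', hV'⟩
  have hVW : jO ⁻¹ᵁ V = W := TopologicalSpace.Opens.ext hVW'
  have himm : IsImmersion ((m.left ⁻¹ᵁ V).ι ≫ m.left) := by
    have e : m.left ⁻¹ᵁ V = g ⁻¹ᵁ W := by rw [← hg, Scheme.Hom.comp_preimage, hVW]
    rw [e, ← hg, ← morphismRestrict_ι_assoc]
    infer_instance
  have hVne : ((m.left ⁻¹ᵁ V : Y.left.Opens) : Set Y.left).Nonempty := by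
    obtain ⟨x, hx⟩ := hWne
    obtain ⟨y, hy⟩ := (hrange.trans hO.symm).ge ⟨x, rfl⟩
    refine ⟨y, ?_⟩
    show m.left y ∈ V
    rw [hy]
    rw [← hVW] at hx
    exact hx
  -- over the algebraic closure
  let W₀ : Over (Spec (CommRingCat.of k)) := Over.mk ((m.left ⁻¹ᵁ V).ι ≫ Y.hom)
  let jV : W₀ ⟶ Y := Over.homMk (m.left ⁻¹ᵁ V).ι rfl
  let j := (jV ▷ P).left
  haveI : IsOpenImmersion j :=
    property_whiskerRight jV P @IsOpenImmersion (inferInstanceAs (IsOpenImmersion (m.left ⁻¹ᵁ V).ι))
  let mK := (m ▷ P).left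
  haveI : IsImmersion (j ≫ mK) := by
    rw [← Over.comp_left, ← comp_whiskerRight]
    exact property_whiskerRight _ P @IsImmersion himm
  let V₁ : (X ⊗ P).left.Opens := (fst X P).left ⁻¹ᵁ V
  have hj : Set.range j = mK ⁻¹' (V₁ : Set (X ⊗ P).left) := by
    ext y
    have e : (fst X P).left (mK y) = m.left ((fst Y P).left y) := by
      rw [← Scheme.Hom.comp_apply, (isPullback_whiskerRight m P).w, Scheme.Hom.comp_apply]
    constructor
    · rintro ⟨z, rfl⟩
      show (fst X P).left (mK (j z)) ∈ V
      rw [e, ← Scheme.Hom.comp_apply j, (isPullback_whiskerRight jV P).w, Scheme.Hom.comp_apply]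
      exact ((fst W₀ P).left z).2
    · intro hy
      replace hy : (fst X P).left (mK y) ∈ V := hy
      rw [e] at hy
      obtain ⟨z, hz, -⟩ := Scheme.exists_preimage_of_isPullback (isPullback_whiskerRight jV P) y
        ⟨(fst Y P).left y, hy⟩ rfl
      exact ⟨z, hz⟩
  let qY : (Y ⊗ P).left ⟶ Spec (CommRingCat.of K) := pullback.snd Y.hom σ
  have : LocallyOfFiniteType qY := inferInstanceAs (LocallyOfFiniteType (pullback.snd Y.hom σ))
  have : JacobsonSpace (Y ⊗ P).left := LocallyOfFiniteType.jacobsonSpace qY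
  have : Surjective (fst Y P).left := inferInstanceAs (Surjective (pullback.fst Y.hom σ))
  haveI : LocallyOfFiniteType p.left := inferInstance
  have hmK : IsImmersion mK := by
    refine isImmersion_of_cover mK (fun z : P ⟶ G => (transAct a z).inv.left ⁻¹ᵁ V₁) ?_ fun z => ?_
    · rintro _ ⟨y, rfl⟩
      obtain ⟨y₀, hy₀⟩ := hVne
      obtain ⟨y₁, hy₁⟩ := (fst Y P).left.surjective y₀
      obtain ⟨c₀, hc₀V, hc₀⟩ := nonempty_inter_closedPoints (Z := mK ⁻¹' (V₁ : Set (X ⊗ P).left))
        ⟨y₁, by
          show (fst X P).left (mK y₁) ∈ V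
          rw [← Scheme.Hom.comp_apply, (isPullback_whiskerRight m P).w, Scheme.Hom.comp_apply, hy₁]
          exact hy₀⟩ (V₁.2.preimage mK.continuous).isLocallyClosed
      obtain ⟨c, hcl, hc⟩ := nonempty_inter_closedPoints (Z := closure {y}) ⟨_, subset_closure rfl⟩
        isClosed_closure.isLocallyClosed
      obtain ⟨w₀, hw₀⟩ := exists_point_of_closed_bc (K := K) Y hc₀
      obtain ⟨w, hw⟩ := exists_point_of_closed_bc (K := K) Y hc
      obtain ⟨g₀, hg₀⟩ := exists_point_lift p w₀
      obtain ⟨g₁, hg₁⟩ := exists_point_lift p w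
      refine Set.mem_iUnion.mpr ⟨g₁ * g₀⁻¹, ?_⟩
      have key : lift (g₁ * g₀⁻¹) w₀ ≫ b.act = w := by
        rw [← hg₀, ← lift_whiskerLeft, Category.assoc, hbp, ← Category.assoc, ← Hom.mul_def,
          inv_mul_cancel_right, hg₁]
      have hz : lift w₀ (𝟙 P) ≫ (transAct b (g₁ * g₀⁻¹)).hom = lift w (𝟙 P) := by
        apply CartesianMonoidalCategory.hom_ext
        · simp only [transAct, Category.assoc, lift_fst]
          rw [← Category.assoc, comp_lift, lift_fst, ← Category.assoc, lift_snd]
          exact (congrArg (fun x => lift x w₀ ≫ b.act) (Category.id_comp _)).trans (key.trans (lift_fst _ _).symm)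
        · simp [transAct]
      refine (specializes_iff_mem_closure.mpr hcl).mem_open
        (((transAct a (g₁ * g₀⁻¹)).inv.left ⁻¹ᵁ V₁).2.preimage mK.continuous) ?_
      show (transAct a _).inv.left (mK c) ∈ V₁
      have e : mK c = (transAct a (g₁ * g₀⁻¹)).hom.left (mK c₀) := by
        rw [← hw, ← hw₀, ← hz]
        show (m ▷ P).left (((transAct b _).hom).left _) = _
        rw [← Scheme.Hom.comp_apply, ← Over.comp_left, transAct_whiskerRight a b m hb]
        rfl
      rw [e, ← Scheme.Hom.comp_apply, ← Over.comp_left, Iso.hom_inv_id]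
      exact hc₀V
    · let S := transAct b z
      let T := transAct a z
      haveI : IsIso S.hom.left := ((Over.forget _).mapIso S).isIso_hom
      haveI : IsIso T.hom.left := ((Over.forget _).mapIso T).isIso_hom
      have hST : S.hom.left ≫ mK = mK ≫ T.hom.left :=
        congrArg CommaMorphism.left (transAct_whiskerRight a b m hb z)
      have hS1 : S.inv.left ≫ S.hom.left = 𝟙 _ := by rw [← Over.comp_left, Iso.inv_hom_id]; rfl
      have hT1 : T.inv.left ≫ T.hom.left = 𝟙 _ := by rw [← Over.comp_left, Iso.inv_hom_id]; rfl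
      have hST' : S.inv.left ≫ mK = mK ≫ T.inv.left := by
        rw [← cancel_mono T.hom.left, Category.assoc, Category.assoc, ← hST, hT1, Category.comp_id,
          reassoc_of% hS1]
      have hr : Set.range (j ≫ S.hom.left) = Set.range (mK ⁻¹ᵁ T.inv.left ⁻¹ᵁ V₁).ι := by
        rw [Scheme.Opens.range_ι, Scheme.Hom.comp_base, TopCat.coe_comp, Set.range_comp, hj]
        ext y
        show y ∈ S.hom.left '' _ ↔ T.inv.left (mK y) ∈ V₁
        constructor
        · rintro ⟨x, hx, rfl⟩
          rw [← Scheme.Hom.comp_apply, ← hST', Scheme.Hom.comp_apply, ← Scheme.Hom.comp_apply S.hom.left,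
            ← Over.comp_left, Iso.hom_inv_id]
          exact hx
        · intro hy
          refine ⟨S.inv.left y, ?_, ?_⟩
          · show mK (S.inv.left y) ∈ V₁
            rw [← Scheme.Hom.comp_apply, hST', Scheme.Hom.comp_apply]
            exact hy
          · rw [← Scheme.Hom.comp_apply, ← Over.comp_left, Iso.inv_hom_id]
            rfl
      rw [← IsOpenImmersion.isoOfRangeEq_inv_fac (j ≫ S.hom.left) _ hr, Category.assoc, Category.assoc, hST,
        ← Category.assoc j]
      haveI : IsImmersion T.hom.left := inferInstance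
      infer_instance
  -- descent
  haveI := EtFound.fpqc_isClosedImmersion.{u}
  have : Surjective (fst X P).left := inferInstanceAs (Surjective (pullback.fst X.hom σ))
  have : Flat (fst X P).left := inferInstanceAs (Flat (pullback.fst X.hom σ))
  have : QuasiCompact (fst X P).left := inferInstanceAs (QuasiCompact (pullback.fst X.hom σ))
  haveI : IsImmersion (pullback.fst (fst X P).left m.left) := by
    rw [← (isPullback_whiskerRight m P).isoPullback_inv_fst]
    infer_instance
  exact ⟨DescLib.isImmersion_of_pullback_fst (@Surjective ⊓ @Flat ⊓ @QuasiCompact) (fst X P).left m.left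
    ⟨⟨‹_›, ‹_›⟩, ‹_›⟩ (hrange ▸ hR), hY, hrange⟩

/-- Factoring through a quotient map. -/
theorem exists_desc {R G A B : Over (Spec (CommRingCat.of k))} {r₁ r₂ : R ⟶ G} {p : G ⟶ A}
    [Surjective p.left] [Flat p.left] [LocallyOfFinitePresentation p.left] (sq : IsPullback r₁ r₂ p p)
    (ψ : G ⟶ B) (h : r₁ ≫ ψ = r₂ ≫ ψ) : ∃ e : A ⟶ B, p ≫ e = ψ := by
  have sqL : IsPullback r₁.left r₂.left p.left p.left := sq.map (Over.forget _)
  let e₀ := EffectiveEpi.desc p.left ψ.left fun g₁ g₂ hg => by
    rw [← sqL.lift_fst g₁ g₂ hg, Category.assoc, ← Over.comp_left, h, Over.comp_left, sqL.lift_snd_assoc]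
  have he : p.left ≫ e₀ = ψ.left := EffectiveEpi.fac _ _ _
  exact ⟨Over.homMk e₀ (by rw [← cancel_epi p.left, reassoc_of% he, Over.w ψ, Over.w p]), Over.OverMorphism.ext he⟩

omit [LocallyOfFiniteType G.hom] [QuasiCompact G.hom] [IsReduced G.left] [LocallyOfFiniteType X.hom]
  [LocallyOfFiniteType Y.hom] in
theorem exists_quot {Go : Over (Spec (CommRingCat.of k))} [GrpObj Go] [LocallyOfFiniteType G.hom]
    [LocallyOfFiniteType X.hom] (a : AlgGrp.Action G X) (o : 𝟙_ (Over (Spec (CommRingCat.of k))) ⟶ X)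
    (i : Go ⟶ G) (hGo : IsPullback i (toUnit Go) (a.orbitMap o) o) :
    ∃ (Q : Over (Spec (CommRingCat.of k))) (q : G ⟶ Q) (m : Q ⟶ X), RedSub.IsQuotient i q ∧
      LocallyOfFinitePresentation Q.hom ∧ Mono m ∧ q ≫ m = a.orbitMap o :=
  QuotStabGen.exists_quot a o i hGo (Or.inl inferInstance)

end Groth.Agent.GrpSchLib.OrbitImmersion
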