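import Groth.Agent.GrpSchLib.SpreadFixed

/-!
# Fixed points of actions on spaces which need not be of finite type

Spreading out and propagation from the closed fibre only use that finitely many coordinates detect the difference
between a point and its translates; this holds if both are pulled back from a locally Noetherian scheme.
-/

universe u

open CategoryTheory CategoryTheory.Limits MonoidalCategory CartesianMonoidalCategory MonObj AlgebraicGeometry

namespace Groth.Agent.GrpSchLib.FinDiffFixed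

open DiagActionRigid
open DSPtsLib (CoordM)
open FibreActionRigid (sub_mem_closure mem_map_of_coeff coeff_mem pair_fixed)
open HomKernelIdeal (evalChar)

variable {S : Scheme.{u}} {R : Type u} [CommRing R] {β : Spec (CommRingCat.of R) ⟶ S}
  {G X : Over S} [GrpObj G] (a : AlgGrp.Action G X) {M : Type} [AddCommGroup M]
  (χ : ∀ (A : Type u) [CommRing A] [Algebra R A], (CoordM.{u} M →+* A) → (sp β A ⟶ G))
  (hnat : ∀ {A A' : Type u} [CommRing A] [Algebra R A] [CommRing A'] [Algebra R A'] (φ : A →ₐ[R] A')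
    (f : CoordM.{u} M →+* A), spm β φ ≫ χ A f = χ A' (φ.toRingHom.comp f))
  (hmul : ∀ {A : Type u} [CommRing A] [Algebra R A] (f g h : CoordM.{u} M →+* A),
    (∀ m, h (MonoidAlgebra.single m 1) = f (MonoidAlgebra.single m 1) * g (MonoidAlgebra.single m 1)) →
      χ A f * χ A g = χ A h)

/-- For every point with values in an affine open, finitely many differences of coordinates between a point and its
translate generate all. -/
def FinDiff (x : sp β R ⟶ X) : Prop :=
  ∀ (V : S.Opens) (_ : IsAffineOpen V) (W : X.left.Opens) (hW : IsAffineOpen W) (_ : W ≤ X.hom ⁻¹ᵁ V) (B : Type u) [CommRing B] [Algebra R B] (f : CoordM.{u} M →+* B)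
    (ex ey : Γ(X.left, W) ⟶ CommRingCat.of B),
    Spec.map ex ≫ hW.fromSpec = (spm β (Algebra.ofId R B) ≫ x).left →
    Spec.map ey ≫ hW.fromSpec = (lift (χ B f) (spm β (Algebra.ofId R B) ≫ x) ≫ a.act).left →
    ∃ gens : Finset Γ(X.left, W), ∀ v, (ey.hom v - ex.hom v : B) ∈
      Ideal.span ((fun t => (ey.hom t - ex.hom t : B)) '' (gens : Set Γ(X.left, W)))

include hnat

/-- A point fixed near `p` is fixed on a principal open around `p`. -/
theorem exists_fixed_away (x : sp β R ⟶ X) (hfin : FinDiff a χ x) (p : Ideal R) [hp' : p.IsPrime]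
    (hp : ∀ (T : Type u) [CommRing T] [Algebra R T], (∀ r ∉ p, IsUnit (algebraMap R T r)) →
      ∀ (f : CoordM.{u} M →+* T),
        lift (χ T f) (spm β (Algebra.ofId R T) ≫ x) ≫ a.act = spm β (Algebra.ofId R T) ≫ x) :
    ∃ s ∉ p, ∀ (T : Type u) [CommRing T] [Algebra R T], IsUnit (algebraMap R T s) → ∀ (f : CoordM.{u} M →+* T),
      lift (χ T f) (spm β (Algebra.ofId R T) ≫ x) ≫ a.act = spm β (Algebra.ofId R T) ≫ x := by
  classical
  let p₀ : Spec (CommRingCat.of R) := ⟨p, hp'⟩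
  obtain ⟨V, hV, hsV, -⟩ := exists_isAffineOpen_mem_and_subset (show β p₀ ∈ (⊤ : S.Opens) from trivial)
  have hxβ : ∀ q, X.hom (x.left q) = β q := fun q => by
    rw [← Scheme.Hom.comp_apply, Over.w x]
    show (Spec.map (CommRingCat.ofHom (algebraMap R R)) ≫ β) q = β q
    rw [show Spec.map (CommRingCat.ofHom (algebraMap R R)) = 𝟙 _ from Spec.map_id _, Category.id_comp]
  obtain ⟨W, hW, hsW, hWle⟩ := exists_isAffineOpen_mem_and_subset
    (show x.left p₀ ∈ X.hom ⁻¹ᵁ V by show X.hom (x.left p₀) ∈ V; rw [hxβ]; exact hsV)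
  have hWV : W ≤ X.hom ⁻¹ᵁ V := hWle
  let xT : ∀ (T : Type u) [CommRing T] [Algebra R T], sp β T ⟶ X := fun T _ _ => spm β (Algebra.ofId R T) ≫ x
  have hxT : ∀ {T T' : Type u} [CommRing T] [Algebra R T] [CommRing T'] [Algebra R T'] (φ : T →ₐ[R] T'),
      spm β φ ≫ xT T = xT T' := fun {T T'} _ _ _ _ φ => by
    show spm β φ ≫ spm β (Algebra.ofId R T) ≫ x = _
    rw [← Category.assoc, spm_comp]
    congr 2
    exact Subsingleton.elim _ _
  let A := MonoidAlgebra R (Multiplicative M)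
  let u₀ := univPt R (AddMonoidHom.id M)
  let y : sp β A ⟶ X := lift (χ A u₀) (xT A) ≫ a.act
  let D : (Spec (CommRingCat.of A)).Opens := y.left ⁻¹ᵁ W ⊓ (xT A).left ⁻¹ᵁ W
  obtain ⟨J, hJ⟩ := (PrimeSpectrum.isClosed_iff_zeroLocus_ideal _).mp D.isOpen.isClosed_compl
  obtain ⟨s, hs, hsJ⟩ : ∃ s ∉ p, algebraMap R A s ∈ J := by
    by_contra hne
    have hd : Disjoint (J : Set A) (Algebra.algebraMapSubmonoid A p.primeCompl : Set A) := by
      rw [Set.disjoint_right]
      rintro _ ⟨r, hr, rfl⟩ hrJ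
      exact hne ⟨r, hr, hrJ⟩
    obtain ⟨q, hq, hJq, hqd⟩ := Ideal.exists_le_prime_disjoint J (Algebra.algebraMapSubmonoid A p.primeCompl) hd
    let q₀ : PrimeSpectrum A := ⟨q, hq⟩
    let K := q.ResidueField
    let φ : A →ₐ[R] K := IsScalarTower.toAlgHom R A K
    have hK : ∀ r ∉ p, IsUnit (algebraMap R K r) := fun r hr => by
      refine isUnit_iff_ne_zero.mpr fun h0 => ?_
      rw [IsScalarTower.algebraMap_apply R A K, Ideal.algebraMap_residueField_eq_zero] at h0
      exact Set.disjoint_right.mp hqd ⟨r, hr, rfl⟩ h0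
    have hpt : (spm β φ).left (IsLocalRing.closedPoint K) = q₀ := by
      refine PrimeSpectrum.ext ?_
      show Ideal.comap (algebraMap A K) (IsLocalRing.maximalIdeal K) = q
      rw [IsLocalRing.maximalIdeal_eq_bot, ← RingHom.ker_eq_comap_bot, Ideal.ker_algebraMap_residueField]
    have hxA : (xT A).left q₀ ∈ W := by
      let q' : Spec (CommRingCat.of R) := (spm β (Algebra.ofId R A)).left q₀
      show x.left q' ∈ W
      have hsp : q' ⤳ p₀ := (PrimeSpectrum.le_iff_specializes (q' : PrimeSpectrum R) p₀).mp fun r hr => by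
        by_contra hrp
        exact Set.disjoint_right.mp hqd ⟨r, hrp, rfl⟩ hr
      exact (hsp.map x.left.base.hom.continuous).mem_open W.isOpen hsW
    have h : spm β φ ≫ y = spm β φ ≫ xT A := by
      show spm β φ ≫ lift _ _ ≫ a.act = _
      rw [← Category.assoc, comp_lift, hnat, hxT]
      exact hp K hK _
    have hyA : y.left q₀ ∈ W := by
      have h' := congrArg (fun m : sp β K ⟶ X => m.left.base (IsLocalRing.closedPoint K)) h
      rw [← hpt]
      refine (congrArg (· ∈ W) h').mpr ?_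
      show (xT A).left ((spm β φ).left (IsLocalRing.closedPoint K)) ∈ W
      rw [hpt]
      exact hxA
    have : q₀ ∈ PrimeSpectrum.zeroLocus (J : Set A) := hJq
    rw [← hJ] at this
    exact this ⟨hyA, hxA⟩
  let h : A := algebraMap R A s
  let As := Localization.Away h
  let φs : A →ₐ[R] As := IsScalarTower.toAlgHom R A As
  let y' : sp β As ⟶ X := spm β φs ≫ y
  have hmemD : ∀ q : Spec (CommRingCat.of As), (spm β φs).left q ∈ D := fun q => by
    by_contra hq
    have hq' : (spm β φs).left q ∈ PrimeSpectrum.zeroLocus (J : Set A) := by rw [← hJ]; exact hq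
    exact (q : PrimeSpectrum As).isPrime.ne_top
      (Ideal.eq_top_of_isUnit_mem _ (hq' hsJ) (IsLocalization.Away.algebraMap_isUnit h))
  obtain ⟨ey, hey⟩ := exists_ev hW y' fun q => (hmemD q).1
  let x' : sp β As ⟶ X := spm β φs ≫ xT A
  obtain ⟨ex, hex⟩ := exists_ev hW x' fun q => (hmemD q).2
  have hy'' : y' = lift (χ As (φs.toRingHom.comp u₀)) (xT As) ≫ a.act := by
    show spm β φs ≫ lift _ _ ≫ a.act = _
    rw [← Category.assoc, comp_lift, hnat, hxT]
  obtain ⟨gens, hgens⟩ := hfin V hV W hW hWV As _ ex ey (hex.trans (congrArg (fun m => Over.Hom.left m) (hxT φs)))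
    (hey.trans (congrArg (fun m => Over.Hom.left m) hy''))
  let Ap := Localization (Algebra.algebraMapSubmonoid A p.primeCompl)
  have hunit : ∀ r ∉ p, IsUnit (algebraMap R Ap r) := fun r hr => by
    rw [IsScalarTower.algebraMap_apply R A Ap]
    exact IsLocalization.map_units Ap (⟨_, r, hr, rfl⟩ : Algebra.algebraMapSubmonoid A p.primeCompl)
  let φp : A →ₐ[R] Ap := IsScalarTower.toAlgHom R A Ap
  have hpow : ∀ z : Submonoid.powers h, IsUnit (φp z) := by
    rintro ⟨_, n, rfl⟩
    show IsUnit (φp (h ^ n))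
    rw [map_pow, φp.commutes]
    exact (hunit s hs).pow n
  let ρ : As →ₐ[R] Ap := IsLocalization.liftAlgHom (M := Submonoid.powers h) (f := φp) hpow
  have hρ : ρ.comp φs = φp := AlgHom.ext fun z => IsLocalization.lift_eq _ z
  have hzero : ∀ v, ρ (ey.hom v - ex.hom v : As) = 0 := fun v => by
    have hc : spm β ρ ≫ spm β φs = spm β φp := by rw [spm_comp, hρ]
    have e : spm β ρ ≫ y' = spm β ρ ≫ x' := by
      show spm β ρ ≫ spm β φs ≫ lift _ _ ≫ a.act = spm β ρ ≫ spm β φs ≫ xT A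
      rw [reassoc_of% hc, reassoc_of% hc, ← Category.assoc, comp_lift, hnat, hxT]
      exact hp Ap hunit _
    have e' := congrArg (fun m => Over.Hom.left m) e
    simp only [Over.comp_left, spm_left, ← hex, ← hey, ← Spec.map_comp_assoc, cancel_mono] at e'
    rw [map_sub, sub_eq_zero]
    exact RingHom.congr_fun (congrArg CommRingCat.Hom.hom (Spec.map_injective e')) v
  have hkill : ∀ t, ∃ r ∉ p, algebraMap R As r * (ey.hom t - ex.hom t : As) = 0 := fun t => by
    obtain ⟨k, n, hn⟩ := IsLocalization.Away.surj h (ey.hom t - ex.hom t : As)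
    have h1 : algebraMap A Ap n = 0 := by
      have := congrArg ρ hn
      rw [map_mul, hzero, zero_mul] at this
      exact (AlgHom.congr_fun hρ n).symm.trans this.symm
    obtain ⟨⟨_, r, hr, rfl⟩, hrn⟩ :=
      (IsLocalization.map_eq_zero_iff (Algebra.algebraMapSubmonoid A p.primeCompl) Ap n).mp h1
    refine ⟨r, hr, ((IsLocalization.Away.algebraMap_isUnit h (S := As)).pow k).mul_left_eq_zero.mp ?_⟩
    rw [_root_.mul_assoc, hn, IsScalarTower.algebraMap_apply R A As, ← map_mul]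
    exact (congrArg (algebraMap A As) hrn).trans (map_zero _)
  choose r hr hrt using hkill
  refine ⟨s * ∏ t ∈ gens, r t, hp'.mul_notMem hs (p.primeCompl.prod_mem fun t _ => hr t), fun T _ _ hT f => ?_⟩
  rw [map_mul, map_prod, IsUnit.mul_iff, IsUnit.prod_iff] at hT
  let ρ₀ : A →ₐ[R] T := evalChar (R := R) f
  have hpowT : ∀ z : Submonoid.powers h, IsUnit (ρ₀ z) := by
    rintro ⟨_, n, rfl⟩
    show IsUnit (ρ₀ (h ^ n))
    rw [map_pow, ρ₀.commutes]
    exact hT.1.pow n
  let ρT : As →ₐ[R] T := IsLocalization.liftAlgHom (M := Submonoid.powers h) (f := ρ₀) hpowT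
  have hρT : ρT.comp φs = ρ₀ := AlgHom.ext fun z => IsLocalization.lift_eq _ z
  have hall : ∀ v, ρT (ey.hom v) = ρT (ex.hom v) := fun v => by
    rw [← sub_eq_zero, ← Ideal.mem_bot]
    have hle : Ideal.span ((fun t => (ey.hom t - ex.hom t : As)) '' (gens : Set Γ(X.left, W))) ≤ RingHom.ker ρT.toRingHom := by
      refine Ideal.span_le.mpr ?_
      rintro _ ⟨t, ht, rfl⟩
      show ρT _ = 0
      have := congrArg ρT (hrt t)
      rw [map_mul, map_zero, ρT.commutes, (hT.2 t ht).mul_right_eq_zero] at this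
      exact this
    have h0 : ρT (ey.hom v - ex.hom v : As) = 0 := hle (hgens v)
    rw [map_sub] at h0
    rw [Ideal.mem_bot]
    exact h0
  have e : spm β ρT ≫ y' = spm β ρT ≫ x' := by
    refine Over.OverMorphism.ext ?_
    simp only [Over.comp_left, spm_left, ← hex, ← hey, ← Spec.map_comp_assoc]
    congr 2
    exact CommRingCat.hom_ext (RingHom.ext hall)
  change spm β ρT ≫ spm β φs ≫ lift _ _ ≫ a.act = spm β ρT ≫ spm β φs ≫ xT A at e
  have hcT : spm β ρT ≫ spm β φs = spm β ρ₀ := by rw [spm_comp, hρT]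
  rw [reassoc_of% hcT, reassoc_of% hcT, ← Category.assoc, comp_lift, hnat, hxT] at e
  rwa [show ρ₀.toRingHom.comp u₀ = f from HomKernelIdeal.evalChar_univ f] at e


include hmul

/-- An action trivial over the closed point fixes every point with values in the local ring. -/
theorem fixed_of_closedFibre [IsLocalRing R] [AddGroup.FG M]
    (hfibm : ∀ (T : Type u) [CommRing T] [Algebra R T], (∀ r ∈ IsLocalRing.maximalIdeal R, algebraMap R T r = 0) →
      ∀ (f : CoordM.{u} M →+* T) (z : sp β T ⟶ X), lift (χ T f) z ≫ a.act = z)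
    (x : sp β R ⟶ X) (hfin : FinDiff a χ x) (T : Type u) [CommRing T] [Algebra R T] (f : CoordM.{u} M →+* T) :
    lift (χ T f) (spm β (Algebra.ofId R T) ≫ x) ≫ a.act = spm β (Algebra.ofId R T) ≫ x := by
  classical
  let 𝔪 := IsLocalRing.maximalIdeal R
  let s₀ : Spec (CommRingCat.of R) := IsLocalRing.closedPoint R
  obtain ⟨V, hV, hsV, -⟩ := exists_isAffineOpen_mem_and_subset (show β s₀ ∈ (⊤ : S.Opens) from trivial)
  have hxβ : ∀ q, X.hom (x.left q) = β q := fun q => by
    rw [← Scheme.Hom.comp_apply, Over.w x]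
    show (Spec.map (CommRingCat.ofHom (algebraMap R R)) ≫ β) q = β q
    rw [show Spec.map (CommRingCat.ofHom (algebraMap R R)) = 𝟙 _ from Spec.map_id _, Category.id_comp]
  obtain ⟨W, hW, hsW, hWle⟩ := exists_isAffineOpen_mem_and_subset
    (show x.left s₀ ∈ X.hom ⁻¹ᵁ V by show X.hom (x.left s₀) ∈ V; rw [hxβ]; exact hsV)
  have hWV : W ≤ X.hom ⁻¹ᵁ V := hWle
  have hgen : ∀ q : Spec (CommRingCat.of R), q ⤳ s₀ := fun q => IsLocalRing.specializes_closedPoint q
  have hxW : ∀ q, x.left q ∈ W := fun q => ((hgen q).map x.left.base.hom.continuous).mem_open W.isOpen hsW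
  have hβ : ∀ q, β q ∈ V := fun q => ((hgen q).map β.base.hom.continuous).mem_open V.isOpen hsV
  let xT : ∀ (T : Type u) [CommRing T] [Algebra R T], sp β T ⟶ X := fun T _ _ => spm β (Algebra.ofId R T) ≫ x
  have hxT : ∀ {T T' : Type u} [CommRing T] [Algebra R T] [CommRing T'] [Algebra R T'] (φ : T →ₐ[R] T'),
      spm β φ ≫ xT T = xT T' := fun {T T'} _ _ _ _ φ => by
    show spm β φ ≫ spm β (Algebra.ofId R T) ≫ x = _
    rw [← Category.assoc, spm_comp]
    congr 2
    exact Subsingleton.elim _ _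
  have hxTW : ∀ (T : Type u) [CommRing T] [Algebra R T] (q), (xT T).left q ∈ W := fun T _ _ q => hxW _
  -- the universal point and the principal open
  let A := MonoidAlgebra R (Multiplicative M)
  let mA : Ideal A := 𝔪.map (algebraMap R A)
  let u₀ := univPt R (AddMonoidHom.id M)
  let y : sp β A ⟶ X := lift (χ A u₀) (xT A) ≫ a.act
  let D : (Spec (CommRingCat.of A)).Opens := y.left ⁻¹ᵁ W
  have hDm : ∀ q : PrimeSpectrum A, mA ≤ q.asIdeal → q ∈ D := by
    intro q hq
    let φ : A →ₐ[R] A ⧸ mA := Ideal.Quotient.mkₐ R mA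
    have hq' : q ∈ Set.range (spm β φ).left := by
      refine ⟨⟨q.asIdeal.map (Ideal.Quotient.mk mA), Ideal.map_isPrime_of_surjective Ideal.Quotient.mk_surjective
        (by rw [Ideal.mk_ker]; exact hq)⟩, PrimeSpectrum.ext ?_⟩
      show Ideal.comap (Ideal.Quotient.mk mA) (Ideal.map (Ideal.Quotient.mk mA) q.asIdeal) = q.asIdeal
      rw [Ideal.comap_map_of_surjective _ Ideal.Quotient.mk_surjective, ← RingHom.ker_eq_comap_bot, Ideal.mk_ker]
      exact sup_eq_left.mpr hq
    obtain ⟨p, hp⟩ := hq'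
    have h : spm β φ ≫ y = spm β φ ≫ xT A := by
      show spm β φ ≫ lift _ _ ≫ a.act = _
      rw [← Category.assoc, comp_lift, hnat, hxT]
      refine hfibm _ (fun r hr => ?_) _ _
      rw [IsScalarTower.algebraMap_apply R A (A ⧸ mA)]
      exact Ideal.Quotient.eq_zero_iff_mem.mpr (Ideal.mem_map_of_mem _ hr)
    have h' : (spm β φ ≫ y).left p = (spm β φ ≫ xT A).left p := congrArg (fun m : sp β (A ⧸ mA) ⟶ X => m.left.base p) h
    show y.left q ∈ W
    rw [← hp]
    show (spm β φ ≫ y).left p ∈ W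
    rw [h']
    exact hxTW A _
  obtain ⟨h, hh, hhD⟩ : ∃ h : A, h - 1 ∈ mA ∧ ∀ q : PrimeSpectrum A, h ∉ q.asIdeal → q ∈ D := by
    obtain ⟨J, hJ⟩ := (PrimeSpectrum.isClosed_iff_zeroLocus_ideal _).mp D.isOpen.isClosed_compl
    have hsup : J ⊔ mA = ⊤ := by
      by_contra hne
      obtain ⟨Q, hQ, hle⟩ := Ideal.exists_le_maximal _ hne
      have hQD : (⟨Q, hQ.isPrime⟩ : PrimeSpectrum A) ∈ PrimeSpectrum.zeroLocus (J : Set A) := le_sup_left.trans hle
      rw [← hJ] at hQD
      exact hQD (hDm _ (le_sup_right.trans hle))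
    obtain ⟨i, hi, j, hj, hij⟩ := Submodule.mem_sup.mp ((Ideal.eq_top_iff_one _).mp hsup)
    refine ⟨i, ?_, fun q hq => ?_⟩
    · rw [← hij, sub_add_cancel_left]
      exact neg_mem hj
    · by_contra hqD
      have : q ∈ PrimeSpectrum.zeroLocus (J : Set A) := by rw [← hJ]; exact hqD
      exact hq (this hi)
  let Ah := Localization.Away h
  let φh : A →ₐ[R] Ah := IsScalarTower.toAlgHom R A Ah
  let y' : sp β Ah ⟶ X := spm β φh ≫ y
  have hyW : ∀ q, y'.left q ∈ W := fun q => hhD _ fun hm => by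
    have hu : IsUnit (algebraMap A Ah h) := IsLocalization.Away.algebraMap_isUnit h
    exact (q : PrimeSpectrum Ah).isPrime.ne_top (Ideal.eq_top_of_isUnit_mem _ hm hu)
  obtain ⟨ex, hex⟩ := exists_ev hW (xT Ah) (hxTW Ah)
  obtain ⟨ey, hey⟩ := exists_ev hW y' hyW
  -- coefficients
  have hy'' : y' = lift (χ Ah (φh.toRingHom.comp u₀)) (xT Ah) ≫ a.act := by
    show spm β φh ≫ lift _ _ ≫ a.act = _
    rw [← Category.assoc, comp_lift, hnat, hxT]
  obtain ⟨gens, hgens⟩ := hfin V hV W hW hWV Ah _ ex ey hex (hey.trans (congrArg (fun m => Over.Hom.left m) hy''))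
  have hnum : ∀ t, ∃ (n : A) (k : ℕ), (ey.hom t - ex.hom t : Ah) * algebraMap A Ah h ^ k = algebraMap A Ah n :=
    fun t => by
      obtain ⟨k, n, hn⟩ := IsLocalization.Away.surj h (ey.hom t - ex.hom t : Ah)
      exact ⟨n, k, hn⟩
  choose num k hnum using hnum
  let c : Ideal R := Ideal.span ↑(gens.biUnion fun t => (num t).coeff.support.image fun m => (num t).coeff m)
  have hcfg : c.FG := ⟨_, rfl⟩
  have hnumc : ∀ t ∈ gens, num t ∈ c.map (algebraMap R A) := fun t ht => mem_map_of_coeff fun m => by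
    by_cases hm : m ∈ (num t).coeff.support
    · exact Ideal.subset_span (Finset.mem_coe.mpr (Finset.mem_biUnion.mpr
        ⟨t, ht, Finset.mem_image.mpr ⟨m, hm, rfl⟩⟩))
    · rw [Finsupp.notMem_support_iff.mp hm]; exact zero_mem _
  have hdiff : ∀ t ∈ gens, (ey.hom t - ex.hom t : Ah) ∈ c.map (algebraMap R Ah) := by
    intro t ht
    have h2 : algebraMap A Ah (num t) ∈ c.map (algebraMap R Ah) := by
      rw [IsScalarTower.algebraMap_eq R A Ah, ← Ideal.map_map]
      exact Ideal.mem_map_of_mem _ (hnumc t ht)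
    rw [← hnum] at h2
    exact ((IsLocalization.Away.algebraMap_isUnit h).pow (k t) |> (Ideal.mul_unit_mem_iff_mem _)).mp h2
  have hDc : ∀ v, (ey.hom v - ex.hom v : Ah) ∈ c.map (algebraMap R Ah) := fun v => by
    refine Ideal.span_le.mpr ?_ (hgens v)
    rintro _ ⟨t, ht, rfl⟩
    exact hdiff t ht
  -- fixed modulo `c`
  have hfixc : ∀ (T : Type u) [CommRing T] [Algebra R T], (∀ r ∈ c, algebraMap R T r = 0) →
      ∀ (f : CoordM.{u} M →+* T), lift (χ T f) (xT T) ≫ a.act = xT T := fun T _ _ hT f => by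
    refine ClosedFibreFixed.fixed_of_dense a χ hnat hmul hh (xT T) (fun T' _ _ φ f' hu => ?_) f
    rw [hxT]
    let ρ₀ : A →ₐ[R] T' := evalChar (R := R) f'
    have hpow : ∀ y : Submonoid.powers h, IsUnit (ρ₀ y) := by
      rintro ⟨_, n, rfl⟩
      show IsUnit (ρ₀ (h ^ n))
      rw [map_pow]
      exact hu.pow n
    let ρ : Ah →ₐ[R] T' := IsLocalization.liftAlgHom (M := Submonoid.powers h) (f := ρ₀) hpow
    have hρ : ρ.comp φh = ρ₀ := AlgHom.ext fun z => IsLocalization.lift_eq _ z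
    have hTc : ∀ r ∈ c, algebraMap R T' r = 0 := fun r hr => by rw [← φ.commutes, hT r hr, map_zero]
    have hzero : ∀ d ∈ c.map (algebraMap R Ah), ρ d = 0 := fun d hd => by
      refine (Ideal.map_le_iff_le_comap.mpr ?_ : c.map (algebraMap R Ah) ≤ RingHom.ker ρ.toRingHom) hd
      intro r hr
      show ρ (algebraMap R Ah r) = 0
      rw [ρ.commutes, hTc r hr]
    have h : spm β ρ ≫ y' = spm β ρ ≫ xT Ah := by
      refine Over.OverMorphism.ext ?_
      simp only [Over.comp_left, spm_left, ← hex, ← hey, ← Spec.map_comp_assoc]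
      congr 2
      refine CommRingCat.hom_ext (RingHom.ext fun v => ?_)
      show ρ (ey.hom v) = ρ (ex.hom v)
      rw [← sub_eq_zero, ← map_sub]
      exact hzero _ (hDc v)
    change spm β ρ ≫ spm β φh ≫ lift _ _ ≫ a.act = _ at h
    rw [← Category.assoc, spm_comp, hρ, ← Category.assoc, comp_lift, hnat, hxT, hxT] at h
    rwa [show ρ₀.toRingHom.comp u₀ = f' from HomKernelIdeal.evalChar_univ f'] at h
  have hmC : ∀ t (L : Ideal R), L ≤ 𝔪 → (ey.hom t - ex.hom t : Ah) ∈ L.map (algebraMap R Ah) →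
      ∃ j : ℕ, h ^ j * num t ∈ L.map (algebraMap R A) := by
    intro t L _ hd
    have h2 : algebraMap A Ah (num t) ∈ (L.map (algebraMap R A)).map (algebraMap A Ah) := by
      rw [Ideal.map_map, ← IsScalarTower.algebraMap_eq R A Ah, ← hnum]
      exact Ideal.mul_mem_right _ _ hd
    obtain ⟨⟨⟨n, hn⟩, ⟨_, j, rfl⟩⟩, he⟩ := (IsLocalization.mem_map_algebraMap_iff (Submonoid.powers h) Ah).mp h2
    rw [← map_mul] at he
    obtain ⟨⟨_, i, rfl⟩, hi⟩ := (IsLocalization.eq_iff_exists (Submonoid.powers h) Ah).mp he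
    refine ⟨i + j, ?_⟩
    have hi' : h ^ i * (num t * h ^ j) = h ^ i * n := hi
    rw [pow_add, _root_.mul_assoc, _root_.mul_comm (h ^ j), hi']
    exact Ideal.mul_mem_left _ _ hn
  have hevm : ∀ t, (ey.hom t - ex.hom t : Ah) ∈ 𝔪.map (algebraMap R Ah) := by
    refine ev_sub_mem hW ?_ hex hey
    show redMap 𝔪 Ah ≫ xT Ah = redMap 𝔪 Ah ≫ spm β φh ≫ lift _ _ ≫ a.act
    rw [← Category.assoc (spm β φh), comp_lift, hnat, hxT]
    exact (fix_mod a χ hnat hfibm _ (xT Ah)).symm
  have hcm : c ≤ 𝔪 := by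
    refine Ideal.span_le.mpr fun r hr => ?_
    obtain ⟨t, -, hrt⟩ := Finset.mem_biUnion.mp (Finset.mem_coe.mp hr)
    obtain ⟨m, -, rfl⟩ := Finset.mem_image.mp hrt
    refine coeff_mem ?_ m
    obtain ⟨j, hj⟩ := hmC t 𝔪 le_rfl (hevm t)
    exact ClosedFibreFixed.mem_of_pow_mul_mem (m := mA) (L := mA) (C := ⊤) (by rw [Ideal.mul_top]) hh Submodule.mem_top hj
  -- additivity modulo `m c`
  let L := 𝔪 * c
  let B := Ah ⧸ L.map (algebraMap R Ah)
  have hB : ∀ l ∈ L, algebraMap R B l = 0 := fun l hl => by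
    rw [IsScalarTower.algebraMap_apply R Ah B]
    exact Ideal.Quotient.eq_zero_iff_mem.mpr (Ideal.mem_map_of_mem _ hl)
  have hBsq : ∀ l ∈ c, ∀ l' ∈ c, algebraMap R B (l * l') = 0 := fun l hl l' hl' =>
    hB _ (Ideal.mul_mem_mul (hcm hl) hl')
  have key : ∀ f : CoordM.{u} M →+* B, lift (χ B f) (xT B) ≫ a.act = xT B := by
    refine step_affine a χ hnat hmul hV hβ (L := c) (B := B) hBsq hW hWV (xT B) (hxTW B) ?_ ?_
    · intro T _ _ φ f
      rw [hxT φ]
      unfold redMap
      rw [← Category.assoc, comp_lift, hnat, hxT]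
      refine hfixc _ ?_ _
      intro r hr
      rw [IsScalarTower.algebraMap_apply R T (T ⧸ c.map (algebraMap R T))]
      exact Ideal.Quotient.eq_zero_iff_mem.mpr (Ideal.mem_map_of_mem _ hr)
    · intro T _ _ φ f z hz hzW
      exact pair_fixed a χ hnat (L := c) (𝔪 := 𝔪) hW
        (fun r hr r' hr' => by rw [← φ.commutes, hB _ (Ideal.mul_mem_mul hr hr'), map_zero])
        (fun r hr r' hr' => by rw [← φ.commutes, hB _ (Ideal.mul_mem_mul (hcm hr) hr'), map_zero])
        f z hzW (fun T' _ _ hT' ρ => by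
          have h1 : spm β ρ ≫ spm β (A := Pair c T) (pairFst c T) ≫ z = xT T' := by rw [hz, hxT φ, hxT ρ]
          rw [h1]
          exact hfixc T' hT' _) hfibm
  have hevL : ∀ t, (ey.hom t - ex.hom t : Ah) ∈ L.map (algebraMap R Ah) := by
    refine ev_sub_mem hW ?_ hex hey
    show redMap L Ah ≫ xT Ah = redMap L Ah ≫ spm β φh ≫ lift _ _ ≫ a.act
    rw [← Category.assoc (spm β φh), comp_lift, hnat, hxT, ← Category.assoc (redMap L Ah) (lift _ _), comp_lift]
    unfold redMap
    rw [hnat, hxT]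
    exact (key _).symm
  have hcL : c ≤ 𝔪 • c := by
    refine Ideal.span_le.mpr fun r hr => ?_
    obtain ⟨t, ht, hrt⟩ := Finset.mem_biUnion.mp (Finset.mem_coe.mp hr)
    obtain ⟨m, -, rfl⟩ := Finset.mem_image.mp hrt
    obtain ⟨j, hj⟩ := hmC t L Ideal.mul_le_left (hevL t)
    exact coeff_mem (J := 𝔪 * c) (ClosedFibreFixed.mem_of_pow_mul_mem (m := mA) (C := c.map (algebraMap R A)) (by rw [← Ideal.map_mul]) hh
      (hnumc t ht) hj) m
  have hc0 : c = ⊥ := Submodule.eq_bot_of_le_smul_of_le_jacobson_bot 𝔪 c hcfg hcL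
    (IsLocalRing.jacobson_eq_maximalIdeal ⊥ bot_ne_top).ge
  exact hfixc T (fun r hr => by rw [hc0, Ideal.mem_bot] at hr; rw [hr, map_zero]) f


omit hnat hmul

omit a χ in
/-- Two maps pulled back from a locally Noetherian scheme differ by finitely generated data. -/
theorem exists_gens_of_isLocallyNoetherian {Q Y : Scheme.{u}} [IsLocallyNoetherian Q] (c d : Q ⟶ Y) {W : Y.Opens}
    (hW : IsAffineOpen W) {B : CommRingCat.{u}} (l : Spec B ⟶ Q) (ex ey : Γ(Y, W) ⟶ B)
    (hex : Spec.map ex ≫ hW.fromSpec = l ≫ d) (hey : Spec.map ey ≫ hW.fromSpec = l ≫ c) :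
    ∃ gens : Finset Γ(Y, W), ∀ v, (ey.hom v - ex.hom v : B) ∈
      Ideal.span ((fun t => (ey.hom t - ex.hom t : B)) '' (gens : Set Γ(Y, W))) := by
  classical
  have hmemW : ∀ (m : Spec B ⟶ Y) (e : Γ(Y, W) ⟶ B), Spec.map e ≫ hW.fromSpec = m → ∀ q, m q ∈ W := by
    intro m e he q
    rw [← he, Scheme.Hom.comp_apply, ← SetLike.mem_coe, ← hW.range_fromSpec]
    exact ⟨_, rfl⟩
  have hloc : ∀ q : PrimeSpectrum B, ∃ (b : B) (T : Finset Γ(Y, W)), b ∉ q.asIdeal ∧
      ∀ v, algebraMap B (Localization.Away b) (ey.hom v - ex.hom v : B) ∈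
        (Ideal.span ((fun t => (ey.hom t - ex.hom t : B)) '' (T : Set Γ(Y, W)))).map
          (algebraMap B (Localization.Away b)) := by
    intro q
    obtain ⟨U, hU, hqU, hUle⟩ := exists_isAffineOpen_mem_and_subset (show l q ∈ c ⁻¹ᵁ W ⊓ d ⁻¹ᵁ W from
      ⟨by show c (l q) ∈ W; rw [← Scheme.Hom.comp_apply]; exact hmemW _ _ hey q,
       by show d (l q) ∈ W; rw [← Scheme.Hom.comp_apply]; exact hmemW _ _ hex q⟩)
    haveI : IsNoetherianRing Γ(Q, U) := IsLocallyNoetherian.component_noetherian ⟨U, hU⟩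
    let cU := c.appLE W U (fun z hz => (hUle hz).1)
    let dU := d.appLE W U (fun z hz => (hUle hz).2)
    have hcU : Spec.map cU ≫ hW.fromSpec = hU.fromSpec ≫ c := IsAffineOpen.SpecMap_appLE_fromSpec c hW hU _
    have hdU : Spec.map dU ≫ hW.fromSpec = hU.fromSpec ≫ d := IsAffineOpen.SpecMap_appLE_fromSpec d hW hU _
    let dlt : Γ(Y, W) → Γ(Q, U) := fun v => cU.hom v - dU.hom v
    obtain ⟨T₀, hT₀, hspan⟩ :=
      (Submodule.fg_span_iff_fg_span_finset_subset _).mp (IsNoetherian.noetherian (Submodule.span Γ(Q, U) (Set.range dlt)))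
    choose g hg using fun t : T₀ => hT₀ t.2
    obtain ⟨_, ⟨b, rfl⟩, hqb, hsub⟩ :=
      PrimeSpectrum.isTopologicalBasis_basic_opens.exists_subset_of_mem_open (show q ∈ ⇑l.base ⁻¹' U from hqU)
        (U.isOpen.preimage l.base.hom.continuous)
    let Bb := CommRingCat.of (Localization.Away b)
    let inc : B ⟶ Bb := CommRingCat.ofHom (algebraMap B (Localization.Away b))
    have hr : Set.range (Spec.map inc ≫ l) ⊆ Set.range hU.fromSpec := by
      rintro _ ⟨z, rfl⟩
      rw [hU.range_fromSpec, Scheme.Hom.comp_apply]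
      refine hsub ?_
      show b ∉ (Spec.map inc z : PrimeSpectrum B).asIdeal
      exact fun hm => (z : PrimeSpectrum (Localization.Away b)).isPrime.ne_top
        (Ideal.eq_top_of_isUnit_mem _ hm (IsLocalization.Away.algebraMap_isUnit b))
    obtain ⟨eU, heU⟩ : ∃ eU : Γ(Q, U) ⟶ Bb, Spec.map eU ≫ hU.fromSpec = Spec.map inc ≫ l :=
      ⟨Spec.preimage (IsOpenImmersion.lift hU.fromSpec _ hr), by
        rw [Spec.map_preimage, IsOpenImmersion.lift_fac]⟩
    have hyc : cU ≫ eU = ey ≫ inc := by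
      apply Spec.map_injective
      rw [← cancel_mono hW.fromSpec, Spec.map_comp, Spec.map_comp, Category.assoc, Category.assoc, hcU,
        reassoc_of% heU, hey]
    have hxd : dU ≫ eU = ex ≫ inc := by
      apply Spec.map_injective
      rw [← cancel_mono hW.fromSpec, Spec.map_comp, Spec.map_comp, Category.assoc, Category.assoc, hdU,
        reassoc_of% heU, hex]
    have he : ∀ v, eU.hom (dlt v) = algebraMap B (Localization.Away b) (ey.hom v - ex.hom v : B) := by
      intro v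
      show eU.hom (cU.hom v - dU.hom v) = _
      rw [map_sub, map_sub]
      exact congrArg₂ (fun a b : Bb => a - b) congr($hyc v) congr($hxd v)
    refine ⟨b, Finset.univ.image g, hqb, fun v => ?_⟩
    rw [← he v]
    have hv : dlt v ∈ Submodule.span Γ(Q, U) (T₀ : Set Γ(Q, U)) := hspan ▸ Ideal.subset_span ⟨v, rfl⟩
    refine (Submodule.span_le.mpr ?_ : Submodule.span Γ(Q, U) (T₀ : Set Γ(Q, U)) ≤
      ((Ideal.span ((fun t => (ey.hom t - ex.hom t : B)) '' (Finset.univ.image g : Set Γ(Y, W)))).map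
        (algebraMap B (Localization.Away b))).comap eU.hom) hv
    intro t ht
    refine Ideal.mem_comap.mpr ?_
    rw [show t = dlt (g ⟨t, ht⟩) from (hg ⟨t, ht⟩).symm, he]
    exact Ideal.mem_map_of_mem _ (Ideal.subset_span ⟨g ⟨t, ht⟩,
      Finset.mem_coe.mpr (Finset.mem_image.mpr ⟨_, Finset.mem_univ _, rfl⟩), rfl⟩)
  choose b T hb hT using hloc
  obtain ⟨F, hF⟩ : ∃ F : Finset (PrimeSpectrum B), ∀ q : PrimeSpectrum B, ∃ i ∈ F, b i ∉ q.asIdeal := by
    obtain ⟨F, hF⟩ := isCompact_univ.elim_finite_subcover (fun i => (PrimeSpectrum.basicOpen (b i) : Set (PrimeSpectrum B)))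
      (fun i => (PrimeSpectrum.basicOpen (b i)).isOpen) (fun q _ => Set.mem_iUnion.mpr ⟨q, hb q⟩)
    exact ⟨F, fun q => by simpa using hF (Set.mem_univ q)⟩
  refine ⟨F.biUnion T, fun v => ?_⟩
  set J := Ideal.span ((fun t => (ey.hom t - ex.hom t : B)) '' (F.biUnion T : Set Γ(Y, W)))
  by_contra hv
  let I := J.colon ({(ey.hom v - ex.hom v : B)} : Set B)
  obtain ⟨m, hm, hIm⟩ := Ideal.exists_le_maximal I (fun h => hv (by
    have := Submodule.mem_colon_singleton.mp ((Ideal.eq_top_iff_one _).mp h)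
    simpa using this))
  obtain ⟨i, hi, hbi⟩ := hF ⟨m, hm.isPrime⟩
  have h1 : algebraMap B (Localization.Away (b i)) (ey.hom v - ex.hom v : B) ∈ J.map (algebraMap B (Localization.Away (b i))) :=
    Ideal.map_mono (Ideal.span_mono (Set.image_mono (Finset.coe_subset.mpr (Finset.subset_biUnion_of_mem T hi)))) (hT i v)
  rw [IsLocalization.algebraMap_mem_map_algebraMap_iff (Submonoid.powers (b i)) (Localization.Away (b i))] at h1
  obtain ⟨_, ⟨n, rfl⟩, hn⟩ := h1
  exact hbi (hm.isPrime.mem_of_pow_mem n (hIm (Submodule.mem_colon_singleton.mpr hn)))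

end Groth.Agent.GrpSchLib.FinDiffFixed
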