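import Groth.Agent.GrpSchLib.TopDescent
import Groth.Agent.EtFound.Descent
import Groth.Prelude.Def_AlgGrp
import Mathlib.AlgebraicGeometry.Morphisms.Affine
import Mathlib.AlgebraicGeometry.Morphisms.FinitePresentation
import Mathlib.CategoryTheory.Limits.Constructions.Over.Connected

/-! A homogeneous space fibred over an affine one with affine fibre is affine. -/

universe u

open CategoryTheory CategoryTheory.Limits AlgebraicGeometry MonoidalCategory CartesianMonoidalCategory MonObj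

noncomputable section

namespace Groth.Agent.GrpSchLib.BundleQuot

open TopDescent

variable {S : Scheme.{u}}

theorem hasLocSec_fppf {U Y : Over S} (j : U ⟶ Y) [Flat j.left] [Surjective j.left]
    [LocallyOfFinitePresentation j.left] : HasLocSec Scheme.fppfTopology j := by
  refine ⟨Sieve.generate (Presieve.singleton j.left), Precoverage.generate_mem_toGrothendieck
    j.left.singleton_mem_fppfPrecoverage, ?_⟩
  rintro T _ ⟨_, b, _, ⟨⟩, rfl⟩
  exact ⟨b, rfl⟩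

/-- An fppf morphism of `S`-schemes. -/
def Cover {U Y : Over S} (j : U ⟶ Y) : Prop :=
  Flat j.left ∧ Surjective j.left ∧ LocallyOfFinitePresentation j.left

theorem Cover.hasLocSec {U Y : Over S} {j : U ⟶ Y} (h : Cover j) : HasLocSec Scheme.fppfTopology j := by
  obtain ⟨_, _, _⟩ := h
  exact hasLocSec_fppf j

theorem Cover.comp {U Y Z : Over S} {j : U ⟶ Y} {l : Y ⟶ Z} (h : Cover j) (h' : Cover l) : Cover (j ≫ l) := by
  obtain ⟨_, _, _⟩ := h
  obtain ⟨_, _, _⟩ := h'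
  exact ⟨inferInstanceAs (Flat (j.left ≫ l.left)), inferInstanceAs (Surjective (j.left ≫ l.left)),
    inferInstanceAs (LocallyOfFinitePresentation (j.left ≫ l.left))⟩

/-- Points of the target of a cover lift after a cover. -/
theorem Cover.lift {U Y T : Over S} {j : U ⟶ Y} (h : Cover j) (t : T ⟶ Y) :
    ∃ (T' : Over S) (c : T' ⟶ T) (s : T' ⟶ U), Cover c ∧ s ≫ j = c ≫ t := by
  obtain ⟨_, _, _⟩ := h
  let T' : Over S := Over.mk (pullback.fst t.left j.left ≫ T.hom)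
  let s : T' ⟶ U := Over.homMk (pullback.snd t.left j.left) (by
    show pullback.snd _ _ ≫ U.hom = pullback.fst _ _ ≫ T.hom
    rw [← Over.w j, ← pullback.condition_assoc, Over.w t])
  exact ⟨T', Over.homMk (pullback.fst _ _) rfl, s,
    ⟨inferInstanceAs (Flat (pullback.fst _ _)), inferInstanceAs (Surjective (pullback.fst _ _)),
      inferInstanceAs (LocallyOfFinitePresentation (pullback.fst _ _))⟩, Over.OverMorphism.ext pullback.condition.symm⟩

section square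

variable {G H X : Over S} [GrpObj G] [GrpObj H] {i : H ⟶ G} {qX : G ⟶ X}
  (hX : IsPullback (fst G H) ((G ◁ i) ≫ μ[G]) qX qX)

include hX in
theorem exists_eq_mul {T : Over S} {g₁ g₂ : T ⟶ G} (h : g₁ ≫ qX = g₂ ≫ qX) : ∃ t : T ⟶ H, g₁ * (t ≫ i) = g₂ := by
  let w := hX.lift g₁ g₂ h
  have h1 : w ≫ fst G H = g₁ := hX.lift_fst _ _ _
  refine ⟨w ≫ snd G H, ?_⟩
  have e : w ≫ (G ◁ i) = CartesianMonoidalCategory.lift g₁ ((w ≫ snd G H) ≫ i) := by
    apply CartesianMonoidalCategory.hom_ext <;> simp [h1]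
  rw [Hom.mul_def, ← e, Category.assoc]
  exact hX.lift_snd _ _ _

include hX in
theorem mul_comp_proj {T : Over S} (g : T ⟶ G) (t : T ⟶ H) : (g * (t ≫ i)) ≫ qX = g ≫ qX := by
  have e : CartesianMonoidalCategory.lift g t ≫ (G ◁ i) = CartesianMonoidalCategory.lift g (t ≫ i) := by
    apply CartesianMonoidalCategory.hom_ext <;> simp
  rw [Hom.mul_def, ← e, Category.assoc, Category.assoc, ← Category.assoc (G ◁ i), ← hX.w, lift_fst_assoc]

end square

/-- If `Z` is a normal subgroup with quotient `G₁`, the homogeneous spaces `Z/(Z ∩ H)` and `G₁/H₁` are affine, then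
so is `G/H`. -/
theorem isAffine [IsAffine S] {G H Z G₁ H₁ Z' X Y V : Over S} [GrpObj G] [GrpObj H] [GrpObj Z] [GrpObj G₁] [GrpObj H₁]
    [GrpObj Z'] [IsAffine G.left] [IsAffine Y.left] [IsAffine V.left]
    (i : H ⟶ G) [IsMonHom i] (i₀ : Z ⟶ G) [IsMonHom i₀] (q : G ⟶ G₁) [IsMonHom q] (hq : Cover q)
    (hker : AlgGrp.IsKernel i₀ q)
    (p : H ⟶ H₁) [IsMonHom p] (hp : Cover p) (i₁ : H₁ ⟶ G₁) [IsMonHom i₁] (hpi : p ≫ i₁ = i ≫ q)
    (j : Z' ⟶ Z) [IsMonHom j] (j' : Z' ⟶ H) (hj : IsPullback j j' i₀ i)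
    (qX : G ⟶ X) (hXc : Cover qX) (hX : IsPullback (fst G H) ((G ◁ i) ≫ μ[G]) qX qX)
    (qY : G₁ ⟶ Y) (hYc : Cover qY) (hY : IsPullback (fst G₁ H₁) ((G₁ ◁ i₁) ≫ μ[G₁]) qY qY)
    (qa : Z ⟶ V) (hVc : Cover qa) (hV : IsPullback (fst Z Z') ((Z ◁ j) ≫ μ[Z]) qa qa) :
    IsAffine X.left := by
  have hlX := hXc.hasLocSec
  obtain ⟨f, hf, -⟩ := hlX.existsUnique_desc (q ≫ qY) fun T a b hab => by
    obtain ⟨t, rfl⟩ := exists_eq_mul hX hab
    rw [← Category.assoc, ← Category.assoc, MonObj.mul_comp, Category.assoc t i q, ← hpi, ← Category.assoc t p i₁,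
      mul_comp_proj hY]
  let P : Over S := Over.mk (pullback.fst (q ≫ qY).left f.left ≫ G.hom)
  let π₁ : P ⟶ G := Over.homMk (pullback.fst _ _) rfl
  let π₂ : P ⟶ X := Over.homMk (pullback.snd (q ≫ qY).left f.left) (by
    show pullback.snd _ _ ≫ X.hom = pullback.fst _ _ ≫ G.hom
    rw [← Over.w f, ← pullback.condition_assoc, Over.w (q ≫ qY)])
  have hP : π₁ ≫ q ≫ qY = π₂ ≫ f := Over.OverMorphism.ext pullback.condition
  have hlV := (hVc.hasLocSec).whiskerLeft G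
  let Ψ : G ⊗ Z ⟶ X := (fst G Z * (snd G Z ≫ i₀)) ≫ qX
  obtain ⟨m, hm, -⟩ := hlV.existsUnique_desc Ψ fun T a b hab => by
    have h1 : a ≫ fst G Z = b ≫ fst G Z := by simpa using congrArg (· ≫ fst G V) hab
    have h2 : (a ≫ snd G Z) ≫ qa = (b ≫ snd G Z) ≫ qa := by simpa using congrArg (· ≫ snd G V) hab
    obtain ⟨t, ht⟩ := exists_eq_mul hV h2
    simp only [Ψ, ← Category.assoc, MonObj.comp_mul]
    have hmc : ∀ x y : T ⟶ Z, (x * y) ≫ i₀ = (x ≫ i₀) * (y ≫ i₀) := fun x y => by rw [MonObj.mul_comp]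
    rw [h1, ← ht, hmc, Category.assoc t j i₀, hj.w, ← Category.assoc t j' i, ← _root_.mul_assoc,
      mul_comp_proj hX]
  have hw : ((fst G V ≫ q ≫ qY : G ⊗ V ⟶ Y)) = m ≫ f := hlV.hom_ext (by
    rw [← Category.assoc _ m f, hm, whiskerLeft_fst_assoc]
    show _ = ((fst G Z * (snd G Z ≫ i₀)) ≫ qX) ≫ f
    rw [Category.assoc, hf, ← Category.assoc (_ * _) q qY, MonObj.mul_comp, Category.assoc (snd G Z) i₀ q, hker.w,
      ← Category.assoc (snd G Z) (toUnit Z), toUnit_unique (snd G Z ≫ toUnit Z) (toUnit _), ← Hom.one_def,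
      _root_.mul_one, Category.assoc])
  let Φ : G ⊗ V ⟶ P := Over.homMk (pullback.lift (fst G V).left m.left (congrArg Over.Hom.left hw)) (by
    show pullback.lift _ _ _ ≫ pullback.fst _ _ ≫ G.hom = _
    rw [pullback.lift_fst_assoc, Over.w])
  have hΦ₁ : Φ ≫ π₁ = fst G V := Over.OverMorphism.ext (pullback.lift_fst _ _ _)
  have hΦ₂ : Φ ≫ π₂ = m := Over.OverMorphism.ext (pullback.lift_snd _ _ _)
  have hm' : ∀ {T : Over S} (g : T ⟶ G) (z : T ⟶ Z), CartesianMonoidalCategory.lift g (z ≫ qa) ≫ m = (g * (z ≫ i₀)) ≫ qX := by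
    intro T g z
    have e : CartesianMonoidalCategory.lift g z ≫ (G ◁ qa) = CartesianMonoidalCategory.lift g (z ≫ qa) := by
      apply CartesianMonoidalCategory.hom_ext <;> simp
    rw [← e, Category.assoc, hm]
    simp only [Ψ, ← Category.assoc, MonObj.comp_mul, lift_fst, lift_snd]
  have hinj : ∀ (T : Over S) (a b : T ⟶ G ⊗ V), a ≫ Φ = b ≫ Φ → a = b := by
    intro T a b hab
    have h1 : a ≫ fst G V = b ≫ fst G V := by
      rw [← hΦ₁, ← Category.assoc, hab, Category.assoc]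
    have h2 : a ≫ m = b ≫ m := by rw [← hΦ₂, ← Category.assoc, hab, Category.assoc]
    obtain ⟨T₁, c₁, z, hc₁, hz⟩ := hVc.lift (a ≫ snd G V)
    obtain ⟨T₂, c₂, z', hc₂, hz'⟩ := hVc.lift (c₁ ≫ b ≫ snd G V)
    have hc := (hc₂.comp hc₁)
    refine hc.hasLocSec.hom_ext ?_
    have ea : (c₂ ≫ c₁) ≫ a = CartesianMonoidalCategory.lift ((c₂ ≫ c₁) ≫ a ≫ fst G V) ((c₂ ≫ z) ≫ qa) := by
      apply CartesianMonoidalCategory.hom_ext <;> simp [hz]
    have eb : (c₂ ≫ c₁) ≫ b = CartesianMonoidalCategory.lift ((c₂ ≫ c₁) ≫ a ≫ fst G V) (z' ≫ qa) := by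
      apply CartesianMonoidalCategory.hom_ext <;> simp [hz', h1]
    have h3 := congrArg ((c₂ ≫ c₁) ≫ ·) h2
    simp only [← Category.assoc _ _ m, ea, eb, hm'] at h3
    obtain ⟨t, ht⟩ := exists_eq_mul hX h3
    have ht' : t ≫ i = ((c₂ ≫ z)⁻¹ * z') ≫ i₀ := by
      rw [MonObj.mul_comp, GrpObj.inv_comp]
      rw [_root_.mul_assoc, mul_right_inj] at ht
      rw [← ht, inv_mul_cancel_left]
    let s := hj.lift _ _ ht'.symm
    have hs : s ≫ j = (c₂ ≫ z)⁻¹ * z' := hj.lift_fst _ _ _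
    rw [ea, eb]
    congr 1
    have : z' = (c₂ ≫ z) * (s ≫ j) := by rw [hs, mul_inv_cancel_left]
    rw [this, mul_comp_proj hV]
  obtain ⟨T₀, c₁, g', hc₁, hg'⟩ := hXc.lift π₂
  let g := c₁ ≫ π₁
  have heq : (g ≫ q) ≫ qY = (g' ≫ q) ≫ qY := by
    rw [Category.assoc, Category.assoc]
    show (c₁ ≫ π₁) ≫ q ≫ qY = _
    rw [Category.assoc c₁, hP, Category.assoc g', ← hf, ← Category.assoc g' qX f, hg', Category.assoc]
  obtain ⟨t, ht⟩ := exists_eq_mul hY heq
  obtain ⟨T₁, c₂, h, hc₂, hh⟩ := hp.lift t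
  let w : T₁ ⟶ G := (c₂ ≫ g)⁻¹ * ((c₂ ≫ g') * (h ≫ i)⁻¹)
  have hwq : w ≫ q = toUnit T₁ ≫ η[G₁] := by
    show _ = (1 : T₁ ⟶ G₁)
    simp only [w, MonObj.mul_comp, GrpObj.inv_comp, Category.assoc, ← hpi]
    rw [← ht, MonObj.comp_mul, ← Category.assoc h p i₁, hh, Category.assoc]
    simp [_root_.mul_assoc]
  let z := hker.lift w (toUnit T₁) hwq
  have hz : z ≫ i₀ = w := hker.lift_fst _ _ _
  let s : T₁ ⟶ G ⊗ V := CartesianMonoidalCategory.lift (c₂ ≫ g) (z ≫ qa)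
  have hs : s ≫ Φ = c₂ ≫ c₁ := by
    have h1 : (s ≫ Φ) ≫ π₁ = (c₂ ≫ c₁) ≫ π₁ := by
      rw [Category.assoc, hΦ₁, lift_fst, Category.assoc]
    have h2 : (s ≫ Φ) ≫ π₂ = (c₂ ≫ c₁) ≫ π₂ := by
      rw [Category.assoc, hΦ₂, hm', hz, mul_inv_cancel_left, ← GrpObj.inv_comp, mul_comp_proj hX, Category.assoc,
        hg', Category.assoc]
    exact Over.OverMorphism.ext (pullback.hom_ext (congrArg Over.Hom.left h1 :) (congrArg Over.Hom.left h2 :))
  have hΦl : HasLocSec Scheme.fppfTopology Φ := by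
    obtain ⟨R, hR, hsec⟩ := (hc₂.comp hc₁).hasLocSec
    refine ⟨R, hR, fun T a ha => ?_⟩
    obtain ⟨x, hx⟩ := hsec a ha
    refine ⟨x ≫ s.left, ?_⟩
    rw [Category.assoc, ← Over.comp_left, hs, hx]
  obtain ⟨χ, hχ, -⟩ := hΦl.existsUnique_desc (𝟙 _) fun T a b hab => by
    rw [Category.comp_id, Category.comp_id]; exact hinj T a b hab
  have hχ' : χ ≫ Φ = 𝟙 P := hΦl.hom_ext (by rw [← Category.assoc, hχ, Category.id_comp, Category.comp_id])
  haveI : IsIso χ.left := ⟨Φ.left, by rw [← Over.comp_left, hχ']; rfl, by rw [← Over.comp_left, hχ]; rfl⟩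
  haveI : IsAffineHom V.hom := inferInstance
  haveI : IsAffine (G ⊗ V).left := by
    rw [Over.tensorObj_left]
    haveI : IsAffineHom (pullback.fst G.hom V.hom) := inferInstance
    exact isAffine_of_isAffineHom (pullback.fst G.hom V.hom)
  haveI : IsAffine (pullback (q ≫ qY).left f.left) := IsAffine.of_isIso χ.left
  haveI : IsAffineHom (pullback.fst (q ≫ qY).left f.left) := inferInstance
  haveI := EtFound.fpqc_isAffineHom.{u}
  obtain ⟨_, _, _⟩ := hq.comp hYc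
  haveI : QuasiCompact (q ≫ qY).left := inferInstance
  haveI : IsAffineHom f.left :=
    MorphismProperty.of_isPullback_of_descendsAlong (P := @IsAffineHom)
      (Q := @Surjective ⊓ @Flat ⊓ @QuasiCompact) (IsPullback.of_hasPullback (q ≫ qY).left f.left)
      ⟨⟨inferInstance, inferInstance⟩, inferInstance⟩ inferInstance
  exact isAffine_of_isAffineHom f.left

end Groth.Agent.GrpSchLib.BundleQuot
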