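import Groth.Agent.GrpSchLib.ImageFactor
import Groth.Agent.GrpSchLib.KernelGrp
import Groth.Agent.S3280
import Mathlib.CategoryTheory.Abelian.Basic
import Mathlib.CategoryTheory.Monoidal.CommGrp_
import Mathlib.AlgebraicGeometry.Morphisms.FlatMono
import Mathlib.CategoryTheory.Limits.Constructions.FiniteProductsOfBinaryProducts

/-! Full subcategories of commutative algebraic groups over a field are abelian when they are stable
under closed subgroups and products and have quotients by closed subgroups. -/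

universe u

open CategoryTheory Limits AlgebraicGeometry MonoidalCategory CartesianMonoidalCategory MonObj

noncomputable section

namespace Groth.Agent.GrpSchLib.CommCat

variable {k : Type u} [Field k]


/-- The closure properties of a class of commutative algebraic groups. -/
structure Good (P : ObjectProperty (CommGrp (Over (Spec (CommRingCat.of k))))) : Prop where
  lft : ∀ G, P G → LocallyOfFiniteType G.X.hom ∧ QuasiCompact G.X.hom
  sub : ∀ (G : CommGrp (Over (Spec (CommRingCat.of k)))) (N : (Over (Spec (CommRingCat.of k)))) [GrpObj N] [IsCommMonObj N] (i : N ⟶ G.X) [IsMonHom i],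
    P G → IsClosedImmersion i.left → P (CommGrp.mk N)
  trivial : P (CommGrp.trivial (Over (Spec (CommRingCat.of k))))
  prod : ∀ G H : CommGrp (Over (Spec (CommRingCat.of k))), P G → P H → P (CommGrp.mk (G.X ⊗ H.X))
  quot : ∀ (G N : CommGrp (Over (Spec (CommRingCat.of k)))) (i : N ⟶ G), P G → P N → IsClosedImmersion i.hom.hom.hom.left →
    ∃ (Q : CommGrp (Over (Spec (CommRingCat.of k)))) (q : G ⟶ Q), P Q ∧ Flat q.hom.hom.hom.left ∧ Surjective q.hom.hom.hom.left ∧
      AlgGrp.IsKernel i.hom.hom.hom q.hom.hom.hom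

/-- A faithfully flat quasi-compact image of a commutative group is commutative. -/
theorem isCommMonObj_of_flat_surjective {G Q : Over (Spec (CommRingCat.of k))} [GrpObj G] [IsCommMonObj G]
    [GrpObj Q] [LocallyOfFiniteType G.hom] [QuasiCompact G.hom] [LocallyOfFiniteType Q.hom] [QuasiCompact Q.hom]
    (q : G ⟶ Q) [IsMonHom q] [Flat q.left] [Surjective q.left] : IsCommMonObj Q := by
  haveI := AntiAffine.isSeparated_grp Q
  haveI : QuasiCompact (q.left ≫ Q.hom) := by rw [Over.w q]; infer_instance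
  haveI : QuasiCompact q.left := QuasiCompact.of_comp q.left Q.hom
  have hb : ∀ W : Over (Spec (CommRingCat.of k)), Epi (W ◁ q) := fun W => by
    have hp := GrpSchLib.isPullback_whiskerLeft (W := W) q
    haveI : Surjective (W ◁ q).left := MorphismProperty.of_isPullback (P := @Surjective) hp.flip inferInstance
    haveI : Flat (W ◁ q).left := MorphismProperty.of_isPullback (P := @Flat) hp.flip inferInstance
    haveI : QuasiCompact (W ◁ q).left := MorphismProperty.of_isPullback (P := @QuasiCompact) hp.flip inferInstance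
    exact Over.epi_of_epi_left _
  have hc : ∀ W : Over (Spec (CommRingCat.of k)), Epi (q ▷ W) := fun W => by
    haveI := hb W
    rw [show q ▷ W = (β_ G W).hom ≫ (W ◁ q) ≫ (β_ Q W).inv by
      rw [← Category.assoc, ← BraidedCategory.braiding_naturality_left, Category.assoc, Iso.hom_inv_id,
        Category.comp_id]]
    infer_instance
  haveI : Epi (q ⊗ₘ q) := by
    rw [MonoidalCategory.tensorHom_def]
    haveI := hc G; haveI := hb Q
    infer_instance
  exact ⟨by rw [← cancel_epi (q ⊗ₘ q), BraidedCategory.braiding_naturality_assoc, ← IsMonHom.mul_hom q,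
    IsCommMonObj.mul_comm_assoc]⟩

variable {P : ObjectProperty (CommGrp (Over (Spec (CommRingCat.of k))))}

abbrev Obj (P : ObjectProperty (CommGrp (Over (Spec (CommRingCat.of k))))) := P.FullSubcategory

abbrev raw {A B : Obj P} (f : A ⟶ B) : A.obj.X ⟶ B.obj.X := f.hom.hom.hom.hom

def mk {A B : Obj P} (f : A.obj.X ⟶ B.obj.X) [IsMonHom f] : A ⟶ B :=
  ObjectProperty.homMk (InducedCategory.homMk (Grp.homMk (A := A.obj.toGrp) (B := B.obj.toGrp) f))

theorem raw_mk {A B : Obj P} (f : A.obj.X ⟶ B.obj.X) [IsMonHom f] : raw (mk f) = f := rfl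

theorem raw_comp {A B C : Obj P} (f : A ⟶ B) (g : B ⟶ C) : raw (f ≫ g) = raw f ≫ raw g := rfl

theorem raw_id (A : Obj P) : raw (𝟙 A) = 𝟙 A.obj.X := rfl

instance {A B : Obj P} (f : A ⟶ B) : IsMonHom (raw f) := f.hom.hom.hom.isMonHom_hom

@[ext]
theorem hom_ext {A B : Obj P} {f g : A ⟶ B} (h : raw f = raw g) : f = g :=
  ObjectProperty.hom_ext _ (CommGrp.hom_ext _ _ h)

theorem isMonHom_mul {M G : (Over (Spec (CommRingCat.of k)))} [MonObj M] [GrpObj G] [IsCommMonObj G] (f g : M ⟶ G) [IsMonHom f] [IsMonHom g] :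
    IsMonHom (f * g) where
  one_hom := by
    rw [MonObj.comp_mul, IsMonHom.one_hom f, IsMonHom.one_hom g, MonObj.one_eq_one, _root_.mul_one]
  mul_hom := by
    have h : ∀ (T : (Over (Spec (CommRingCat.of k)))) (a b : T ⟶ M) (φ : M ⟶ G) [IsMonHom φ], (a * b) ≫ φ = (a ≫ φ) * (b ≫ φ) :=
      fun T a b φ _ => MonObj.mul_comp a b φ
    rw [MonObj.comp_mul, IsMonHom.mul_hom f, IsMonHom.mul_hom g, MonObj.mul_eq_mul, MonObj.comp_mul,
      MonObj.comp_mul, tensorHom_fst, tensorHom_snd, tensorHom_fst, tensorHom_snd, MonObj.comp_mul,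
      tensorHom_fst, tensorHom_snd, MonObj.comp_mul, MonObj.comp_mul, _root_.mul_mul_mul_comm]

theorem isMonHom_one {M G : (Over (Spec (CommRingCat.of k)))} [MonObj M] [GrpObj G] : IsMonHom (1 : M ⟶ G) where
  one_hom := by rw [MonObj.comp_one, MonObj.one_eq_one]
  mul_hom := by
    rw [MonObj.comp_one, MonObj.mul_eq_mul, MonObj.comp_mul, tensorHom_fst, tensorHom_snd, MonObj.comp_one,
      MonObj.comp_one, _root_.mul_one]

@[reducible]
def homGroup (A B : Obj P) : AddCommGroup (A ⟶ B) where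
  add f g := haveI := isMonHom_mul (raw f) (raw g); mk (raw f * raw g)
  zero := haveI := isMonHom_one (M := A.obj.X) (G := B.obj.X); mk 1
  neg f := mk (raw f)⁻¹
  add_assoc f g h := hom_ext (_root_.mul_assoc (raw f) (raw g) (raw h))
  zero_add f := hom_ext (_root_.one_mul (raw f))
  add_zero f := hom_ext (_root_.mul_one (raw f))
  neg_add_cancel f := hom_ext (inv_mul_cancel (raw f))
  add_comm f g := hom_ext (_root_.mul_comm (raw f) (raw g))
  nsmul := @nsmulRec _ ⟨haveI := isMonHom_one (M := A.obj.X) (G := B.obj.X); mk 1⟩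
    ⟨fun f g => haveI := isMonHom_mul (raw f) (raw g); mk (raw f * raw g)⟩
  zsmul := @zsmulRec _ ⟨haveI := isMonHom_one (M := A.obj.X) (G := B.obj.X); mk 1⟩
    ⟨fun f g => haveI := isMonHom_mul (raw f) (raw g); mk (raw f * raw g)⟩ ⟨fun f => mk (raw f)⁻¹⟩
    (@nsmulRec _ ⟨haveI := isMonHom_one (M := A.obj.X) (G := B.obj.X); mk 1⟩
      ⟨fun f g => haveI := isMonHom_mul (raw f) (raw g); mk (raw f * raw g)⟩)

instance preadditive : Preadditive (Obj P) where
  homGroup := homGroup
  add_comp _ _ _ f g h := hom_ext (MonObj.mul_comp (raw f) (raw g) (raw h))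
  comp_add _ _ _ f g h := hom_ext (MonObj.comp_mul (raw f) (raw g) (raw h))

theorem raw_add {A B : Obj P} (f g : A ⟶ B) : raw (f + g) = raw f * raw g := rfl
theorem raw_zero {A B : Obj P} : raw (0 : A ⟶ B) = 1 := rfl

theorem eq_one_of {A B : Obj P} {f : A ⟶ B} (h : f = 0) : raw f = 1 := by rw [h, raw_zero]

theorem eq_zero_of {A B : Obj P} {f : A ⟶ B} (h : raw f = 1) : f = 0 := hom_ext (h.trans raw_zero.symm)

/-! ### Kernels -/

variable (hP : Good P)

include hP

theorem exists_ker {A B : Obj P} (f : A ⟶ B) :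
    ∃ (K : Obj P) (jj : K ⟶ A), AlgGrp.IsKernel (raw jj) (raw f) := by
  obtain ⟨h1, h2⟩ := hP.lft _ B.property
  obtain ⟨h3, h4⟩ := hP.lft _ A.property
  haveI := AntiAffine.isSeparated_grp B.obj.X
  obtain ⟨N, gN, i, hi, hci, -, hk⟩ := exists_kernel (raw f)
  haveI := hi
  haveI : Mono i.left := inferInstance
  haveI : Mono i := (Over.forget _).mono_of_mono_map (inferInstanceAs (Mono i.left))
  haveI : IsCommMonObj N := ⟨by
    rw [← cancel_mono i, Category.assoc, IsMonHom.mul_hom i, ← BraidedCategory.braiding_naturality_assoc,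
      IsCommMonObj.mul_comm]⟩
  exact ⟨⟨CommGrp.mk N, hP.sub _ N i A.property hci⟩, mk (A := ⟨CommGrp.mk N, hP.sub _ N i A.property hci⟩) i, hk⟩

omit hP in
theorem comp_eq_zero {K A B : Obj P} {jj : K ⟶ A} {f : A ⟶ B} (h : AlgGrp.IsKernel (raw jj) (raw f)) : jj ≫ f = 0 :=
  eq_zero_of (by rw [raw_comp, h.w, Hom.one_def])

omit hP in
def isLimitKernel {K A B : Obj P} (jj : K ⟶ A) (f : A ⟶ B) (h : AlgGrp.IsKernel (raw jj) (raw f)) :
    IsLimit (KernelFork.ofι jj (comp_eq_zero h)) :=
  haveI : Mono (raw jj) := ⟨fun a b hab => h.hom_ext hab (toUnit_unique _ _)⟩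
  haveI : Mono jj := ⟨fun a b hab => hom_ext (by rw [← cancel_mono (raw jj), ← raw_comp, hab, raw_comp])⟩
  KernelFork.IsLimit.ofι' jj (comp_eq_zero h) fun {T} g hg =>
    have hg' : raw g ≫ raw f = toUnit _ ≫ η[B.obj.X] := (eq_one_of (f := g ≫ f) hg).trans Hom.one_def
    haveI : IsMonHom (h.lift (raw g) (toUnit _) hg') :=
      ⟨by rw [← cancel_mono (raw jj), Category.assoc, h.lift_fst, IsMonHom.one_hom (raw g),
          IsMonHom.one_hom (raw jj)],
       by rw [← cancel_mono (raw jj), Category.assoc, h.lift_fst, IsMonHom.mul_hom (raw g), Category.assoc,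
          IsMonHom.mul_hom (raw jj), MonoidalCategory.tensorHom_comp_tensorHom_assoc, h.lift_fst]⟩
    ⟨mk (h.lift (raw g) (toUnit _) hg'), hom_ext (h.lift_fst _ _ _)⟩

theorem hasKernels : HasKernels (Obj P) := ⟨fun {A B} f => by
  obtain ⟨K, jj, h⟩ := exists_ker hP f
  exact ⟨⟨⟨_, isLimitKernel jj f h⟩⟩⟩⟩

/-! ### Monomorphisms and quotients -/

theorem isClosedImmersion_of_mono {A B : Obj P} (f : A ⟶ B) [Mono f] : IsClosedImmersion (raw f).left := by
  obtain ⟨h1, h2⟩ := hP.lft _ A.property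
  obtain ⟨h3, h4⟩ := hP.lft _ B.property
  obtain ⟨K, jj, hK⟩ := exists_ker hP f
  have hι : jj = 0 := by rw [← cancel_mono f, comp_eq_zero hK, zero_comp]
  haveI : Mono (raw f) := ⟨fun {T} a b hab => by
    have h0 : (a * b⁻¹) ≫ raw f = toUnit T ≫ η[B.obj.X] := by
      rw [MonObj.mul_comp, GrpObj.inv_comp, hab, mul_inv_cancel, Hom.one_def]
    have h1 : hK.lift (a * b⁻¹) (toUnit T) h0 ≫ raw jj = a * b⁻¹ := hK.lift_fst _ _ _
    have h2 : raw jj = 1 := eq_one_of hι
    exact mul_inv_eq_one.mp (h1.symm.trans ((congrArg _ h2).trans (MonObj.comp_one _)))⟩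
  obtain ⟨I, gI, p, i, hp, hi, hpi, hci, hfl, hsur, hlI, hqI⟩ := ImageFactor.exists_image (raw f)
  haveI := hfl; haveI := hsur
  haveI : Mono p := mono_of_mono_fac hpi
  haveI : Mono p.left := inferInstanceAs (Mono ((Over.forget _).map p))
  haveI : IsLocallyNoetherian I.left := LocallyOfFiniteType.isLocallyNoetherian I.hom
  haveI : LocallyOfFiniteType (p.left ≫ I.hom) := by rw [Over.w p]; infer_instance
  haveI : LocallyOfFiniteType p.left := locallyOfFiniteType_of_comp p.left I.hom
  haveI : LocallyOfFinitePresentation p.left := inferInstance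
  haveI : IsOpenImmersion p.left := IsOpenImmersion.of_flat_of_mono p.left
  haveI : IsIso p.left := (isIso_iff_isOpenImmersion_and_epi_base p.left).mpr
    ⟨inferInstance, (TopCat.epi_iff_surjective _).mpr p.left.surjective⟩
  rw [← hpi, Over.comp_left]
  infer_instance

theorem exists_quot {A B : Obj P} (i : A ⟶ B) (hi : IsClosedImmersion (raw i).left) :
    ∃ (Q : Obj P) (q : B ⟶ Q), AlgGrp.IsKernel (raw i) (raw q) ∧ Flat (raw q).left ∧ Surjective (raw q).left := by
  obtain ⟨Q, q, hQ, h1, h2, h3⟩ := hP.quot B.obj A.obj i.hom B.property A.property hi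
  exact ⟨⟨Q, hQ⟩, ObjectProperty.homMk q, h3, h1, h2⟩

/-- A flat surjective morphism with kernel `i` is a cokernel of any morphism factoring as `p ≫ i` with `p` epi. -/
def isColimitCokernel {A B Q : Obj P} (i : A ⟶ B) (q : B ⟶ Q) (h : AlgGrp.IsKernel (raw i) (raw q))
    (hf : Flat (raw q).left) (hs : Surjective (raw q).left) :
    IsColimit (CokernelCofork.ofπ q (comp_eq_zero h)) :=
  haveI := hf
  haveI := hs
  haveI := (hP.lft _ B.property).1
  haveI := (hP.lft _ B.property).2
  haveI := (hP.lft _ Q.property).1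
  haveI := (hP.lft _ Q.property).2
  haveI : Epi q := ⟨fun {Z} a b hab => hom_ext (by
    haveI := (hP.lft _ Z.property).1
    haveI := (hP.lft _ Z.property).2
    obtain ⟨w, -, -, hw⟩ := S3280.result k B.obj.X A.obj.X Q.obj.X Z.obj.X (raw q) (raw i) h (raw q ≫ raw a)
      (by rw [← Category.assoc, h.w, Category.assoc, IsMonHom.one_hom (raw a)])
    rw [hw (raw a) rfl, hw (raw b) (by rw [← raw_comp, ← hab, raw_comp])])⟩
  CokernelCofork.IsColimit.ofπ' q (comp_eq_zero h) fun {Z} g hg =>
    haveI := (hP.lft _ Z.property).1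
    haveI := (hP.lft _ Z.property).2
    have hex := S3280.result k B.obj.X A.obj.X Q.obj.X Z.obj.X (raw q) (raw i) h (raw g)
      ((eq_one_of (f := i ≫ g) hg).trans Hom.one_def)
    haveI : IsMonHom hex.choose := hex.choose_spec.1
    ⟨mk hex.choose, hom_ext hex.choose_spec.2.1⟩

theorem exists_factor {A B : Obj P} (f : A ⟶ B) :
    ∃ (I : Obj P) (p : A ⟶ I) (i : I ⟶ B), p ≫ i = f ∧ IsClosedImmersion (raw i).left ∧
      Flat (raw p).left ∧ Surjective (raw p).left := by
  obtain ⟨h1, h2⟩ := hP.lft _ A.property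
  obtain ⟨h3, h4⟩ := hP.lft _ B.property
  obtain ⟨I, gI, p, i, hp, hi, hpi, hci, hfl, hsur, -, -⟩ := ImageFactor.exists_image (raw f)
  haveI := hp; haveI := hi
  haveI : Mono i.left := inferInstance
  haveI : Mono i := (Over.forget _).mono_of_mono_map (inferInstanceAs (Mono i.left))
  haveI : IsCommMonObj I := ⟨by
    rw [← cancel_mono i, Category.assoc, IsMonHom.mul_hom i, ← BraidedCategory.braiding_naturality_assoc,
      IsCommMonObj.mul_comm]⟩
  let J : Obj P := ⟨CommGrp.mk I, hP.sub _ I i B.property hci⟩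
  exact ⟨J, mk (B := J) p, mk (A := J) i, hom_ext hpi, hci, hfl, hsur⟩

/-- A flat surjective morphism is a cokernel of its kernel. -/
theorem epi_of_flat_surjective {A B : Obj P} (p : A ⟶ B) (hf : Flat (raw p).left) (hs : Surjective (raw p).left) :
    Epi p := by
  obtain ⟨K, jj, hK⟩ := exists_ker hP p
  exact Cofork.IsColimit.epi (isColimitCokernel hP jj p hK hf hs)

theorem hasCokernels : HasCokernels (Obj P) := ⟨fun {A B} f => by
  obtain ⟨I, p, i, hpi, hci, hfl, hsur⟩ := exists_factor hP f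
  obtain ⟨Q, q, hq, h1, h2⟩ := exists_quot hP i hci
  haveI := epi_of_flat_surjective hP p hfl hsur
  subst hpi
  exact ⟨⟨⟨_, isCokernelEpiComp (isColimitCokernel hP i q hq h1 h2) p rfl⟩⟩⟩⟩

theorem isNormalMono : IsNormalMonoCategory (Obj P) where
  normalMonoOfMono {A B} f _ := by
    obtain ⟨Q, q, hq, -, -⟩ := exists_quot hP f (isClosedImmersion_of_mono hP f)
    exact ⟨⟨Q, q, comp_eq_zero hq, isLimitKernel f q hq⟩⟩

theorem isNormalEpi : IsNormalEpiCategory (Obj P) where
  normalEpiOfEpi {A B} f _ := by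
    obtain ⟨I, p, i, hpi, hci, hfl, hsur⟩ := exists_factor hP f
    obtain ⟨Q, q, hq, -, -⟩ := exists_quot hP i hci
    have hq0 : q = 0 := by
      rw [← cancel_epi f, ← hpi, Category.assoc, comp_eq_zero hq, comp_zero, comp_zero]
    have hw : 𝟙 B.obj.X ≫ raw q = toUnit _ ≫ η[Q.obj.X] := by
      rw [Category.id_comp, hq0, raw_zero, Hom.one_def]
    haveI : IsIso (raw i) := by
      haveI : Mono (raw i) := ⟨fun a b hab => hq.hom_ext hab (toUnit_unique _ _)⟩
      refine ⟨hq.lift _ _ hw, ?_, hq.lift_fst _ _ _⟩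
      rw [← cancel_mono (raw i), Category.assoc, hq.lift_fst, Category.comp_id, Category.id_comp]
    haveI : IsIso (raw i).left := inferInstanceAs (IsIso ((Over.forget _).map (raw i)))
    have h1 : Flat (raw f).left := by
      rw [← hpi, raw_comp, Over.comp_left]; haveI := hfl; infer_instance
    have h2 : Surjective (raw f).left := by
      rw [← hpi, raw_comp, Over.comp_left]; haveI := hsur; infer_instance
    obtain ⟨K, jj, hK⟩ := exists_ker hP f
    exact ⟨⟨K, jj, comp_eq_zero hK, isColimitCokernel hP jj f hK h1 h2⟩⟩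

theorem hasFiniteProducts : HasFiniteProducts (Obj P) := by
  haveI : HasTerminal (Obj P) := by
    let Z : Obj P := ⟨CommGrp.trivial (Over (Spec (CommRingCat.of k))), hP.trivial⟩
    haveI : ∀ A : Obj P, Unique (A ⟶ Z) := fun A =>
      { default := 0, uniq := fun f => hom_ext (toUnit_unique _ _) }
    exact hasTerminal_of_unique Z
  haveI : HasBinaryProducts (Obj P) := by
    refine @hasBinaryProducts_of_hasLimit_pair (Obj P) _ (fun {A B} => ?_)
    let W : Obj P := ⟨CommGrp.mk (A.obj.X ⊗ B.obj.X), hP.prod _ _ A.property B.property⟩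
    haveI : IsMonHom (fst A.obj.X B.obj.X : W.obj.X ⟶ A.obj.X) := inferInstanceAs (IsMonHom (fst A.obj.X B.obj.X))
    haveI : IsMonHom (snd A.obj.X B.obj.X : W.obj.X ⟶ B.obj.X) := inferInstanceAs (IsMonHom (snd A.obj.X B.obj.X))
    refine ⟨⟨⟨BinaryFan.mk (mk (A := W) (fst A.obj.X B.obj.X)) (mk (A := W) (snd A.obj.X B.obj.X)), ?_⟩⟩⟩
    refine BinaryFan.isLimitMk (fun s => haveI : IsMonHom (lift (raw s.fst) (raw s.snd) : _ ⟶ W.obj.X) :=
        inferInstanceAs (IsMonHom (lift (raw s.fst) (raw s.snd)))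
      mk (B := W) (lift (raw s.fst) (raw s.snd))) (fun s => hom_ext (lift_fst _ _)) (fun s => hom_ext (lift_snd _ _))
      (fun s m h1 h2 => hom_ext (CartesianMonoidalCategory.hom_ext _ _ ?_ ?_))
    · exact (congrArg raw h1).trans (lift_fst _ _).symm
    · exact (congrArg raw h2).trans (lift_snd _ _).symm
  exact hasFiniteProducts_of_has_binary_and_terminal

theorem nonempty_abelian : Nonempty (Abelian (Obj P)) :=
  haveI := isNormalMono hP
  haveI := isNormalEpi hP
  ⟨{ normalMonoOfMono := fun f => IsNormalMonoCategory.normalMonoOfMono f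
     normalEpiOfEpi := fun f => IsNormalEpiCategory.normalEpiOfEpi f
     has_finite_products := hasFiniteProducts hP
     has_kernels := hasKernels hP
     has_cokernels := hasCokernels hP }⟩

end Groth.Agent.GrpSchLib.CommCat
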