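import Groth.Agent.GrpSchLib.OrbitDim
import Groth.Agent.GrpSchLib.Kunneth
import Groth.Agent.H23.RedSub
import Groth.Agent.FDescent.UnivOpen

/-!
# Orbits of rational points over an arbitrary field
-/

universe u

open CategoryTheory Limits AlgebraicGeometry MonoidalCategory CartesianMonoidalCategory MonObj GrpObj

set_option backward.isDefEq.respectTransparency false
set_option backward.isDefEq.respectTransparency.types false

namespace Groth.Agent.GrpSchLib.OrbitAnyField

variable {k : Type u} [Field k] {G X : Over (Spec (CommRingCat.of k))} [GrpObj G]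
  (a : AlgGrp.Action G X) (x : 𝟙_ (Over (Spec (CommRingCat.of k))) ⟶ X)

/-- A moved point lies in the orbit exactly when the point does. -/
theorem act_mem_iff (p : (G ⊗ X).left) :
    a.act.left p ∈ Set.range (a.orbitMap x).left ↔ (snd G X).left p ∈ Set.range (a.orbitMap x).left := by
  have key : ∀ (ν : G ⊗ X ⟶ X) (h : G.left), ν.left p = (a.orbitMap x).left h →
      ∃ (Q : Over (Spec (CommRingCat.of k))) (u : Q ⟶ G ⊗ X) (v : Q ⟶ G) (q : Q.left),
        u.left q = p ∧ u ≫ ν = v ≫ a.orbitMap x := by
    intro ν h e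
    obtain ⟨q, hq1, -⟩ := Scheme.Pullback.exists_preimage_pullback (f := ν.left) (g := (a.orbitMap x).left) p h e
    let Q : Over (Spec (CommRingCat.of k)) := Over.mk (pullback.fst ν.left (a.orbitMap x).left ≫ (G ⊗ X).hom)
    let u : Q ⟶ G ⊗ X := Over.homMk (pullback.fst ν.left (a.orbitMap x).left) rfl
    let v : Q ⟶ G := Over.homMk (pullback.snd ν.left (a.orbitMap x).left) (by
      show pullback.snd ν.left (a.orbitMap x).left ≫ G.hom = pullback.fst ν.left (a.orbitMap x).left ≫ (G ⊗ X).hom
      rw [← Over.w (a.orbitMap x), ← Category.assoc, ← pullback.condition, Category.assoc, Over.w ν])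
    exact ⟨Q, u, v, q, hq1, Over.OverMorphism.ext pullback.condition⟩
  have horb : ∀ {Q : Over (Spec (CommRingCat.of k))} (w : Q ⟶ G),
      w ≫ a.orbitMap x = lift w (toUnit Q ≫ x) ≫ a.act := fun w => by
    rw [AlgGrp.Action.orbitMap, ← Category.assoc, comp_lift, Category.comp_id, ← Category.assoc, comp_toUnit]
  have hu : ∀ {Q : Over (Spec (CommRingCat.of k))} (u : Q ⟶ G ⊗ X),
      u = lift (u ≫ fst G X) (u ≫ snd G X) := fun u => by
    apply CartesianMonoidalCategory.hom_ext <;> simp
  have happ : ∀ {Q : Over (Spec (CommRingCat.of k))} (u : Q ⟶ G ⊗ X) (ν : G ⊗ X ⟶ X) (w : Q ⟶ G) (q : Q.left),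
      u ≫ ν = w ≫ a.orbitMap x → ν.left (u.left q) = (a.orbitMap x).left (w.left q) := fun u ν w q e =>
    congrArg (fun z => z.left q) e
  constructor
  · rintro ⟨h, hh⟩
    obtain ⟨Q, u, v, q, rfl, huv⟩ := key a.act h hh.symm
    refine ⟨((u ≫ fst G X)⁻¹ * v).left q, (happ u _ _ q ?_).symm⟩
    rw [horb] at huv ⊢
    rw [← act_mul, ← huv]
    rw [show u ≫ a.act = lift (u ≫ fst G X) (u ≫ snd G X) ≫ a.act from congrArg (fun z => z ≫ a.act) (hu u),
      act_mul, inv_mul_cancel, act_one]
  · rintro ⟨h, hh⟩
    obtain ⟨Q, u, v, q, rfl, huv⟩ := key (snd G X) h hh.symm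
    refine ⟨((u ≫ fst G X) * v).left q, (happ u _ _ q ?_).symm⟩
    rw [horb] at huv ⊢
    rw [← act_mul, ← huv]
    exact congrArg (fun z => z ≫ a.act) (hu u)

variable [LocallyOfFiniteType G.hom] [QuasiCompact G.hom] [LocallyOfFiniteType X.hom]

theorem isOpenMap_snd : IsOpenMap (snd G X).left := by
  haveI : Subsingleton ↥(Spec (CommRingCat.of k)) := inferInstanceAs (Subsingleton (PrimeSpectrum k))
  haveI := FDescent.universallyOpen_of_subsingleton G.hom
  haveI : UniversallyOpen (snd G X).left := inferInstanceAs (UniversallyOpen (pullback.snd G.hom X.hom))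
  exact (snd G X).left.isOpenMap

/-- The boundary of an orbit is carried into itself. -/
theorem act_mem_boundary (p : (G ⊗ X).left)
    (hp : (snd G X).left p ∈ closure (Set.range (a.orbitMap x).left) \ Set.range (a.orbitMap x).left) :
    a.act.left p ∈ closure (Set.range (a.orbitMap x).left) \ Set.range (a.orbitMap x).left := by
  refine ⟨?_, fun h => hp.2 ((act_mem_iff a x p).mp h)⟩
  have h1 : p ∈ closure ((snd G X).left ⁻¹' Set.range (a.orbitMap x).left) :=
    isOpenMap_snd.preimage_closure_subset_closure_preimage hp.1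
  exact map_mem_closure a.act.left.continuous h1 fun z hz => (act_mem_iff a x z).mpr hz

variable [CompactSpace X.left] [IsSeparated X.hom]

include a in
/-- Orbits of rational points are locally closed. -/
theorem isLocallyClosed_orbit : IsLocallyClosed (Set.range (a.orbitMap x).left) := by
  haveI : Nonempty G.left := ⟨(η[G] : 𝟙_ _ ⟶ G).left (IsLocalRing.closedPoint k)⟩
  haveI : IsLocallyNoetherian X.left := LocallyOfFiniteType.isLocallyNoetherian X.hom
  haveI : QuasiCompact (a.orbitMap x).left := by
    have : QuasiCompact ((a.orbitMap x).left ≫ X.hom) := by rw [Over.w (a.orbitMap x)]; infer_instance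
    exact QuasiCompact.of_comp (a.orbitMap x).left X.hom
  refine isLocallyClosed_range_of_homogeneous (K := AlgebraicClosure k) (a.orbitMap x) fun w w' => ?_
  obtain ⟨S, T, h1, -, h3⟩ := orbitMap_homogeneous a x w w'
  exact ⟨S, T, h1, h3⟩

end Groth.Agent.GrpSchLib.OrbitAnyField
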