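import Groth.Agent.GrpSchLib.ArtinImage
import Groth.Agent.GrpSchLib.KernelPair
import Groth.Agent.S3036
import Mathlib.AlgebraicGeometry.Morphisms.FlatDescent

/-! A quasi-compact homomorphism of locally algebraic groups with proper kernel is proper. -/

universe u

open CategoryTheory CategoryTheory.Limits AlgebraicGeometry MonoidalCategory CartesianMonoidalCategory MonObj GrpObj

namespace Groth.Agent.GrpSchLib.ProperKernel

theorem universallyClosed_of_kernel {K : Type u} [Field K] {N G H : Over (Spec (CommRingCat.of K))} [GrpObj G] [GrpObj H]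
    [LocallyOfFiniteType G.hom] [LocallyOfFiniteType H.hom] (v : G ⟶ H) [IsMonHom v] [QuasiCompact v.left]
    (i : N ⟶ G) (hker : AlgGrp.IsKernel i v) [UniversallyClosed N.hom] : UniversallyClosed v.left := by
  have sq : IsPullback i.left (toUnit N).left v.left η[H].left := hker.map (Over.forget _)
  have hflat : Flat (pullback.snd v.left η[H].left) := by
    haveI : Flat N.hom := inferInstance
    rw [← sq.isoPullback_inv_snd]
    have e : (toUnit N).left = N.hom := by
      have h := Over.w (toUnit N)
      rwa [show (𝟙_ (Over (Spec (CommRingCat.of K)))).hom = 𝟙 _ from rfl, Category.comp_id] at h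
    haveI : Flat (toUnit N).left := e.symm ▸ ‹Flat N.hom›
    infer_instance
  haveI : LocallyOfFinitePresentation G.hom := inferInstance
  obtain ⟨Q, str, p, j, hp, hj, hpj, hmono, hs, hf, hlfp, hQ⟩ := ArtinImage.exists_factor v hflat
  haveI : QuasiCompact j.left := by
    rw [quasiCompact_iff_forall_isAffineOpen]
    intro U hU
    have hc : IsCompact (v.left ⁻¹ᵁ U : Set G.left) :=
      (quasiCompact_iff_forall_isAffineOpen.mp inferInstance) U hU
    have he : (j.left ⁻¹ᵁ U : Set Q.left) = p.left '' (v.left ⁻¹ᵁ U : Set G.left) := by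
      rw [show v.left = p.left ≫ j.left from by rw [← Over.comp_left, hpj]]
      exact (Set.image_preimage_eq (f := p.left) (j.left ⁻¹' (U : Set H.left)) hs.surj).symm
    rw [he]
    exact hc.image p.left.continuous
  haveI := S3036.result K Q H j
  have hkp : AlgGrp.IsKernel i p :=
    AlgStLib.MonoFactor.isPullback_of_mono hpj (IsMonHom.one_hom j) hker
  obtain ⟨φ, hφ, hφs⟩ := exists_kernelPair_iso i p hkp
  haveI : UniversallyClosed (snd N G).left := MorphismProperty.pullback_snd N.hom G.hom inferInstance
  haveI : UniversallyClosed (pullback.snd p.left p.left) := by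
    rw [show pullback.snd p.left p.left = inv φ ≫ (snd N G).left by rw [← hφs, IsIso.inv_hom_id_assoc]]
    infer_instance
  haveI : UniversallyClosed p.left :=
    MorphismProperty.of_pullback_snd_of_descendsAlong (P := @UniversallyClosed)
      (Q := @Surjective ⊓ @Flat ⊓ @LocallyOfFinitePresentation) ⟨⟨hs, hf⟩, hlfp⟩ ‹_›
  rw [show v.left = p.left ≫ j.left from by rw [← Over.comp_left, hpj]]
  infer_instance

theorem isProper_of_isProper_ker {A : Type u} [CommRing A] [IsArtinianRing A] [IsLocalRing A]
    {G H : Over (Spec (CommRingCat.of A))} [GrpObj G] [GrpObj H] [LocallyOfFiniteType G.hom]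
    [LocallyOfFiniteType H.hom] (u : G ⟶ H) [IsMonHom u] [QuasiCompact u.left]
    (h : UniversallyClosed (pullback.snd u.left η[H].left)) : IsProper u.left := by
  haveI : IsSeparated u.left := by
    have := HomFinite.isSeparated G
    have : IsSeparated (u.left ≫ H.hom) := by rwa [Over.w u]
    exact IsSeparated.of_comp u.left H.hom
  haveI : LocallyOfFiniteType u.left := by
    have : LocallyOfFiniteType (u.left ≫ H.hom) := by rw [Over.w u]; infer_instance
    exact locallyOfFiniteType_of_comp u.left H.hom
  let F := Over.pullback (HomFinite.geomPt A)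
  let N₀ := pullback u η[H]
  haveI : UniversallyClosed N₀.hom := by
    have sq : IsPullback (pullback.fst u η[H]).left (pullback.snd u η[H]).left u.left η[H].left :=
      (IsPullback.of_hasPullback u η[H]).map (Over.forget _)
    have e : N₀.hom =
        sq.isoPullback.hom ≫ pullback.snd u.left η[H].left ≫ (𝟙_ (Over (Spec (CommRingCat.of A)))).hom := by
      rw [sq.isoPullback_hom_snd_assoc]
      exact (Over.w (pullback.snd u η[H])).symm
    haveI : UniversallyClosed (𝟙_ (Over (Spec (CommRingCat.of A)))).hom := inferInstanceAs (UniversallyClosed (𝟙 _))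
    rw [e]
    infer_instance
  haveI : UniversallyClosed (F.obj N₀).hom := MorphismProperty.pullback_snd _ _ ‹_›
  haveI : LocallyOfFiniteType (F.obj G).hom := inferInstanceAs (LocallyOfFiniteType (pullback.snd G.hom _))
  haveI : LocallyOfFiniteType (F.obj H).hom := inferInstanceAs (LocallyOfFiniteType (pullback.snd H.hom _))
  haveI : QuasiCompact (F.map u).left := MorphismProperty.overPullbackMap (P := @QuasiCompact) _ u ‹_›
  haveI : IsMonHom (F.map u) := inferInstance
  have hker : AlgGrp.IsKernel (F.map (pullback.fst u η[H])) (F.map u) := by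
    refine ((IsPullback.of_hasPullback u η[H]).map F).of_iso (Iso.refl _) (Iso.refl _)
      (Functor.Monoidal.εIso F).symm (Iso.refl _) ?_ ?_ ?_ ?_
    · simp
    · exact toUnit_unique _ _
    · simp
    · simp only [Iso.refl_hom, Category.comp_id, Iso.symm_hom]
      rw [Iso.eq_inv_comp, Functor.Monoidal.εIso_hom]
      exact (Functor.obj.η_def _).symm
  haveI := universallyClosed_of_kernel (F.map u) _ hker
  haveI : UniversallyClosed u.left := HomFinite.universallyClosed_of_geomPt u
  exact ⟨⟩

end Groth.Agent.GrpSchLib.ProperKernel
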