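import Groth.Agent.GrpSchLib.RankOneClosedValue
import Groth.Agent.GrpSchLib.RankOneBraid
import Groth.Agent.GrpSchLib.RankOneHom
import Groth.Agent.GrpSchLib.RankOneNonComm
import Groth.Agent.MultConjLib.Closed
import Groth.Agent.MultConjLib.Exists

/-! The root groups and the two opposite groups `T ⋅ U` of a rank-one system are closed. -/

set_option autoImplicit false
set_option backward.isDefEq.respectTransparency false
set_option linter.style.haveILetI false

universe u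

open CategoryTheory CategoryTheory.Limits AlgebraicGeometry MonoidalCategory CartesianMonoidalCategory
open scoped MonObj

noncomputable section

namespace Groth.Agent.GrpSchLib.RankOne.Sys

/-- Transport of a system along an isomorphism of coordinate rings. -/
def mapRing {R R' G T : Type*} [CommRing R] [CommRing R'] [Group G] [Group T] (Φ : Sys R G T) (e : R ≃+* R') :
    Sys R' G T where
  p x := Φ.p (e.symm x)
  m x := Φ.m (e.symm x)
  I := Φ.I
  a := (Units.map (e : R →* R')).comp Φ.a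
  av := Φ.av.comp (Units.map (e.symm : R' →* R))
  p_add x y := by rw [map_add, Φ.p_add]
  m_add x y := by rw [map_add, Φ.m_add]
  conj_p t x := by rw [Φ.conj_p]; simp
  conj_m t y := by rw [Φ.conj_m]; simp
  a_av v := by ext; simp [Φ.a_av]
  rule x y v hv := by
    have := Φ.rule (e.symm x) (e.symm y) (Units.map (e.symm : R' →* R) v) (by simp [hv])
    simpa using this

/-- The braid relation. -/
def Braided {R G T : Type*} [CommRing R] [Group G] [Group T] (Φ : Sys R G T) : Prop :=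
  ∀ x : Rˣ, Φ.m ((x⁻¹ : Rˣ) : R) * Φ.p (-(x : R)) * Φ.m ((x⁻¹ : Rˣ) : R) = Φ.w (-x)

/-- Conjugation by `w(u)` sends `p(u)` to `m(-u⁻¹)`. -/
theorem w_conj_self {R G T : Type*} [CommRing R] [Group G] [Group T] {Φ : Sys R G T} (hb : Φ.Braided) (u : Rˣ) :
    Φ.w u * Φ.p u * (Φ.w u)⁻¹ = Φ.m (-((u⁻¹ : Rˣ) : R)) := by
  have hb' : Φ.m (-((u⁻¹ : Rˣ) : R)) * Φ.p u * Φ.m (-((u⁻¹ : Rˣ) : R)) = Φ.w u := by
    simpa using hb (-u)
  conv_lhs => arg 1; arg 1; rw [← hb']
  simp only [w]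
  group

/-- Conjugation by `w(1)` exchanges the root groups. -/
theorem w_conj_p {K G T : Type*} [Field K] [Group G] [Group T] {Φ : Sys K G T} (hb : Φ.Braided) (x : K) :
    Φ.w 1 * Φ.p x * (Φ.w 1)⁻¹ = Φ.m (-x) := by
  by_cases hx : x = 0
  · simp [hx]
  obtain ⟨u, rfl⟩ := (Ne.isUnit hx : IsUnit x)
  have e : Φ.w u = Φ.I (Φ.av u) * Φ.w 1 := by rw [← w_mul, mul_one]
  have hp := w_conj_self hb u
  rw [e] at hp
  calc Φ.w 1 * Φ.p u * (Φ.w 1)⁻¹
      = Φ.I (Φ.av u⁻¹) * Φ.m (-((u⁻¹ : Kˣ) : K)) * (Φ.I (Φ.av u⁻¹))⁻¹ := by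
        rw [← hp, map_inv Φ.av, map_inv]; group
    _ = _ := by
        rw [Φ.conj_m, Φ.a_av, inv_pow, inv_inv, Units.val_pow_eq_pow_val]
        congr 1
        simp only [Units.val_inv_eq_inv_val]
        field_simp

/-- Conjugation by `w(1)⁻¹` on `m`. -/
theorem w_conj_m {K G T : Type*} [Field K] [Group G] [Group T] {Φ : Sys K G T} (hb : Φ.Braided) (x : K) :
    (Φ.w 1)⁻¹ * Φ.m x * Φ.w 1 = Φ.p (-x) := by
  rw [show Φ.m x = Φ.w 1 * Φ.p (-x) * (Φ.w 1)⁻¹ by rw [w_conj_p hb, neg_neg]]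
  group

end Groth.Agent.GrpSchLib.RankOne.Sys

namespace Groth.Agent.GrpSchLib.RankOneClosed

open RankOneComm (res pt gpt val gval sv sv_res res_pt val_pt gval_gpt)
open RankOne (Sys)

variable {S : Scheme.{u}} {G T : Over S} [GrpObj G] [GrpObj T] {i : T ⟶ G} [IsMonHom i] {α : T ⟶ Red.Gm S}
  [IsMonHom α] {pp pm : Red.Ga S ⟶ G} [IsMonHom pp] [IsMonHom pm] {av : Red.Gm S ⟶ T} [IsMonHom av]

/-- A rank-one system together with its coroot. -/
structure Data (i : T ⟶ G) (α : T ⟶ Red.Gm S) (pp pm : Red.Ga S ⟶ G) (av : Red.Gm S ⟶ T) : Prop where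
  hG : Red.IsReductive G
  hT : Red.IsTorus T
  hi : Mono i
  hpp : ∀ (X : Over S) (t : X ⟶ T) (x : X ⟶ Red.Ga S), ∃ x' : X ⟶ Red.Ga S,
    x' ≫ pp = (t ≫ i) * (x ≫ pp) * (t ≫ i)⁻¹ ∧ Red.gaFn x' = Red.gmFn (t ≫ α) * Red.gaFn x
  hpm : ∀ (X : Over S) (t : X ⟶ T) (y : X ⟶ Red.Ga S), ∃ y' : X ⟶ Red.Ga S,
    y' ≫ pm = (t ≫ i) * (y ≫ pm) * (t ≫ i)⁻¹ ∧ Red.gaFn y' * Red.gmFn (t ≫ α) = Red.gaFn y
  hΩ : IsOpenImmersion (RankOne.cellMap i pp pm).left
  h2 : av ≫ α = (𝟙 (Red.Gm S)) ^ 2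
  hF : ∀ (X : Over S) (x y : X ⟶ Red.Ga S), IsUnit (1 + Red.gaFn x * Red.gaFn y) →
    ∃ (x' y' : X ⟶ Red.Ga S) (z : X ⟶ Red.Gm S), Red.gmFn z = 1 + Red.gaFn x * Red.gaFn y ∧
      Red.gaFn x' * Red.gmFn z = Red.gaFn x ∧ Red.gaFn y' * Red.gmFn z = Red.gaFn y ∧
      (x ≫ pp) * (y ≫ pm) = (y' ≫ pm) * (z ≫ av ≫ i) * (x' ≫ pp)

variable (D : Data i α pp pm av)
include D

/-- The system of points over an affine test object. -/
def sysAt {A : Type u} [CommRing A] (b : Spec (CommRingCat.of A) ⟶ S) :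
    Sys A (Over.mk b ⟶ G) (Over.mk b ⟶ T) :=
  (RankOne.sys i α pp pm D.hpp D.hpm av D.h2 D.hF (Over.mk b)).mapRing (sv b)

theorem sysAt_braided {A : Type u} [CommRing A] (b : Spec (CommRingCat.of A) ⟶ S) : (sysAt D b).Braided := by
  intro x
  have h := RankOne.braid i α pp pm D.hpp D.hpm av D.h2 D.hF (Over.mk b)
    (Units.map ((sv b).symm : A →* Γ((Over.mk b).left, ⊤)) x)
  have e : ∀ a : A, (sv b).symm (-a) = -((sv b).symm a) := fun a => map_neg (sv b).symm.toRingHom a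
  simp only [sysAt, Sys.mapRing, Sys.w, Units.val_neg, inv_neg, neg_neg, e]
  simpa [Sys.w] using h

variable {A B : Type u} [CommRing A] [CommRing B] {b : Spec (CommRingCat.of A) ⟶ S}
  {b' : Spec (CommRingCat.of B) ⟶ S} (φ : A →+* B) (hb : Spec.map (CommRingCat.ofHom φ) ≫ b = b')

theorem res_p (x : A) : res φ hb ≫ (sysAt D b).p x = (sysAt D b').p (φ x) := by
  show res φ hb ≫ pt b x ≫ pp = pt b' (φ x) ≫ pp
  rw [← Category.assoc, res_pt]

theorem res_m (x : A) : res φ hb ≫ (sysAt D b).m x = (sysAt D b').m (φ x) := by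
  show res φ hb ≫ pt b x ≫ pm = pt b' (φ x) ≫ pm
  rw [← Category.assoc, res_pt]

theorem res_w_one : res φ hb ≫ (sysAt D b).w 1 = (sysAt D b').w 1 := by
  simp only [Sys.w, MonObj.comp_mul, res_p D, res_m D, map_neg, map_one, inv_one, Units.val_one]

theorem res_a (t : Over.mk b ⟶ T) :
    (sysAt D b').a (res φ hb ≫ t) = Units.map φ.toMonoidHom ((sysAt D b).a t) := by
  show gval b' ((res φ hb ≫ t) ≫ α) = _
  rw [Category.assoc, RankOneComm.gval_res]
  rfl

theorem res_I (t : Over.mk b ⟶ T) : res φ hb ≫ (sysAt D b).I t = (sysAt D b').I (res φ hb ≫ t) :=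
  (Category.assoc _ _ _).symm

theorem res_av (z : Aˣ) :
    res φ hb ≫ (sysAt D b).av z = (sysAt D b').av (Units.map φ.toMonoidHom z) := by
  show res φ hb ≫ gpt b z ≫ av = gpt b' _ ≫ av
  rw [← Category.assoc]
  congr 1
  refine RankOneComm.gval_injective b' ?_
  rw [RankOneComm.gval_res, gval_gpt, gval_gpt]

theorem eq_of_res [IsAffineHom G.hom] (hφ : Function.Injective φ) {g g' : Over.mk b ⟶ G}
    (h : res φ hb ≫ g = res φ hb ≫ g') : g = g' :=
  RankOne.eq_of_injective (A := CommRingCat.of A) (B := CommRingCat.of B) φ hb hφ h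

/-- An integral point with generic value in `T` is a point of `T`. -/
theorem exists_torus (hφ : Function.Injective φ) (g : Over.mk b ⟶ G) (t : Over.mk b' ⟶ T)
    (h : res φ hb ≫ g = t ≫ i) : ∃ s : Over.mk b ⟶ T, s ≫ i = g ∧ res φ hb ≫ s = t := by
  haveI : IsAffineHom G.hom := D.hG.1
  haveI := D.hi
  have hlam : ∀ (X : Over S) (z : (Γ(X.left, ⊤))ˣ), GmPts.unitOfPt (GmPts.ptOfUnit z ≫ av ≫ α) = z ^ 2 := by
    intro X z
    exact RankOne.unitOfPt_av D.h2 z
  have hg : ∀ (Y : Over S) (j : Y ⟶ Over.mk b) (z : (Γ(Y.left, ⊤))ˣ),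
      (GmPts.ptOfUnit z ≫ av ≫ i) * (j ≫ g) * (GmPts.ptOfUnit z ≫ av ≫ i)⁻¹ = j ≫ g := by
    intro Y j z
    have key : ∀ (C : Type u) [CommRing C] (c : Spec (CommRingCat.of C) ⟶ S) (k : Over.mk c ⟶ Over.mk b)
        (v : Cˣ), (k ≫ g) * (sysAt D c).I ((sysAt D c).av v) = (sysAt D c).I ((sysAt D c).av v) * (k ≫ g) := by
      intro C _ c k v
      let ψ : A →+* C := (Spec.preimage k.left).hom
      have hk : Spec.map (CommRingCat.ofHom ψ) ≫ b = c := by
        rw [CommRingCat.ofHom_hom, Spec.map_preimage]; exact Over.w k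
      have hk' : k = res ψ hk := by
        ext1
        show k.left = Spec.map (CommRingCat.ofHom ψ)
        rw [CommRingCat.ofHom_hom, Spec.map_preimage]
      let Λ := LaurentPolynomial A
      let ΛB := LaurentPolynomial B
      let ι' : A →+* Λ := LaurentPolynomial.C
      let cA : Spec (CommRingCat.of Λ) ⟶ S := Spec.map (CommRingCat.ofHom ι') ≫ b
      let χ : Λ →+* C := LaurentPolynomial.eval₂ ψ v
      have hχ : Spec.map (CommRingCat.ofHom χ) ≫ cA = c := by
        rw [← Category.assoc, ← Spec.map_comp, ← CommRingCat.ofHom_comp, ← hk]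
        congr 3
        exact RingHom.ext fun r => LaurentPolynomial.eval₂_C ψ v r
      let Z : Λˣ := (LaurentPolynomial.isUnit_T (R := A) 1).unit
      have hZ : Units.map χ.toMonoidHom Z = v := Units.ext ((LaurentPolynomial.eval₂_T ψ v 1).trans (by rw [zpow_one]))
      suffices e : (res ι' rfl ≫ g) * (sysAt D cA).I ((sysAt D cA).av Z) =
          (sysAt D cA).I ((sysAt D cA).av Z) * (res ι' rfl ≫ g) by
        have e' := congrArg (res χ hχ ≫ ·) e
        simp only [MonObj.comp_mul, res_I D, res_av D, hZ, ← Category.assoc] at e'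
        have hcomp : res χ hχ ≫ res ι' rfl = k := by
          rw [hk']
          ext1
          show Spec.map _ ≫ Spec.map _ = Spec.map _
          rw [← Spec.map_comp, ← CommRingCat.ofHom_comp]
          congr 2
          exact RingHom.ext fun r => LaurentPolynomial.eval₂_C ψ v r
        rwa [hcomp] at e'
      let φΛ : Λ →+* ΛB := AddMonoidAlgebra.mapRingHom ℤ φ
      let cB : Spec (CommRingCat.of ΛB) ⟶ S := Spec.map (CommRingCat.ofHom φΛ) ≫ cA
      have hφΛ : Function.Injective φΛ := AddMonoidAlgebra.map_injective φ.toAddMonoidHom hφ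
      refine eq_of_res D φΛ (b' := cB) rfl hφΛ ?_
      have hB : Spec.map (CommRingCat.ofHom (LaurentPolynomial.C (R := B))) ≫ b' = cB := by
        simp only [cB, cA, ← hb, ← Category.assoc, ← Spec.map_comp, ← CommRingCat.ofHom_comp]
        congr 3
        exact RingHom.ext fun r => (AddMonoidAlgebra.mapRingHom_single φ 0 r).symm
      have hg : res φΛ (b' := cB) rfl ≫ res ι' rfl ≫ g = (res (LaurentPolynomial.C (R := B)) hB ≫ t) ≫ i := by
        rw [Category.assoc, ← h]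
        simp only [← Category.assoc]
        congr 1
        ext1
        show Spec.map _ ≫ Spec.map _ = Spec.map _ ≫ Spec.map _
        simp only [← Spec.map_comp, ← CommRingCat.ofHom_comp]
        congr 2
        exact RingHom.ext fun r => AddMonoidAlgebra.mapRingHom_single φ 0 r
      simp only [MonObj.comp_mul, res_I D, res_av D, hg]
      show (sysAt D cB).I _ * (sysAt D cB).I _ = (sysAt D cB).I _ * (sysAt D cB).I _
      rw [← map_mul, ← map_mul, RankOne.torus_mul_comm D.hT]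
    have : (j ≫ g) * (GmPts.ptOfUnit z ≫ av ≫ i) = (GmPts.ptOfUnit z ≫ av ≫ i) * (j ≫ g) := by
      refine RankOne.ext_spec fun C c k => ?_
      have e := key C c (k ≫ j) (gval (A := C) c (k ≫ GmPts.ptOfUnit z))
      simp only [MonObj.comp_mul, ← Category.assoc]
      have hz : ((k ≫ GmPts.ptOfUnit z) ≫ av) ≫ i =
          (sysAt D (A := C) c).I ((sysAt D (A := C) c).av (gval (A := C) c (k ≫ GmPts.ptOfUnit z))) := by
        show _ = (gpt (A := C) c _ ≫ av) ≫ i
        congr 2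
        exact RankOneComm.gval_injective (A := C) c (gval_gpt (A := C) c _).symm
      rw [hz]
      exact e
    rw [← this, mul_inv_cancel_right]
  obtain ⟨s, hs⟩ := RankOne.exists_torus_of_centralizes D.hG D.hT D.hpp D.hpm D.hΩ av 2 two_pos hlam g hg
  refine ⟨s, hs.symm, ?_⟩
  rw [← cancel_mono i, Category.assoc, ← hs, h]

section Val

variable {R K : Type u} [CommRing R] [IsDomain R] [ValuationRing R] [Field K] [Algebra R K] [IsFractionRing R K]
  {b : Spec (CommRingCat.of R) ⟶ S} {bK : Spec (CommRingCat.of K) ⟶ S}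
  (hb : Spec.map (CommRingCat.ofHom (algebraMap R K)) ≫ b = bK)

/-- An integral point with generic value in `U` is a point of `U`. -/
theorem exists_coord (g : Over.mk b ⟶ G) (x : K) (h : res (algebraMap R K) hb ≫ g = (sysAt D bK).p x) :
    ∃ r, algebraMap R K r = x := by
  rcases ValuationRing.isInteger_or_isInteger R x with ⟨r, hr⟩ | ⟨r, hr⟩
  · exact ⟨r, hr⟩
  by_cases hx0 : x = 0
  · exact ⟨0, by rw [map_zero, hx0]⟩
  obtain ⟨v, rfl⟩ := (Ne.isUnit hx0 : IsUnit x)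
  let Φ := sysAt D bK
  have hw : res (algebraMap R K) hb ≫ (g * (sysAt D b).m (-r) * g * ((sysAt D b).w 1)⁻¹) =
      (Φ.av v) ≫ i := by
    rw [MonObj.comp_mul, MonObj.comp_mul, MonObj.comp_mul, GrpObj.comp_inv, h, res_m D, res_w_one D, map_neg, hr,
      ← Units.val_inv_eq_inv_val]
    show Φ.w v * (Φ.w 1)⁻¹ = Φ.I (Φ.av v)
    rw [mul_inv_eq_iff_eq_mul, ← Φ.w_mul, _root_.mul_one]
  obtain ⟨s, -, hs⟩ := exists_torus D _ hb (IsFractionRing.injective R K) _ _ hw
  have h1 := res_a D (algebraMap R K) hb s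
  rw [hs, Φ.a_av] at h1
  have h1' : (v : K) * v = algebraMap R K ((sysAt D b).a s : R) := by
    rw [← pow_two, ← Units.val_pow_eq_pow_val, h1]; rfl
  have h2 : algebraMap R K (r * r * ((sysAt D b).a s : R)) = 1 := by
    rw [map_mul, map_mul, ← h1', hr]
    field_simp
  have hu : IsUnit r := IsUnit.of_mul_eq_one _ ((_root_.mul_assoc r r _).symm.trans
    (IsFractionRing.injective R K (h2.trans (map_one (algebraMap R K)).symm)))
  obtain ⟨u, rfl⟩ := hu
  exact ⟨((u⁻¹ : Rˣ) : R), by rw [map_units_inv, hr, inv_inv]⟩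

/-- An integral point with generic value in `T ⋅ U` is a point of `T ⋅ U`. -/
theorem exists_borel (g : Over.mk b ⟶ G) (t : Over.mk bK ⟶ T) (x : K)
    (h : res (algebraMap R K) hb ≫ g = (sysAt D bK).I t * (sysAt D bK).p x) :
    ∃ (s : Over.mk b ⟶ T) (r : R), algebraMap R K r = x ∧ g = (sysAt D b).I s * (sysAt D b).p r := by
  haveI : IsAffineHom G.hom := D.hG.1
  obtain ⟨L, _, φ, V, ψ, z, w, hψ, hw, hV⟩ := exists_valuation_extension R K
  let bV : Spec (CommRingCat.of V) ⟶ S := Spec.map (CommRingCat.ofHom ψ) ≫ b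
  let bL : Spec (CommRingCat.of L) ⟶ S := Spec.map (CommRingCat.ofHom (algebraMap V L)) ≫ bV
  have hbL : Spec.map (CommRingCat.ofHom φ) ≫ bK = bL := by
    simp only [bL, bV, ← hb, ← Category.assoc, ← Spec.map_comp, ← CommRingCat.ofHom_comp]
    congr 3
    exact RingHom.ext fun r => (hψ r).symm
  let Φ := sysAt D bK
  let ΦL := sysAt D bL
  let gV : Over.mk bV ⟶ G := res ψ rfl ≫ g
  let zL : Lˣ := Units.map (algebraMap V L).toMonoidHom z
  have hgV : res (algebraMap V L) rfl ≫ gV = ΦL.I (res φ hbL ≫ t) * ΦL.p (φ x) := by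
    rw [← res_I D, ← res_p D, ← MonObj.comp_mul, ← h]
    · simp only [gV, ← Category.assoc]
      congr 1
      ext1
      show Spec.map _ ≫ Spec.map _ = Spec.map _ ≫ Spec.map _
      simp only [← Spec.map_comp, ← CommRingCat.ofHom_comp]
      congr 2
      exact RingHom.ext fun r => hψ r
    · exact hbL
  let cL : L := (ΦL.a (res φ hbL ≫ t) : L) * φ x
  have hcomm : res (algebraMap V L) rfl ≫
      (gV * (sysAt D bV).I ((sysAt D bV).av z) * gV⁻¹ * ((sysAt D bV).I ((sysAt D bV).av z))⁻¹) =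
        ΦL.p (cL * (1 - (zL : L) ^ 2)) := by
    simp only [MonObj.comp_mul, GrpObj.comp_inv, hgV, res_I D, res_av D]
    show ΦL.I _ * ΦL.p _ * ΦL.I (ΦL.av zL) * (ΦL.I _ * ΦL.p _)⁻¹ * (ΦL.I (ΦL.av zL))⁻¹ = _
    have hc := RankOne.torus_mul_comm D.hT _ (res φ hbL ≫ t) (ΦL.av zL)
    have hc' : (ΦL.I (res φ hbL ≫ t))⁻¹ * (ΦL.I (ΦL.av zL))⁻¹ =
        (ΦL.I (ΦL.av zL))⁻¹ * (ΦL.I (res φ hbL ≫ t))⁻¹ := by
      rw [← mul_inv_rev, ← mul_inv_rev, ← map_mul, ← map_mul, hc]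
    calc _ = ΦL.I (res φ hbL ≫ t) * ΦL.p (φ x) * (ΦL.I (ΦL.av zL) * ΦL.p (-φ x) *
          ((ΦL.I (res φ hbL ≫ t))⁻¹ * (ΦL.I (ΦL.av zL))⁻¹)) := by rw [ΦL.p_neg]; group
      _ = ΦL.I (res φ hbL ≫ t) * (ΦL.p (φ x) * ΦL.p ((ΦL.a (ΦL.av zL) : L) * -φ x)) *
          (ΦL.I (res φ hbL ≫ t))⁻¹ := by rw [hc', ← ΦL.conj_p]; group
      _ = _ := by
        rw [← ΦL.p_add, ΦL.conj_p, ΦL.a_av, Units.val_pow_eq_pow_val]
        congr 1
        simp only [cL]
        ring
  obtain ⟨v, hv⟩ := exists_coord D (R := V) (K := L) (b := bV) (bK := bL) rfl _ _ hcomm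
  have hc : φ ((Φ.a t : K) * x) ∈ V := by
    have e : φ ((Φ.a t : K) * x) = cL := by
      rw [map_mul]
      simp only [cL]
      rw [show ΦL.a (res φ hbL ≫ t) = _ from res_a D φ hbL t]
      rfl
    have e' : cL = algebraMap V L (v * ((w⁻¹ : Vˣ) : V)) := by
      have : (1 - (zL : L) ^ 2) = algebraMap V L w := by rw [hw, map_sub, map_one, map_pow]; rfl
      rw [map_mul, hv, this, _root_.mul_assoc, ← map_mul, Units.mul_inv, map_one, _root_.mul_one]
    rw [e, e']
    exact (v * ((w⁻¹ : Vˣ) : V)).2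
  obtain ⟨r₀, hr₀⟩ := hV _ hc
  have hg' : res (algebraMap R K) hb ≫ (((sysAt D b).p r₀)⁻¹ * g) = t ≫ i := by
    rw [MonObj.comp_mul, GrpObj.comp_inv, h, res_p D, hr₀]
    show (Φ.p _)⁻¹ * (Φ.I t * Φ.p x) = Φ.I t
    rw [Φ.I_mul_p, inv_mul_cancel_left]
  obtain ⟨s, -, hs'⟩ := exists_torus D _ hb (IsFractionRing.injective R K) _ _ hg'
  have ha : (Φ.a t : K) = algebraMap R K ((sysAt D b).a s : R) := by rw [← hs', res_a D]; rfl
  have hx : algebraMap R K ((((sysAt D b).a s)⁻¹ : Rˣ) * r₀) = x := by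
    rw [map_mul, hr₀, ha, ← _root_.mul_assoc, ← map_mul, Units.inv_mul, map_one, _root_.one_mul]
  refine ⟨s, _, hx, eq_of_res D _ hb (IsFractionRing.injective R K) ?_⟩
  rw [h, MonObj.comp_mul, res_I D, res_p D, hs', hx]

/-- An integral point with generic value in `T ⋅ U⁻` is a point of `T ⋅ U⁻`. -/
theorem exists_borel_neg (g : Over.mk b ⟶ G) (t : Over.mk bK ⟶ T) (x : K)
    (h : res (algebraMap R K) hb ≫ g = (sysAt D bK).I t * (sysAt D bK).m x) :
    ∃ (s : Over.mk b ⟶ T) (r : R), algebraMap R K r = x ∧ g = (sysAt D b).I s * (sysAt D b).m r := by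
  haveI : IsAffineHom G.hom := D.hG.1
  let Φ := sysAt D bK
  have hW : Φ.w 1 * Φ.I (t * (Φ.av (Φ.a t))⁻¹) * (Φ.w 1)⁻¹ = Φ.I t := by
    rw [Φ.w_conj, ← map_inv, ← map_mul, map_mul Φ.a, map_inv Φ.a, Φ.a_av, map_mul Φ.av, map_inv Φ.av, map_pow Φ.av]
    congr 1
    rw [RankOne.torus_mul_comm D.hT _ t]
    group
  have h' : res (algebraMap R K) hb ≫ (((sysAt D b).w 1)⁻¹ * g * (sysAt D b).w 1) =
      Φ.I (t * (Φ.av (Φ.a t))⁻¹) * Φ.p (-x) := by
    rw [MonObj.comp_mul, MonObj.comp_mul, GrpObj.comp_inv, h, res_w_one D]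
    show (Φ.w 1)⁻¹ * (Φ.I t * Φ.m x) * Φ.w 1 = _
    rw [← RankOne.Sys.w_conj_m (sysAt_braided D bK), ← hW]
    simp only [Φ]
    group
  obtain ⟨-, r, hr, -⟩ := exists_borel D hb _ _ _ h'
  have hr' : algebraMap R K (-r) = x := by rw [map_neg, hr, neg_neg]
  have hg : res (algebraMap R K) hb ≫ (g * ((sysAt D b).m (-r))⁻¹) = t ≫ i := by
    rw [MonObj.comp_mul, GrpObj.comp_inv, h, res_m D, hr', mul_inv_cancel_right]
    rfl
  obtain ⟨s, hs, -⟩ := exists_torus D _ hb (IsFractionRing.injective R K) _ _ hg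
  refine ⟨s, -r, hr', ?_⟩
  show g = (s ≫ i) * _
  rw [hs, inv_mul_cancel_right]

end Val

/-- The two root groups and the two groups `T ⋅ U` are closed. -/
theorem isClosedImmersion [Mono pp] [Mono pm] :
    IsClosedImmersion pp.left ∧ IsClosedImmersion pm.left ∧
      IsClosedImmersion ((i ⊗ₘ pp) ≫ μ[G]).left ∧ IsClosedImmersion ((i ⊗ₘ pm) ≫ μ[G]).left := by
  haveI : IsAffineHom G.hom := D.hG.1
  haveI : IsSeparated G.hom := inferInstance
  haveI hTa : IsAffineHom T.hom :=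
    MultConjLib.isAffineHom_of_locDS (MultConjLib.isLocDS_of_multTypeFT (RankOne.isMultTypeFT_of_isTorus D.hT))
  haveI : LocallyOfFiniteType T.hom := by
    haveI := D.hi; haveI : Smooth G.hom := D.hG.2.1
    haveI : IsClosedImmersion i.left :=
      MultConjLib.isClosedImmersion_of_mono (MultConjLib.isLocDS_of_multTypeFT (RankOne.isMultTypeFT_of_isTorus D.hT)) i
    rw [← Over.w i]
    infer_instance
  haveI : IsAffineHom (Red.Ga S).hom := by
    haveI hZ : IsAffineHom Red.GaZ.{u}.hom := by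
      show IsAffineHom (Spec.map _)
      infer_instance
    exact MorphismProperty.pullback_snd _ _ hZ
  haveI : LocallyOfFiniteType (Red.Ga S).hom := by
    haveI := RankOne.smooth_ga S
    infer_instance
  haveI : IsAffineHom (T ⊗ Red.Ga S).hom := by
    haveI : IsAffineHom (pullback.fst T.hom (Red.Ga S).hom) := MorphismProperty.pullback_fst _ _ inferInstance
    exact MorphismProperty.comp_mem _ (pullback.fst T.hom (Red.Ga S).hom) T.hom inferInstance inferInstance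
  haveI : LocallyOfFiniteType (T ⊗ Red.Ga S).hom := by
    show LocallyOfFiniteType (pullback.fst _ _ ≫ _)
    infer_instance
  have hev : ∀ {q : Red.Ga S ⟶ G} {X : Over S} (l : X ⟶ T ⊗ Red.Ga S),
      l ≫ (i ⊗ₘ q) ≫ μ[G] = (l ≫ fst _ _ ≫ i) * (l ≫ snd _ _ ≫ q) := fun {q X} l => by
    rw [MonObj.mul_eq_mul, MonObj.comp_mul, MonObj.comp_mul]
    simp
  haveI : Mono ((i ⊗ₘ pp) ≫ μ[G]) := by
    haveI := D.hi
    refine ⟨fun {X} l l' e => ?_⟩
    rw [hev, hev] at e
    haveI := D.hΩ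
    obtain ⟨-, e1, e2⟩ := RankOne.cell_ext D.hΩ (a := (1 : X ⟶ Red.Ga S)) (t := l ≫ fst _ _) (d := l ≫ snd _ _)
      (a' := 1) (t' := l' ≫ fst _ _) (d' := l' ≫ snd _ _)
      (by simp only [MonObj.one_comp, _root_.one_mul, Category.assoc]; exact e)
    exact CartesianMonoidalCategory.hom_ext _ _ e1 e2
  haveI : Mono ((i ⊗ₘ pm) ≫ μ[G]) := by
    haveI := D.hi
    refine ⟨fun {X} l l' e => ?_⟩
    rw [hev, hev] at e
    obtain ⟨yl, hy, hy'⟩ := D.hpm X (l ≫ fst _ _) (l ≫ snd _ _)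
    obtain ⟨yl', hy2, hy2'⟩ := D.hpm X (l' ≫ fst _ _) (l' ≫ snd _ _)
    simp only [Category.assoc] at hy hy2
    obtain ⟨e0, e1, -⟩ := RankOne.cell_ext D.hΩ (a := yl) (t := l ≫ fst _ _) (d := (1 : X ⟶ Red.Ga S))
      (a' := yl') (t' := l' ≫ fst _ _) (d' := 1)
      (by simp only [MonObj.one_comp, _root_.mul_one, Category.assoc, hy, hy2, inv_mul_cancel_right]; exact e)
    refine CartesianMonoidalCategory.hom_ext _ _ e1 (GaPts.gaFn_injective ?_)
    rw [e0, e1] at hy'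
    exact hy'.symm.trans hy2'
  have bor : IsClosedImmersion ((i ⊗ₘ pp) ≫ μ[G]).left := by
    refine isClosedImmersion_of_pts _ fun R K _ _ _ _ _ _ b bK hb g x hx => ?_
    rw [hev] at hx
    obtain ⟨s, r, -, hg⟩ := exists_borel D hb g (x ≫ fst _ _) (val bK (x ≫ snd _ _)) (by
      rw [← hx]
      show _ = ((x ≫ fst _ _) ≫ i) * (pt bK _ ≫ pp)
      rw [RankOneComm.pt_val, Category.assoc, Category.assoc])
    refine ⟨lift s (pt b r), ?_⟩
    rw [hev, hg, lift_fst_assoc, lift_snd_assoc]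
    rfl
  have bor' : IsClosedImmersion ((i ⊗ₘ pm) ≫ μ[G]).left := by
    refine isClosedImmersion_of_pts _ fun R K _ _ _ _ _ _ b bK hb g x hx => ?_
    rw [hev] at hx
    obtain ⟨s, r, -, hg⟩ := exists_borel_neg D hb g (x ≫ fst _ _) (val bK (x ≫ snd _ _)) (by
      rw [← hx]
      show _ = ((x ≫ fst _ _) ≫ i) * (pt bK _ ≫ pm)
      rw [RankOneComm.pt_val, Category.assoc, Category.assoc])
    refine ⟨lift s (pt b r), ?_⟩
    rw [hev, hg, lift_fst_assoc, lift_snd_assoc]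
    rfl
  refine ⟨?_, ?_, bor, bor'⟩
  · refine isClosedImmersion_of_pts _ fun R K _ _ _ _ _ _ b bK hb g x hx => ?_
    rw [← RankOneComm.pt_val bK x] at hx
    obtain ⟨r, hr⟩ := exists_coord D hb g (val bK x) hx.symm
    refine ⟨pt b r, ?_⟩
    refine eq_of_res D _ hb (IsFractionRing.injective R K) ?_
    rw [← hx, ← Category.assoc, res_pt, hr]
  · refine isClosedImmersion_of_pts _ fun R K _ _ _ _ _ _ b bK hb g x hx => ?_
    rw [← RankOneComm.pt_val bK x] at hx
    obtain ⟨-, r, hr, -⟩ := exists_borel_neg D hb g 1 (val bK x) (by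
      rw [← hx, map_one, _root_.one_mul]; rfl)
    refine ⟨pt b r, ?_⟩
    refine eq_of_res D _ hb (IsFractionRing.injective R K) ?_
    rw [← hx, ← Category.assoc, res_pt, hr]

end Groth.Agent.GrpSchLib.RankOneClosed
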