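import Groth.Agent.GrpSchLib.RankOneCommBase
import Mathlib.AlgebraicGeometry.ValuativeCriterion
import Mathlib.AlgebraicGeometry.ZariskisMainTheorem

/-! Valuative tools for closedness of monomorphisms of `S`-schemes. -/

set_option autoImplicit false
set_option backward.isDefEq.respectTransparency false
set_option linter.style.haveILetI false

universe u

open CategoryTheory CategoryTheory.Limits AlgebraicGeometry MonoidalCategory CartesianMonoidalCategory
open scoped MonObj

noncomputable section

namespace Groth.Agent.GrpSchLib.RankOneClosed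

open RankOneComm (res)

variable {S : Scheme.{u}}

/-- A monomorphism whose image contains every integral point with generic value in it is a closed
immersion. -/
theorem isClosedImmersion_of_pts {X G : Over S} (f : X ⟶ G) [Mono f] [QuasiCompact X.hom]
    [IsSeparated X.hom] [LocallyOfFiniteType X.hom] [IsSeparated G.hom]
    (h : ∀ (R K : Type u) [CommRing R] [IsDomain R] [ValuationRing R] [Field K] [Algebra R K]
      [IsFractionRing R K] (b : Spec (CommRingCat.of R) ⟶ S) (bK : Spec (CommRingCat.of K) ⟶ S)
      (hb : Spec.map (CommRingCat.ofHom (algebraMap R K)) ≫ b = bK) (g : Over.mk b ⟶ G) (x : Over.mk bK ⟶ X),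
      x ≫ f = res (algebraMap R K) hb ≫ g → ∃ x' : Over.mk b ⟶ X, x' ≫ f = g) :
    IsClosedImmersion f.left := by
  have hw : f.left ≫ G.hom = X.hom := Over.w f
  haveI : QuasiCompact (f.left ≫ G.hom) := by rw [hw]; infer_instance
  haveI : LocallyOfFiniteType (f.left ≫ G.hom) := by rw [hw]; infer_instance
  haveI : IsSeparated (f.left ≫ G.hom) := by rw [hw]; infer_instance
  haveI : QuasiCompact f.left := QuasiCompact.of_comp f.left G.hom
  haveI : LocallyOfFiniteType f.left := locallyOfFiniteType_of_comp f.left G.hom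
  haveI : IsSeparated f.left := IsSeparated.of_comp f.left G.hom
  haveI : Mono f.left := inferInstance
  have hE : ValuativeCriterion.Existence f.left := by
    intro Q
    let b := Q.i₂ ≫ G.hom
    let bK := Spec.map (CommRingCat.ofHom (algebraMap Q.R Q.K)) ≫ b
    let g : Over.mk b ⟶ G := Over.homMk Q.i₂ rfl
    have hx : Q.i₁ ≫ X.hom = bK := by
      rw [← hw, ← Category.assoc, Q.commSq.w, Category.assoc]
    let x : Over.mk bK ⟶ X := Over.homMk Q.i₁ hx
    obtain ⟨x', hx'⟩ := h Q.R Q.K b bK rfl g x (by ext1; exact Q.commSq.w)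
    have h2 : x'.left ≫ f.left = Q.i₂ := congrArg CommaMorphism.left hx'
    refine ⟨⟨⟨x'.left, ?_, h2⟩⟩⟩
    rw [← cancel_mono f.left, Category.assoc, h2]
    exact Q.commSq.w.symm
  haveI : UniversallyClosed f.left := UniversallyClosed.of_valuativeCriterion _ hE
  exact (IsClosedImmersion.iff_isProper_and_mono f.left).mpr ⟨⟨⟩, inferInstance⟩

open Polynomial in
/-- A valuation ring extends to one containing a unit `z` with `1 - z ^ 2` invertible, with the same
trace on the fraction field. -/
theorem exists_valuation_extension (R K : Type u) [CommRing R] [IsDomain R] [ValuationRing R] [Field K]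
    [Algebra R K] [IsFractionRing R K] :
    ∃ (L : Type u) (_ : Field L) (φ : K →+* L) (V : ValuationSubring L) (ψ : R →+* V) (z w : Vˣ),
      (∀ r, (ψ r : L) = φ (algebraMap R K r)) ∧ (w : V) = 1 - (z : V) ^ 2 ∧
        ∀ x : K, φ x ∈ V → ∃ r, algebraMap R K r = x := by
  let L := FractionRing K[X]
  let Ψ : R[X] →+* L := (algebraMap K[X] L).comp (Polynomial.mapRingHom (algebraMap R K))
  have hΨ : Function.Injective Ψ := (IsFractionRing.injective K[X] L).comp
    (Polynomial.map_injective _ (IsFractionRing.injective R K))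
  let P : Ideal R[X] := RingHom.ker (Polynomial.mapRingHom (IsLocalRing.residue R))
  haveI : P.IsPrime := RingHom.ker_isPrime _
  let A := Localization.AtPrime P
  have hu : ∀ s : P.primeCompl, IsUnit (Ψ s) := fun s => IsUnit.mk0 _ fun h0 =>
    s.2 (by rw [hΨ (h0.trans (map_zero Ψ).symm)]; exact zero_mem _)
  let F : A →+* L := IsLocalization.lift hu
  haveI : IsLocalRing A := inferInstance
  obtain ⟨V, hV⟩ := (LocalSubring.range F).exists_le_valuationSubring
  obtain ⟨hle, hloc⟩ := hV
  haveI := hloc
  let j : R[X] →+* V := ((Subring.inclusion hle).comp F.rangeRestrict).comp (algebraMap R[X] A)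
  have hj : ∀ q, (j q : L) = Ψ q := fun q => IsLocalization.lift_eq hu q
  have hunit : ∀ q, q ∉ P → IsUnit (j q) := fun q hq =>
    ((IsLocalization.map_units A (⟨q, hq⟩ : P.primeCompl)).map F.rangeRestrict).map (Subring.inclusion hle)
  have hX : (Polynomial.X : R[X]) ∉ P := by simp [P, RingHom.mem_ker]
  have hX2 : (1 - Polynomial.X ^ 2 : R[X]) ∉ P := by
    simp only [P, RingHom.mem_ker, Polynomial.coe_mapRingHom, Polynomial.map_sub, Polynomial.map_one,
      Polynomial.map_pow, Polynomial.map_X]
    intro h
    simpa using congrArg (Polynomial.eval 0) h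
  refine ⟨L, inferInstance, (algebraMap K[X] L).comp Polynomial.C, V, j.comp Polynomial.C, (hunit _ hX).unit,
    (hunit _ hX2).unit, fun r => ?_, ?_, fun x hx => ?_⟩
  · rw [RingHom.comp_apply, hj]
    simp [Ψ]
  · rw [IsUnit.unit_spec, IsUnit.unit_spec, map_sub, map_one, map_pow]
  · rcases ValuationRing.isInteger_or_isInteger R x with ⟨r, hr⟩ | ⟨r, hr⟩
    · exact ⟨r, hr⟩
    by_cases hx0 : x = 0
    · exact ⟨0, by rw [map_zero, hx0]⟩
    by_cases hr' : IsUnit r
    · obtain ⟨v, rfl⟩ := hr'
      refine ⟨(↑v⁻¹ : R), ?_⟩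
      rw [map_units_inv, hr, inv_inv]
    exfalso
    have h1 : j (Polynomial.C r) * ⟨_, hx⟩ = 1 := Subtype.ext (by
      show (j (Polynomial.C r) : L) * _ = 1
      rw [hj]
      simp only [Ψ, RingHom.comp_apply, Polynomial.coe_mapRingHom, Polynomial.map_C]
      rw [hr, ← map_mul, ← map_mul, inv_mul_cancel₀ hx0, map_one, map_one])
    have h2 : IsUnit (F.rangeRestrict (algebraMap R[X] A (Polynomial.C r))) :=
      IsUnit.of_map (Subring.inclusion hle) _ (IsUnit.of_mul_eq_one _ h1)
    have hFi : Function.Injective F := IsLocalization.lift_injective_iff hu |>.mpr fun a b =>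
      ⟨fun h => congrArg Ψ ((IsLocalization.injective A P.primeCompl_le_nonZeroDivisors) h),
        fun h => congrArg _ (hΨ h)⟩
    have h3 : IsUnit (algebraMap R[X] A (Polynomial.C r)) := by
      obtain ⟨v, hv⟩ := h2.exists_right_inv
      obtain ⟨v', rfl⟩ := F.rangeRestrict_surjective v
      refine IsUnit.of_mul_eq_one v' (hFi ?_)
      rw [map_mul, map_one]
      exact congrArg Subtype.val hv
    have h4 := (IsLocalization.AtPrime.isUnit_to_map_iff A P (Polynomial.C r)).mp h3
    apply h4
    show Polynomial.C r ∈ P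
    simp only [P, RingHom.mem_ker, Polynomial.coe_mapRingHom, Polynomial.map_C, Polynomial.C_eq_zero]
    exact (IsLocalRing.residue_eq_zero_iff r).mpr hr'

end Groth.Agent.GrpSchLib.RankOneClosed
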