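import Groth.Agent.GrpSchLib.RankOneScale
import Mathlib.Algebra.Polynomial.Laurent
import Mathlib.RingTheory.Jacobson.Ring

/-! Coordinates of the products `p₊(x) p₋(y)` in the big cell of two opposite root groups. -/

set_option autoImplicit false
set_option linter.style.haveILetI false
set_option backward.isDefEq.respectTransparency false

universe u

open CategoryTheory CategoryTheory.Limits AlgebraicGeometry MonoidalCategory CartesianMonoidalCategory
open scoped MonObj Polynomial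

noncomputable section

namespace Groth.Agent.GrpSchLib.RankOneComm

open RankOne (sval specHom sval_specHom specHom_ptOfFn cellMap)

variable {S : Scheme.{u}} {G T : Over S} [GrpObj G] [GrpObj T]

/-- Global functions on an affine test object. -/
def sv {A : Type u} [CommRing A] (b : Spec (CommRingCat.of A) ⟶ S) : Γ((Over.mk b).left, ⊤) ≃+* A :=
  sval (A := CommRingCat.of A) b

/-- The morphism of test objects of a ring map. -/
def res {A B : Type u} [CommRing A] [CommRing B] {b : Spec (CommRingCat.of A) ⟶ S}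
    {b' : Spec (CommRingCat.of B) ⟶ S} (φ : A →+* B) (hb : Spec.map (CommRingCat.ofHom φ) ≫ b = b') :
    Over.mk b' ⟶ Over.mk b :=
  specHom (A := CommRingCat.of A) (B := CommRingCat.of B) φ hb

/-- The point of the additive group with coordinate `x`. -/
def pt {A : Type u} [CommRing A] (b : Spec (CommRingCat.of A) ⟶ S) (x : A) : Over.mk b ⟶ Red.Ga S :=
  GaPts.ptOfFn ((sv b).symm x)

/-- The value of a point of the additive group. -/
def val {A : Type u} [CommRing A] (b : Spec (CommRingCat.of A) ⟶ S) (x : Over.mk b ⟶ Red.Ga S) : A :=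
  sv b (Red.gaFn x)

/-- The point of the multiplicative group with coordinate `u`. -/
def gpt {A : Type u} [CommRing A] (b : Spec (CommRingCat.of A) ⟶ S) (u : Aˣ) : Over.mk b ⟶ Red.Gm S :=
  GmPts.ptOfUnit (Units.map ((sv b).symm : A →* Γ((Over.mk b).left, ⊤)) u)

/-- The value of a point of the multiplicative group. -/
def gval {A : Type u} [CommRing A] (b : Spec (CommRingCat.of A) ⟶ S) (z : Over.mk b ⟶ Red.Gm S) : Aˣ :=
  Units.map ((sv b) : Γ((Over.mk b).left, ⊤) →* A) (GmPts.unitOfPt z)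

section Pts

variable {A B : Type u} [CommRing A] [CommRing B] (b : Spec (CommRingCat.of A) ⟶ S)
  {b' : Spec (CommRingCat.of B) ⟶ S} (φ : A →+* B) (hb : Spec.map (CommRingCat.ofHom φ) ≫ b = b')

theorem sv_res (g : Γ((Over.mk b).left, ⊤)) : sv b' ((res φ hb).left.appTop g) = φ (sv b g) :=
  sval_specHom (A := CommRingCat.of A) (B := CommRingCat.of B) φ hb g

theorem val_pt (x : A) : val b (pt b x) = x := by rw [val, pt, GaPts.gaFn_ptOfFn, RingEquiv.apply_symm_apply]

theorem pt_val (x : Over.mk b ⟶ Red.Ga S) : pt b (val b x) = x :=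
  GaPts.gaFn_injective (by simp only [val, pt, GaPts.gaFn_ptOfFn, RingEquiv.symm_apply_apply])

theorem val_injective : Function.Injective (val b) := fun x y h => by rw [← pt_val b x, h, pt_val]

theorem val_mul (x y : Over.mk b ⟶ Red.Ga S) : val b (x * y) = val b x + val b y := by
  simp only [val, GaPts.gaFn_mul, map_add]

theorem pt_add (x y : A) : pt b (x + y) = pt b x * pt b y :=
  val_injective b (by rw [val_mul, val_pt, val_pt, val_pt])

theorem pt_zero : pt b (0 : A) = (1 : Over.mk b ⟶ Red.Ga S) :=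
  val_injective b (by rw [val_pt, val, GaPts.gaFn_one, map_zero])

theorem pt_injective {x y : A} (h : pt b x = pt b y) : x = y := by
  simpa only [val_pt] using congrArg (val b) h

theorem val_res (x : Over.mk b ⟶ Red.Ga S) : val b' (res φ hb ≫ x) = φ (val b x) := by
  rw [val, GaPts.gaFn_comp, sv_res]
  rfl

theorem res_pt (x : A) : res φ hb ≫ pt b x = pt b' (φ x) :=
  val_injective b' (by rw [val_res, val_pt, val_pt])

theorem val_gval (z : Over.mk b ⟶ Red.Gm S) : (gval b z : A) = sv b (Red.gmFn z) := by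
  rw [← GmPts.val_unitOfPt]
  rfl

theorem gval_gpt (u : Aˣ) : gval b (gpt b u) = u :=
  Units.ext (by
    rw [val_gval, gpt, GmPts.gmFn_ptOfUnit]
    exact (sv b).apply_symm_apply u)

theorem gval_injective : Function.Injective (gval b) := fun _ _ h =>
  GmPts.gmFn_injective ((sv b).injective (by
    simpa only [val_gval] using congrArg Units.val h))

theorem gval_mul (z z' : Over.mk b ⟶ Red.Gm S) : gval b (z * z') = gval b z * gval b z' := by
  rw [gval, GmPts.unitOfPt_mul, map_mul]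
  rfl

theorem gval_res (z : Over.mk b ⟶ Red.Gm S) :
    gval b' (res φ hb ≫ z) = Units.map φ.toMonoidHom (gval b z) :=
  Units.ext (by
    rw [Units.coe_map, val_gval, GmPts.gmFn_comp, sv_res, ← val_gval]
    rfl)

end Pts

/-- The hypotheses on two opposite root groups. -/
structure Hyp (i : T ⟶ G) (α : T ⟶ Red.Gm S) (pp pm : Red.Ga S ⟶ G) : Prop where
  hT : Red.IsTorus T
  hi : IsMonHom i
  hα' : IsMonHom α
  hp : IsMonHom pp
  hm : IsMonHom pm
  hα : ∀ s : S, (Over.pullback (Red.geomPt s)).map α ≠ 1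
  hpp : ∀ (X : Over S) (t : X ⟶ T) (x : X ⟶ Red.Ga S), ∃ x' : X ⟶ Red.Ga S,
    x' ≫ pp = (t ≫ i) * (x ≫ pp) * (t ≫ i)⁻¹ ∧ Red.gaFn x' = Red.gmFn (t ≫ α) * Red.gaFn x
  hpm : ∀ (X : Over S) (t : X ⟶ T) (y : X ⟶ Red.Ga S), ∃ y' : X ⟶ Red.Ga S,
    y' ≫ pm = (t ≫ i) * (y ≫ pm) * (t ≫ i)⁻¹ ∧ Red.gaFn y' * Red.gmFn (t ≫ α) = Red.gaFn y
  hΩ : IsOpenImmersion (cellMap i pp pm).left

variable (i : T ⟶ G) (α : T ⟶ Red.Gm S) (pp pm : Red.Ga S ⟶ G)

/-- `(a, t, c)` are the coordinates of `p₊(x) p₋(y)`. -/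
def Rel {A : Type u} [CommRing A] (b : Spec (CommRingCat.of A) ⟶ S) (x y a : A) (t : Over.mk b ⟶ T) (c : A) : Prop :=
  (pt b x ≫ pp) * (pt b y ≫ pm) = (pt b a ≫ pm) * (t ≫ i) * (pt b c ≫ pp)

/-- `p₊(x) p₋(y)` lies in the big cell. -/
def Good {A : Type u} [CommRing A] (b : Spec (CommRingCat.of A) ⟶ S) (x y : A) : Prop :=
  ∃ (a : A) (t : Over.mk b ⟶ T) (c : A), Rel i pp pm b x y a t c

variable {i α pp pm} (H : Hyp i α pp pm)
include H

section Algebra

variable {A B : Type u} [CommRing A] [CommRing B] {b : Spec (CommRingCat.of A) ⟶ S}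
  {b' : Spec (CommRingCat.of B) ⟶ S}

/-- The character on a torus point. -/
def chr (α : T ⟶ Red.Gm S) (b : Spec (CommRingCat.of A) ⟶ S) (t : Over.mk b ⟶ T) : Aˣ := gval b (t ≫ α)

omit H in
theorem chr_res (t : Over.mk b ⟶ T) (φ : A →+* B) (hb : Spec.map (CommRingCat.ofHom φ) ≫ b = b') :
    chr α b' (res φ hb ≫ t) = Units.map φ.toMonoidHom (chr α b t) := by
  rw [chr, Category.assoc, gval_res]
  rfl

theorem chr_mul (s t : Over.mk b ⟶ T) : chr α b (s * t) = chr α b s * chr α b t := by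
  haveI := H.hα'
  exact (congrArg (gval b) (MonObj.mul_comp s t α)).trans (gval_mul _ _ _)

theorem conj_p (t : Over.mk b ⟶ T) (x : A) :
    (t ≫ i) * (pt b x ≫ pp) = (pt b ((chr α b t : A) * x) ≫ pp) * (t ≫ i) := by
  obtain ⟨x', h1, h2⟩ := H.hpp _ t (pt b x)
  have : x' = pt b ((chr α b t : A) * x) := by
    rw [← pt_val b x']
    congr 1
    rw [val, h2, map_mul, ← val_gval]
    congr 1
    exact val_pt b x
  rw [← this, h1, inv_mul_cancel_right]

theorem conj_m (t : Over.mk b ⟶ T) (y : A) :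
    (t ≫ i) * (pt b y ≫ pm) = (pt b (((chr α b t)⁻¹ : Aˣ) * y) ≫ pm) * (t ≫ i) := by
  obtain ⟨y', h1, h2⟩ := H.hpm _ t (pt b y)
  have h3 : val b y' * (chr α b t : A) = y := by
    have := congrArg (sv b) h2
    rw [map_mul, ← val_gval] at this
    exact this.trans (val_pt b y)
  have : y' = pt b (((chr α b t)⁻¹ : Aˣ) * y) := by
    rw [← pt_val b y']
    congr 1
    conv_rhs => rw [← h3, _root_.mul_comm (val b y'), Units.inv_mul_cancel_left]
  rw [← this, h1, inv_mul_cancel_right]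

theorem p_mul (t : Over.mk b ⟶ T) (x : A) :
    (pt b x ≫ pp) * (t ≫ i) = (t ≫ i) * (pt b (((chr α b t)⁻¹ : Aˣ) * x) ≫ pp) := by
  rw [conj_p H, Units.mul_inv_cancel_left]

theorem m_mul (t : Over.mk b ⟶ T) (y : A) :
    (pt b y ≫ pm) * (t ≫ i) = (t ≫ i) * (pt b ((chr α b t : A) * y) ≫ pm) := by
  rw [conj_m H, Units.inv_mul_cancel_left]

theorem p_add (x x' : A) : pt b (x + x') ≫ pp = (pt b x ≫ pp) * (pt b x' ≫ pp) := by
  haveI := H.hp
  rw [pt_add, MonObj.mul_comp]

theorem m_add (x x' : A) : pt b (x + x') ≫ pm = (pt b x ≫ pm) * (pt b x' ≫ pm) := by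
  haveI := H.hm
  rw [pt_add, MonObj.mul_comp]

theorem p_zero : pt b (0 : A) ≫ pp = 1 := by
  haveI := H.hp
  rw [pt_zero, MonObj.one_comp]

theorem m_zero : pt b (0 : A) ≫ pm = 1 := by
  haveI := H.hm
  rw [pt_zero, MonObj.one_comp]

theorem p_neg (x : A) : pt b (-x) ≫ pp = (pt b x ≫ pp)⁻¹ := by
  rw [eq_inv_iff_mul_eq_one, ← p_add H, neg_add_cancel, p_zero H]

theorem m_neg (x : A) : pt b (-x) ≫ pm = (pt b x ≫ pm)⁻¹ := by
  rw [eq_inv_iff_mul_eq_one, ← m_add H, neg_add_cancel, m_zero H]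

theorem i_mul (s t : Over.mk b ⟶ T) : (s * t) ≫ i = (s ≫ i) * (t ≫ i) := by
  haveI := H.hi
  exact MonObj.mul_comp s t i

theorem i_one : (1 : Over.mk b ⟶ T) ≫ i = 1 := by
  haveI := H.hi
  exact MonObj.one_comp i

theorem chr_one : chr α b (1 : Over.mk b ⟶ T) = 1 := by
  have h := chr_mul H (1 : Over.mk b ⟶ T) 1
  rw [_root_.one_mul] at h
  exact (mul_eq_left (a := chr α b (1 : Over.mk b ⟶ T))).mp h.symm

theorem rel_unique {x y a a' c c' : A} {t t' : Over.mk b ⟶ T} (h : Rel i pp pm b x y a t c)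
    (h' : Rel i pp pm b x y a' t' c') : a = a' ∧ t = t' ∧ c = c' := by
  obtain ⟨h1, h2, h3⟩ := RankOne.cell_ext H.hΩ (h.symm.trans h')
  exact ⟨pt_injective b h1, h2, pt_injective b h3⟩

theorem rel_res {x y a c : A} {t : Over.mk b ⟶ T} (h : Rel i pp pm b x y a t c) (φ : A →+* B)
    (hb : Spec.map (CommRingCat.ofHom φ) ≫ b = b') :
    Rel i pp pm b' (φ x) (φ y) (φ a) (res φ hb ≫ t) (φ c) := by
  have := congrArg (res φ hb ≫ ·) h
  simp only [MonObj.comp_mul] at this
  simp only [← Category.assoc, res_pt] at this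
  exact this

theorem rel_zero_left (y : A) : Rel i pp pm b 0 y y 1 0 := by
  rw [Rel, p_zero H, i_one H, _root_.one_mul, _root_.mul_one, _root_.mul_one]

theorem rel_zero_right (x : A) : Rel i pp pm b x 0 0 1 x := by
  rw [Rel, m_zero H, i_one H, _root_.one_mul, _root_.mul_one, _root_.one_mul]

theorem rel_left {x y a c x' a' c' : A} {t t' : Over.mk b ⟶ T} (h : Rel i pp pm b x y a t c)
    (h' : Rel i pp pm b x' a a' t' c') :
    Rel i pp pm b (x' + x) y a' (t' * t) (((chr α b t)⁻¹ : Aˣ) * c' + c) := by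
  unfold Rel at h h' ⊢
  rw [p_add H, p_add H, i_mul H]
  calc (pt b x' ≫ pp) * (pt b x ≫ pp) * (pt b y ≫ pm)
      = ((pt b x' ≫ pp) * (pt b a ≫ pm)) * (t ≫ i) * (pt b c ≫ pp) := by rw [_root_.mul_assoc _ (pt b x ≫ pp), h]; group
    _ = (pt b a' ≫ pm) * (t' ≫ i) * ((pt b c' ≫ pp) * (t ≫ i)) * (pt b c ≫ pp) := by rw [h']; group
    _ = _ := by rw [p_mul H]; group

theorem rel_right {x y a c y' a' c' : A} {t t' : Over.mk b ⟶ T} (h : Rel i pp pm b x y a t c)
    (h' : Rel i pp pm b c y' a' t' c') :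
    Rel i pp pm b x (y + y') (a + ((chr α b t)⁻¹ : Aˣ) * a') (t * t') c' := by
  unfold Rel at h h' ⊢
  rw [m_add H, m_add H, i_mul H]
  calc (pt b x ≫ pp) * ((pt b y ≫ pm) * (pt b y' ≫ pm))
      = (pt b a ≫ pm) * (t ≫ i) * ((pt b c ≫ pp) * (pt b y' ≫ pm)) := by rw [← _root_.mul_assoc, h]; group
    _ = (pt b a ≫ pm) * ((t ≫ i) * (pt b a' ≫ pm)) * (t' ≫ i) * (pt b c' ≫ pp) := by rw [h']; group
    _ = _ := by rw [conj_m H]; group

theorem good_of_left {x y a c x' : A} {t : Over.mk b ⟶ T} (h : Rel i pp pm b x y a t c)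
    (h' : Good i pp pm b (x' + x) y) : Good i pp pm b x' a := by
  obtain ⟨a'', t'', c'', h''⟩ := h'
  refine ⟨a'', t'' * t⁻¹, (chr α b t : A) * (c'' + -c), ?_⟩
  haveI := H.hi
  unfold Rel at h h'' ⊢
  rw [p_add H] at h''
  rw [i_mul H, GrpObj.inv_comp]
  calc (pt b x' ≫ pp) * (pt b a ≫ pm)
      = (pt b x' ≫ pp) * ((pt b x ≫ pp) * (pt b y ≫ pm)) * (pt b c ≫ pp)⁻¹ * (t ≫ i)⁻¹ := by rw [h]; group
    _ = (pt b a'' ≫ pm) * (t'' ≫ i) * ((pt b c'' ≫ pp) * (pt b c ≫ pp)⁻¹) * (t ≫ i)⁻¹ := by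
        rw [← _root_.mul_assoc (pt b x' ≫ pp), h'']; group
    _ = _ := by
        rw [← p_neg H, ← p_add H]
        simp only [_root_.mul_assoc]
        congr 2
        rw [eq_inv_mul_iff_mul_eq, ← _root_.mul_assoc, conj_p H, mul_inv_cancel_right]

theorem rel_inv {x y a c : A} {t : Over.mk b ⟶ T} (h : Rel i pp pm b x y a t c) :
    Rel i pp pm b (-c) (-((chr α b t : A) * a)) (-y) t (-(((chr α b t)⁻¹ : Aˣ) * x)) := by
  haveI := H.hi
  unfold Rel at h ⊢
  have e : (t ≫ i)⁻¹ * (pt b (-a) ≫ pm) = (pt b (-((chr α b t : A) * a)) ≫ pm) * (t ≫ i)⁻¹ := by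
    rw [eq_mul_inv_iff_mul_eq, _root_.mul_assoc, inv_mul_eq_iff_eq_mul, m_mul H, mul_neg]
  have h' := congrArg (·⁻¹) h
  simp only [mul_inv_rev, ← p_neg H, ← m_neg H] at h'
  rw [e, ← _root_.mul_assoc, eq_mul_inv_iff_mul_eq, _root_.mul_assoc] at h'
  rw [← h', p_mul H, mul_neg, ← _root_.mul_assoc]

theorem rel_conj {x y a c : A} {t : Over.mk b ⟶ T} (h : Rel i pp pm b x y a t c) (s : Over.mk b ⟶ T) :
    Rel i pp pm b ((chr α b s : A) * x) (((chr α b s)⁻¹ : Aˣ) * y) (((chr α b s)⁻¹ : Aˣ) * a) t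
      ((chr α b s : A) * c) := by
  unfold Rel at h ⊢
  have hc : (s ≫ i) * (t ≫ i) = (t ≫ i) * (s ≫ i) := by
    rw [← i_mul H, ← i_mul H, RankOne.torus_mul_comm H.hT]
  refine mul_right_cancel (b := s ≫ i) ?_
  calc _ = (s ≫ i) * ((pt b x ≫ pp) * (pt b y ≫ pm)) := by
        rw [← _root_.mul_assoc (s ≫ i), conj_p H, _root_.mul_assoc, _root_.mul_assoc, conj_m H]
    _ = (s ≫ i) * (pt b a ≫ pm) * (t ≫ i) * (pt b c ≫ pp) := by rw [h]; group
    _ = (pt b (((chr α b s)⁻¹ : Aˣ) * a) ≫ pm) * ((s ≫ i) * (t ≫ i)) * (pt b c ≫ pp) := by rw [conj_m H]; group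
    _ = _ := by rw [hc, _root_.mul_assoc, _root_.mul_assoc (t ≫ i), conj_p H]; group

end Algebra

section Open

variable {A : Type u} [CommRing A] {b : Spec (CommRingCat.of A) ⟶ S}

omit H in
theorem coords_cell {X : Over S} (l : X ⟶ (Red.Ga S ⊗ T) ⊗ Red.Ga S) :
    l ≫ cellMap i pp pm = ((l ≫ fst _ _ ≫ fst _ _) ≫ pm) * ((l ≫ fst _ _ ≫ snd _ _) ≫ i) *
      ((l ≫ snd _ _) ≫ pp) := by
  rw [← RankOne.cell_comp]
  congr 1
  ext <;> simp

/-- Membership in the cell is tested at geometric points. -/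
theorem good_of_field (x y : A)
    (h : ∀ (K : Type u) [Field K] [IsAlgClosed K] (φ : A →+* K),
      Good i pp pm (Spec.map (CommRingCat.ofHom φ) ≫ b) (φ x) (φ y)) : Good i pp pm b x y := by
  obtain ⟨a, t, c, e⟩ := RankOne.exists_coords H.hΩ ((pt b x ≫ pp) * (pt b y ≫ pm)) fun K hK b' j hroot => by
    letI := hK.toField
    haveI : IsAlgClosed K := IsAlgClosed.of_exists_root _ fun p _ hp =>
      hroot p (Nat.pos_iff_ne_zero.mp hp.natDegree_pos)
    let φ : A →+* K := (Spec.preimage j.left).hom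
    have hj : Spec.map (CommRingCat.ofHom φ) = j.left := by rw [CommRingCat.ofHom_hom, Spec.map_preimage]
    have hb : Spec.map (CommRingCat.ofHom φ) ≫ b = b' := by rw [hj]; exact Over.w j
    obtain ⟨a, t, c, e⟩ : Good i pp pm (A := K) b' (φ x) (φ y) := hb ▸ h K φ
    have hjj : j = res φ hb := Over.OverMorphism.ext hj.symm
    refine ⟨pt (A := K) b' a, t, pt (A := K) b' c, ?_⟩
    rw [hjj, MonObj.comp_mul, ← Category.assoc, ← Category.assoc, res_pt, res_pt]
    exact e
  refine ⟨val b a, t, val b c, ?_⟩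
  rw [Rel, pt_val, pt_val]
  exact e

/-- Membership in the cell does not change under an extension of fields. -/
theorem good_of_extension {K L : Type u} [Field K] [Field L] {bK : Spec (CommRingCat.of K) ⟶ S}
    {bL : Spec (CommRingCat.of L) ⟶ S} (θ : K →+* L) (hb : Spec.map (CommRingCat.ofHom θ) ≫ bK = bL) (x y : K)
    (h : Good i pp pm bL (θ x) (θ y)) : Good i pp pm bK x y := by
  haveI := H.hΩ
  obtain ⟨a, t, c, e⟩ := h
  let g : Over.mk bK ⟶ G := (pt bK x ≫ pp) * (pt bK y ≫ pm)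
  have he : res θ hb ≫ g = lift (lift (pt bL a) t) (pt bL c) ≫ cellMap i pp pm := by
    rw [RankOne.cell_comp, MonObj.comp_mul, ← Category.assoc, ← Category.assoc, res_pt, res_pt]
    exact e
  have hr : Set.range g.left ⊆ Set.range (cellMap i pp pm).left := by
    rintro _ ⟨p, rfl⟩
    let q : Spec (CommRingCat.of L) := ⟨⊥, Ideal.isPrime_bot⟩
    refine ⟨(lift (lift (pt bL a) t) (pt bL c)).left q, ?_⟩
    have h1 := congrArg (fun k : Over.mk bL ⟶ G => k.left q) he
    refine h1.symm.trans ?_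
    exact congrArg g.left (Subsingleton.elim (α := Spec (CommRingCat.of K)) _ _)
  let l : Over.mk bK ⟶ (Red.Ga S ⊗ T) ⊗ Red.Ga S :=
    Over.homMk (IsOpenImmersion.lift (cellMap i pp pm).left g.left hr) (by
      rw [← Over.w (cellMap i pp pm), IsOpenImmersion.lift_fac_assoc, Over.w])
  have hl : l ≫ cellMap i pp pm = g := Over.OverMorphism.ext (IsOpenImmersion.lift_fac _ _ _)
  refine ⟨val bK (l ≫ fst _ _ ≫ fst _ _), l ≫ fst _ _ ≫ snd _ _, val bK (l ≫ snd _ _), ?_⟩
  rw [Rel, pt_val, pt_val, ← coords_cell]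
  exact hl.symm

/-- Membership in the cell is tested at closed points. -/
theorem good_of_maximal (x y : A)
    (h : ∀ (m : Ideal A) [m.IsMaximal],
      Good i pp pm (Spec.map (CommRingCat.ofHom (Ideal.Quotient.mk m)) ≫ b) (Ideal.Quotient.mk m x) (Ideal.Quotient.mk m y)) :
    Good i pp pm b x y := by
  haveI := H.hΩ
  let g : Over.mk b ⟶ G := (pt b x ≫ pp) * (pt b y ≫ pm)
  have hr : Set.range g.left ⊆ Set.range (cellMap i pp pm).left := by
    rintro _ ⟨p, rfl⟩
    let p' : PrimeSpectrum A := p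
    obtain ⟨m, hm, hle⟩ := p'.asIdeal.exists_le_maximal p'.isPrime.ne_top
    obtain ⟨a, t, c, e⟩ := h m
    letI := Ideal.Quotient.field m
    let bq := Spec.map (CommRingCat.ofHom (Ideal.Quotient.mk m)) ≫ b
    have he : res (Ideal.Quotient.mk m) rfl ≫ g = lift (lift (pt bq a) t) (pt bq c) ≫ cellMap i pp pm := by
      rw [RankOne.cell_comp, MonObj.comp_mul, ← Category.assoc, ← Category.assoc, res_pt, res_pt]
      exact e
    let q : Spec (CommRingCat.of (A ⧸ m)) := ⟨⊥, Ideal.isPrime_bot⟩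
    let w : PrimeSpectrum A := PrimeSpectrum.comap (Ideal.Quotient.mk m) q
    have hw : w.asIdeal = m := by
      show Ideal.comap (Ideal.Quotient.mk m) ⊥ = m
      rw [← RingHom.ker_eq_comap_bot, Ideal.mk_ker]
    have hspec : p' ⤳ w := (PrimeSpectrum.le_iff_specializes p' w).mp (hle.trans_eq hw.symm)
    have hgw : g.left w ∈ Set.range (cellMap i pp pm).left :=
      ⟨(lift (lift (pt bq a) t) (pt bq c)).left q,
        (congrArg (fun k : Over.mk bq ⟶ G => k.left q) he).symm⟩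
    exact (hspec.map g.left.continuous).mem_open (cellMap i pp pm).left.isOpenEmbedding.isOpen_range hgw
  let l : Over.mk b ⟶ (Red.Ga S ⊗ T) ⊗ Red.Ga S :=
    Over.homMk (IsOpenImmersion.lift (cellMap i pp pm).left g.left hr) (by
      rw [← Over.w (cellMap i pp pm), IsOpenImmersion.lift_fac_assoc, Over.w])
  have hl : l ≫ cellMap i pp pm = g := Over.OverMorphism.ext (IsOpenImmersion.lift_fac _ _ _)
  refine ⟨val b (l ≫ fst _ _ ≫ fst _ _), l ≫ fst _ _ ≫ snd _ _, val b (l ≫ snd _ _), ?_⟩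
  rw [Rel, pt_val, pt_val, ← coords_cell]
  exact hl.symm

/-- Membership in the cell when one coordinate is nilpotent. -/
theorem good_of_nilpotent_left {x : A} (hx : IsNilpotent x) (y : A) : Good i pp pm b x y :=
  good_of_field H x y fun K _ _ φ => by
    rw [(hx.map φ).eq_zero]
    exact ⟨_, _, _, rel_zero_left H _⟩

theorem good_of_nilpotent_right {y : A} (hy : IsNilpotent y) (x : A) : Good i pp pm b x y :=
  good_of_field H x y fun K _ _ φ => by
    rw [(hy.map φ).eq_zero]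
    exact ⟨_, _, _, rel_zero_right H _⟩

end Open

section Independence

/-- The characters `α ^ n` are linearly independent. -/
theorem indep (Z : Finset ℤ) : ∀ {A : Type u} [CommRing A] (b : Spec (CommRingCat.of A) ⟶ S) (r : ℤ → A),
    (∀ (B : Type u) [CommRing B] (φ : A →+* B) (b' : Spec (CommRingCat.of B) ⟶ S),
      Spec.map (CommRingCat.ofHom φ) ≫ b = b' → ∀ s : Over.mk b' ⟶ T,
        ∑ n ∈ Z, φ (r n) * ((chr α b' s ^ n : Bˣ) : B) = 0) →
    ∀ n ∈ Z, r n = 0 := by
  classical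
  haveI := H.hα'
  induction Z using Finset.induction_on with
  | empty => simp
  | insert n₀ Z hn₀ ih =>
    intro A _ b r h
    have hrest : ∀ n ∈ Z, r n = 0 := by
      intro n hn
      let k : ℕ := (n - n₀).natAbs
      have hk : 0 < k := by
        have : n ≠ n₀ := fun e => hn₀ (e ▸ hn)
        omega
      refine RankOne.eq_zero_of_nondeg_affine H.hT H.hα (A := CommRingCat.of A) b hk (r n) fun B φ b' hb s => ?_
      let w : Bˣ := chr α b' s
      show φ (r n) * ((w : B) ^ k - 1) = 0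
      have hz : φ (r n) * (((w ^ n : Bˣ) : B) - ((w ^ n₀ : Bˣ) : B)) = 0 := by
        refine ih (A := B) b' (fun m => φ (r m) * (((w ^ m : Bˣ) : B) - ((w ^ n₀ : Bˣ) : B))) ?_ n hn
        intro C _ ψ b'' hb' t
        have hbc : Spec.map (CommRingCat.ofHom (ψ.comp φ)) ≫ b = b'' := by
          rw [← hb', ← hb, CommRingCat.ofHom_comp, Spec.map_comp, Category.assoc]
        let v : Cˣ := chr α b'' t
        let w' : Cˣ := Units.map ψ.toMonoidHom w
        have h1 := h C (ψ.comp φ) b'' hbc t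
        have h2 := h C (ψ.comp φ) b'' hbc ((res ψ hb' ≫ s) * t)
        rw [chr_mul H, chr_res] at h2
        simp only [Finset.sum_insert hn₀, mul_zpow, Units.val_mul, RingHom.comp_apply] at h1 h2
        have e : ∀ m : ℤ, ψ ((w ^ m : Bˣ) : B) = ((w' ^ m : Cˣ) : C) := fun m => by
          simp only [w', ← map_zpow, Units.coe_map]; rfl
        change ∑ m ∈ Z, ψ (φ (r m) * (((w ^ m : Bˣ) : B) - ((w ^ n₀ : Bˣ) : B))) * ((v ^ m : Cˣ) : C) = 0
        have h3 : ∑ m ∈ Z, ψ (φ (r m) * (((w ^ m : Bˣ) : B) - ((w ^ n₀ : Bˣ) : B))) * ((v ^ m : Cˣ) : C) =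
            ∑ m ∈ Z, ψ (φ (r m)) * (((w' ^ m : Cˣ) : C) * ((v ^ m : Cˣ) : C)) -
              ((w' ^ n₀ : Cˣ) : C) * ∑ m ∈ Z, ψ (φ (r m)) * ((v ^ m : Cˣ) : C) := by
          rw [Finset.mul_sum, ← Finset.sum_sub_distrib]
          exact Finset.sum_congr rfl fun m _ => by rw [map_mul, map_sub, e, e]; ring
        rw [h3]
        linear_combination h2 - ((w' ^ n₀ : Cˣ) : C) * h1
      have hz' : φ (r n) * (((w ^ (n - n₀) : Bˣ) : B) - 1) = 0 := by
        rw [zpow_sub, Units.val_mul]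
        linear_combination (((w ^ n₀)⁻¹ : Bˣ) : B) * hz +
          φ (r n) * (Units.inv_mul (w ^ n₀))
      rcases Int.natAbs_eq (n - n₀) with e | e
      · rw [e, zpow_natCast, Units.val_pow_eq_pow_val] at hz'
        exact hz'
      · rw [e, zpow_neg, zpow_natCast] at hz'
        linear_combination -((w : B) ^ k) * hz' + φ (r n) * (Units.mul_inv (w ^ k)) -
          φ (r n) * (((w ^ k)⁻¹ : Bˣ) : B) * (Units.val_pow_eq_pow_val w k)
    intro n hn
    rcases Finset.mem_insert.mp hn with rfl | hn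
    · have h1 := h A (RingHom.id A) b (by simp) 1
      rw [Finset.sum_insert hn₀, chr_one H] at h1
      simpa [Finset.sum_eq_zero (fun m hm => hrest m hm)] using h1
    · exact hrest n hn

end Independence

end Groth.Agent.GrpSchLib.RankOneComm
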