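import Groth.Agent.GrpSchLib.RankOneCommBase
import Groth.Agent.GrpSchLib.RankOneNonComm
import Groth.Agent.MultConjLib.Exists
import Mathlib.AlgebraicGeometry.Gluing

/-! Homogeneity of the coordinates of `p₊(x) p₋(y)`, and morphisms given by natural families. -/

set_option autoImplicit false
set_option linter.style.haveILetI false
set_option backward.isDefEq.respectTransparency false

universe u

open CategoryTheory CategoryTheory.Limits AlgebraicGeometry MonoidalCategory CartesianMonoidalCategory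
open scoped MonObj Polynomial LaurentPolynomial

noncomputable section

namespace Groth.Agent.GrpSchLib.RankOneComm

open RankOne (cellMap)

variable {S : Scheme.{u}}

/-- A natural family of morphisms out of the affine test objects over `X` comes from a morphism. -/
theorem exists_of_natural {X Y : Over S}
    (F : ∀ (A : Type u) [CommRing A] (b : Spec (CommRingCat.of A) ⟶ S), (Over.mk b ⟶ X) → (Over.mk b ⟶ Y))
    (hF : ∀ (A B : Type u) [CommRing A] [CommRing B] (b : Spec (CommRingCat.of A) ⟶ S)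
      (b' : Spec (CommRingCat.of B) ⟶ S) (φ : A →+* B) (hb : Spec.map (CommRingCat.ofHom φ) ≫ b = b')
      (j : Over.mk b ⟶ X), F B b' (res φ hb ≫ j) = res φ hb ≫ F A b j) :
    ∃ f : X ⟶ Y, ∀ (A : Type u) [CommRing A] (b : Spec (CommRingCat.of A) ⟶ S) (j : Over.mk b ⟶ X),
      j ≫ f = F A b j := by
  let 𝒰 := X.left.affineCover
  have nat : ∀ (A B : CommRingCat.{u}) (b : Spec A ⟶ S) (j : Over.mk b ⟶ X) (q : Spec B ⟶ Spec A)
      (j' : Over.mk (q ≫ b) ⟶ X), j'.left = q ≫ j.left → (F B (q ≫ b) j').left = q ≫ (F A b j).left := by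
    intro A B b j q j' hj'
    have hb : Spec.map (CommRingCat.ofHom (Spec.preimage q).hom) ≫ b = q ≫ b := by
      rw [CommRingCat.ofHom_hom, Spec.map_preimage]
    have hr : (res (A := A) (B := B) (Spec.preimage q).hom hb).left = q := by
      show Spec.map (CommRingCat.ofHom (Spec.preimage q).hom) = q
      rw [CommRingCat.ofHom_hom, Spec.map_preimage]
    have hj : j' = res (A := A) (B := B) (Spec.preimage q).hom hb ≫ j := by
      ext1
      rw [Over.comp_left, hr, hj']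
    rw [hj, hF, Over.comp_left, hr]
  have Fcongr : ∀ (A : CommRingCat.{u}) (b b₂ : Spec A ⟶ S) (j : Over.mk b ⟶ X) (j₂ : Over.mk b₂ ⟶ X),
      b = b₂ → j.left = j₂.left → (F A b j).left = (F A b₂ j₂).left := by
    intro A b b₂ j j₂ hb hj
    subst hb
    rw [show j = j₂ from Over.OverMorphism.ext hj]
  let f₀ : ∀ k, 𝒰.X k ⟶ Y.left := fun k =>
    (F _ (𝒰.f k ≫ X.hom) (Over.homMk (𝒰.f k) rfl)).left
  have compat : ∀ k l, pullback.fst (𝒰.f k) (𝒰.f l) ≫ f₀ k = pullback.snd (𝒰.f k) (𝒰.f l) ≫ f₀ l := by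
    intro k l
    refine (pullback (𝒰.f k) (𝒰.f l)).affineCover.hom_ext _ _ fun m => ?_
    let e := (pullback (𝒰.f k) (𝒰.f l)).affineCover.f m
    have hc : (e ≫ pullback.fst (𝒰.f k) (𝒰.f l)) ≫ 𝒰.f k = (e ≫ pullback.snd (𝒰.f k) (𝒰.f l)) ≫ 𝒰.f l := by
      simp only [Category.assoc, pullback.condition]
    have h1 := nat _ _ (𝒰.f k ≫ X.hom) (Over.homMk (𝒰.f k) rfl) (e ≫ pullback.fst (𝒰.f k) (𝒰.f l))
      (Over.homMk ((e ≫ pullback.fst (𝒰.f k) (𝒰.f l)) ≫ 𝒰.f k) (by simp)) rfl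
    have h2 := nat _ _ (𝒰.f l ≫ X.hom) (Over.homMk (𝒰.f l) rfl) (e ≫ pullback.snd (𝒰.f k) (𝒰.f l))
      (Over.homMk ((e ≫ pullback.snd (𝒰.f k) (𝒰.f l)) ≫ 𝒰.f l) (by simp)) rfl
    rw [← Category.assoc, ← Category.assoc]
    refine h1.symm.trans (Eq.trans ?_ h2)
    exact Fcongr _ _ _ _ _ (by simp only [← Category.assoc, hc]) hc
  have hw : 𝒰.glueMorphisms f₀ compat ≫ Y.hom = X.hom := 𝒰.hom_ext _ _ fun k => by
    rw [Scheme.Cover.ι_glueMorphisms_assoc]
    exact Over.w (F _ (𝒰.f k ≫ X.hom) (Over.homMk (𝒰.f k) rfl))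
  refine ⟨Over.homMk (𝒰.glueMorphisms f₀ compat) hw, fun A _ b j => ?_⟩
  ext1
  show j.left ≫ 𝒰.glueMorphisms f₀ compat = _
  refine Scheme.Cover.hom_ext (𝒰.pullback₁ j.left) _ _ fun k => ?_
  refine Scheme.Cover.hom_ext (pullback j.left (𝒰.f k)).affineCover _ _ fun m => ?_
  let e := (pullback j.left (𝒰.f k)).affineCover.f m
  have hc : (e ≫ pullback.fst j.left (𝒰.f k)) ≫ j.left = (e ≫ pullback.snd j.left (𝒰.f k)) ≫ 𝒰.f k := by
    simp only [Category.assoc, pullback.condition]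
  have h1 := nat (CommRingCat.of A) _ b j (e ≫ pullback.fst j.left (𝒰.f k))
    (Over.homMk ((e ≫ pullback.fst j.left (𝒰.f k)) ≫ j.left) (by
      rw [Category.assoc, Category.assoc]; exact congrArg (e ≫ ·) (congrArg (pullback.fst j.left (𝒰.f k) ≫ ·) (Over.w j)))) rfl
  have h2 := nat _ _ (𝒰.f k ≫ X.hom) (Over.homMk (𝒰.f k) rfl) (e ≫ pullback.snd j.left (𝒰.f k))
    (Over.homMk ((e ≫ pullback.snd j.left (𝒰.f k)) ≫ 𝒰.f k) (by simp)) rfl
  show e ≫ pullback.fst j.left (𝒰.f k) ≫ j.left ≫ _ = e ≫ pullback.fst j.left (𝒰.f k) ≫ _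
  rw [pullback.condition_assoc, Scheme.Cover.ι_glueMorphisms, ← Category.assoc, ← Category.assoc e]
  refine h2.symm.trans (Eq.trans ?_ h1)
  have hb : (e ≫ pullback.fst j.left (𝒰.f k)) ≫ b = (e ≫ pullback.snd j.left (𝒰.f k)) ≫ 𝒰.f k ≫ X.hom := by
    rw [← Category.assoc _ (𝒰.f k), ← hc, Category.assoc (e ≫ _), Over.w j]
    rfl
  exact Fcongr _ _ _ _ _ hb.symm hc.symm

variable {G T : Over S} [GrpObj G] [GrpObj T] {i : T ⟶ G} {α : T ⟶ Red.Gm S} {pp pm : Red.Ga S ⟶ G}
  (H : Hyp i α pp pm)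
include H

section Locus

variable {A : Type u} [CommRing A] {b : Spec (CommRingCat.of A) ⟶ S}

theorem good_iff_range (x y : A) : Good i pp pm b x y ↔
    Set.range ((pt b x ≫ pp) * (pt b y ≫ pm) : Over.mk b ⟶ G).left ⊆ Set.range (cellMap i pp pm).left := by
  haveI := H.hΩ
  constructor
  · rintro ⟨a, t, c, e⟩ _ ⟨p, rfl⟩
    refine ⟨(lift (lift (pt b a) t) (pt b c)).left p, ?_⟩
    have he : lift (lift (pt b a) t) (pt b c) ≫ cellMap i pp pm = (pt b x ≫ pp) * (pt b y ≫ pm) :=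
      (RankOne.cell_comp i pp pm _ _ _).trans e.symm
    exact congrArg (fun k : Over.mk b ⟶ G => k.left p) he
  · intro hr
    let g : Over.mk b ⟶ G := (pt b x ≫ pp) * (pt b y ≫ pm)
    let l : Over.mk b ⟶ (Red.Ga S ⊗ T) ⊗ Red.Ga S :=
      Over.homMk (IsOpenImmersion.lift (cellMap i pp pm).left g.left hr) (by
        rw [← Over.w (cellMap i pp pm), IsOpenImmersion.lift_fac_assoc, Over.w])
    have hl : l ≫ cellMap i pp pm = g := Over.OverMorphism.ext (IsOpenImmersion.lift_fac _ _ _)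
    refine ⟨val b (l ≫ fst _ _ ≫ fst _ _), l ≫ fst _ _ ≫ snd _ _, val b (l ≫ snd _ _), ?_⟩
    rw [Rel, pt_val, pt_val, ← coords_cell]
    exact hl.symm

/-- The locus where `p₊(x) p₋(y)` lies in the cell is open. -/
theorem exists_good_locus (b : Spec (CommRingCat.of A) ⟶ S) (x y : A) :
    ∃ I : Ideal A, ∀ (K : Type u) [Field K] (φ : A →+* K) (b' : Spec (CommRingCat.of K) ⟶ S),
      Spec.map (CommRingCat.ofHom φ) ≫ b = b' → (Good i pp pm b' (φ x) (φ y) ↔ ¬ I ≤ RingHom.ker φ) := by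
  haveI := H.hΩ
  let g : Over.mk b ⟶ G := (pt b x ≫ pp) * (pt b y ≫ pm)
  let U : Set (PrimeSpectrum A) := g.left ⁻¹' Set.range (cellMap i pp pm).left
  have hU : IsOpen U := (cellMap i pp pm).left.isOpenEmbedding.isOpen_range.preimage g.left.continuous
  obtain ⟨I, hI⟩ := (PrimeSpectrum.isClosed_iff_zeroLocus_ideal Uᶜ).mp hU.isClosed_compl
  refine ⟨I, fun K _ φ b' hb => ?_⟩
  let w : PrimeSpectrum A := PrimeSpectrum.comap φ ⟨⊥, Ideal.isPrime_bot⟩
  have hw : w.asIdeal = RingHom.ker φ := (RingHom.ker_eq_comap_bot φ).symm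
  have e : res φ hb ≫ g = (pt b' (φ x) ≫ pp) * (pt b' (φ y) ≫ pm) := by
    rw [MonObj.comp_mul, ← Category.assoc, ← Category.assoc, res_pt, res_pt]
  have h1 : Good i pp pm b' (φ x) (φ y) ↔ w ∈ U := by
    rw [good_iff_range H, ← e]
    constructor
    · intro h
      exact h ⟨(⟨⊥, Ideal.isPrime_bot⟩ : PrimeSpectrum K), rfl⟩
    · rintro h _ ⟨p, rfl⟩
      obtain rfl : p = (⟨⊥, Ideal.isPrime_bot⟩ : PrimeSpectrum K) := Subsingleton.elim (α := PrimeSpectrum K) _ _
      exact h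
  rw [h1, ← hw]
  have h2 : w ∈ Uᶜ ↔ I ≤ w.asIdeal := by rw [hI]; rfl
  exact ⟨fun hm hle => (h2.mpr hle) hm, fun hm => not_not.mp fun hn => hm (h2.mp hn)⟩

end Locus

section Invariance

omit H in
theorem chr_val {A : Type u} [CommRing A] (b : Spec (CommRingCat.of A) ⟶ S) (s : Over.mk b ⟶ T) :
    (chr α b s : A) = RankOne.sval (A := CommRingCat.of A) b (GmPts.unitOfPt (s ≫ α) : Γ((Over.mk b).left, ⊤)) :=
  rfl

theorem good_scale_field {K : Type u} [Field K] {b : Spec (CommRingCat.of K) ⟶ S} {x y : K}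
    (h : Good i pp pm b x y) (z : Kˣ) : Good i pp pm b ((z : K) * x) (((z⁻¹ : Kˣ) : K) * y) := by
  classical
  haveI := H.hα'
  obtain ⟨L, _, θ, bL, _, hb, hL⟩ := RankOne.exists_notMem H.hT α H.hα b
  refine good_of_extension H θ hb _ _ ?_
  obtain ⟨a, t, c, hR⟩ := h
  have h1 : Good i pp pm bL (θ x) (θ y) := ⟨_, _, _, rel_res H hR θ hb⟩
  rw [map_mul, map_mul]
  by_contra hz
  let bR : Spec (CommRingCat.of L[T;T⁻¹]) ⟶ S := Spec.map (CommRingCat.ofHom (LaurentPolynomial.C : L →+* L[T;T⁻¹])) ≫ bL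
  obtain ⟨I, hI⟩ := exists_good_locus H bR (LaurentPolynomial.T 1 * LaurentPolynomial.C (θ x))
    (LaurentPolynomial.T (-1) * LaurentPolynomial.C (θ y))
  have key : ∀ w : Lˣ, Good i pp pm bL ((w : L) * θ x) (((w⁻¹ : Lˣ) : L) * θ y) ↔
      ¬ I ≤ RingHom.ker (LaurentPolynomial.eval₂ (RingHom.id L) w) := fun w => by
    have := hI L (LaurentPolynomial.eval₂ (RingHom.id L) w) bL (by
      rw [← Category.assoc, ← Spec.map_comp, ← CommRingCat.ofHom_comp,
        show (LaurentPolynomial.eval₂ (RingHom.id L) w).comp LaurentPolynomial.C = RingHom.id L from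
          RingHom.ext fun r => LaurentPolynomial.eval₂_C _ _ r]
      simp)
    rw [map_mul, map_mul, LaurentPolynomial.eval₂_T, LaurentPolynomial.eval₂_C, LaurentPolynomial.eval₂_T,
      LaurentPolynomial.eval₂_C, zpow_one, zpow_neg_one, RingHom.id_apply, RingHom.id_apply] at this
    exact this
  obtain ⟨p, hpI, hp⟩ := SetLike.not_le_iff_exists.mp ((key 1).mp (by simpa using h1))
  obtain ⟨n, p', hp'⟩ := LaurentPolynomial.exists_T_pow p
  have hp'0 : p' ≠ 0 := by
    rintro rfl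
    rw [map_zero] at hp'
    apply hp
    have h0 : p * LaurentPolynomial.T (n : ℤ) * LaurentPolynomial.T (-(n : ℤ)) = 0 := by rw [← hp', zero_mul]
    rw [LaurentPolynomial.mul_T_assoc, add_neg_cancel, LaurentPolynomial.T_zero, _root_.mul_one] at h0
    rw [RingHom.mem_ker, h0, map_zero]
  let Z : Finset L := p'.roots.toFinset
  have hZ : ∀ w : Lˣ, ¬ Good i pp pm bL ((w : L) * θ x) (((w⁻¹ : Lˣ) : L) * θ y) → (w : L) ∈ Z := fun w hw => by
    rw [key, not_not] at hw
    have h0 : LaurentPolynomial.eval₂ (RingHom.id L) w p = 0 := hw hpI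
    have h2 : LaurentPolynomial.eval₂ (RingHom.id L) w (Polynomial.toLaurent p') = 0 := by
      rw [hp', map_mul, h0, zero_mul]
    rw [LaurentPolynomial.eval₂_toLaurent] at h2
    rw [Multiset.mem_toFinset, Polynomial.mem_roots hp'0]
    exact h2
  let z' : Lˣ := Units.map θ.toMonoidHom z
  obtain ⟨s, hs⟩ := hL (Z.image fun v => v * ((z'⁻¹ : Lˣ) : L))
  rw [← chr_val (A := L) bL s] at hs
  apply hs
  rw [Finset.mem_image]
  refine ⟨((chr α bL s * z' : Lˣ) : L), hZ _ ?_, by simp⟩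
  rintro ⟨a', t', c', h'⟩
  have h3 := rel_conj H h' s⁻¹
  have hc : chr α bL s⁻¹ = (chr α bL s)⁻¹ :=
    eq_inv_of_mul_eq_one_left (by rw [← chr_mul H, inv_mul_cancel, chr_one H])
  rw [hc, inv_inv] at h3
  have e1 : θ (z : K) * θ x = (((chr α bL s)⁻¹ : Lˣ) : L) * (((chr α bL s * z' : Lˣ) : L) * θ x) := by
    rw [← _root_.mul_assoc, ← Units.val_mul, inv_mul_cancel_left]
    rfl
  have e2 : θ ((z⁻¹ : Kˣ) : K) * θ y = ((chr α bL s : Lˣ) : L) * ((((chr α bL s * z')⁻¹ : Lˣ) : L) * θ y) := by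
    rw [← _root_.mul_assoc, ← Units.val_mul, mul_inv_rev, mul_inv_cancel_comm_assoc]
    rfl
  apply hz
  rw [e1, e2]
  exact ⟨_, _, _, h3⟩

theorem good_scale {A : Type u} [CommRing A] {b : Spec (CommRingCat.of A) ⟶ S} {x y : A}
    (h : Good i pp pm b x y) (z : Aˣ) : Good i pp pm b ((z : A) * x) (((z⁻¹ : Aˣ) : A) * y) :=
  good_of_field H _ _ fun K _ _ φ => by
    obtain ⟨a, t, c, hR⟩ := h
    have := good_scale_field H ⟨_, _, _, rel_res H hR φ rfl⟩ (Units.map φ.toMonoidHom z)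
    rw [map_mul, map_mul]
    exact this

theorem laurent_eq_zero {A : Type u} [CommRing A] (b : Spec (CommRingCat.of A) ⟶ S) (p : A[T;T⁻¹])
    (h : ∀ (B : Type u) [CommRing B] (φ : A →+* B) (b' : Spec (CommRingCat.of B) ⟶ S),
      Spec.map (CommRingCat.ofHom φ) ≫ b = b' → ∀ s : Over.mk b' ⟶ T,
        LaurentPolynomial.eval₂ φ (chr α b' s) p = 0) : p = 0 := by
  classical
  have hsum : p = ∑ n ∈ p.coeff.support, LaurentPolynomial.C (p.coeff n) * LaurentPolynomial.T n := by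
    conv_lhs => rw [← AddMonoidAlgebra.sum_coeff_single p]
    exact Finset.sum_congr rfl fun n _ => LaurentPolynomial.single_eq_C_mul_T _ _
  rw [hsum]
  refine Finset.sum_eq_zero fun n hn => ?_
  rw [indep H p.coeff.support b (fun m => p.coeff m) (fun B _ φ b' hb s => ?_) n hn, map_zero, zero_mul]
  have := h B φ b' hb s
  rw [hsum, map_sum] at this
  simpa only [LaurentPolynomial.eval₂_C_mul_T] using this

theorem laurent_ext {A : Type u} [CommRing A] (b : Spec (CommRingCat.of A) ⟶ S)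
    (bR : Spec (CommRingCat.of A[T;T⁻¹]) ⟶ S)
    (hR : Spec.map (CommRingCat.ofHom (LaurentPolynomial.C : A →+* A[T;T⁻¹])) ≫ b = bR)
    (g g' : Over.mk bR ⟶ T)
    (h : ∀ (B : Type u) [CommRing B] (φ : A →+* B) (b' : Spec (CommRingCat.of B) ⟶ S),
      Spec.map (CommRingCat.ofHom φ) ≫ b = b' → ∀ (s : Over.mk b' ⟶ T)
        (he : Spec.map (CommRingCat.ofHom (LaurentPolynomial.eval₂ φ (chr α b' s))) ≫ bR = b'),
        res _ he ≫ g = res _ he ≫ g') : g = g' := by
  haveI : IsAffineHom T.hom := MultConjLib.isAffineHom_of_locDS (MultConjLib.isLocDS_of_multTypeFT (RankOne.isMultTypeFT_of_isTorus H.hT))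
  haveI : IsAffineHom (pullback.snd T.hom b) := inferInstance
  haveI : IsAffine (pullback T.hom b) := isAffine_of_isAffineHom (pullback.snd T.hom b)
  let l : (Over.mk bR ⟶ T) → (Spec (CommRingCat.of A[T;T⁻¹]) ⟶ pullback T.hom b) := fun k =>
    pullback.lift k.left (Spec.map (CommRingCat.ofHom (LaurentPolynomial.C : A →+* A[T;T⁻¹])))
      ((Over.w k).trans hR.symm)
  have hl : l g = l g' := by
    refine ext_of_isAffine (CommRingCat.hom_ext (RingHom.ext fun f => (sv bR).injective (sub_eq_zero.mp ?_)))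
    refine laurent_eq_zero H b _ fun B _ φ b' hb s => ?_
    let ev := LaurentPolynomial.eval₂ φ (chr α b' s)
    have hev : ev.comp LaurentPolynomial.C = φ := RingHom.ext fun r => LaurentPolynomial.eval₂_C _ _ r
    have he : Spec.map (CommRingCat.ofHom ev) ≫ bR = b' := by
      rw [← hR, ← Category.assoc, ← Spec.map_comp, ← CommRingCat.ofHom_comp, hev, hb]
    have h2 : Spec.map (CommRingCat.ofHom ev) ≫ l g = Spec.map (CommRingCat.ofHom ev) ≫ l g' := by
      apply pullback.hom_ext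
      · simp only [l, Category.assoc, pullback.lift_fst]
        exact congrArg CommaMorphism.left (h B φ b' hb s he)
      · simp only [l, Category.assoc, pullback.lift_snd]
    have h3 := congrArg (fun k : Spec (CommRingCat.of B) ⟶ _ => k.appTop f) h2
    rw [GmPts.appTop_comp_apply, GmPts.appTop_comp_apply] at h3
    rw [map_sub, sub_eq_zero]
    exact (sv_res bR ev he _).symm.trans ((congrArg (sv b') h3).trans (sv_res bR ev he _))
  ext1
  have e := congrArg (· ≫ pullback.fst T.hom b) hl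
  exact (pullback.lift_fst _ _ _).symm.trans (e.trans (pullback.lift_fst _ _ _))

/-- Homogeneity of the coordinates. -/
theorem rel_scale {A : Type u} [CommRing A] {b : Spec (CommRingCat.of A) ⟶ S} {x y a c : A}
    {t : Over.mk b ⟶ T} (h : Rel i pp pm b x y a t c) (z : Aˣ) :
    Rel i pp pm b ((z : A) * x) (((z⁻¹ : Aˣ) : A) * y) (((z⁻¹ : Aˣ) : A) * a) t ((z : A) * c) := by
  let bR : Spec (CommRingCat.of A[T;T⁻¹]) ⟶ S := Spec.map (CommRingCat.ofHom (LaurentPolynomial.C : A →+* A[T;T⁻¹])) ≫ b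
  let Z : A[T;T⁻¹]ˣ := ⟨LaurentPolynomial.T 1, LaurentPolynomial.T (-1), by rw [← LaurentPolynomial.T_add, add_neg_cancel, LaurentPolynomial.T_zero],
    by rw [← LaurentPolynomial.T_add, neg_add_cancel, LaurentPolynomial.T_zero]⟩
  have hC := rel_res H h LaurentPolynomial.C (b' := bR) rfl
  obtain ⟨a', t', c', h'⟩ := good_scale H ⟨_, _, _, hC⟩ Z
  have key : ∀ (B : Type u) [CommRing B] (φ : A →+* B) (b' : Spec (CommRingCat.of B) ⟶ S)
      (hb : Spec.map (CommRingCat.ofHom φ) ≫ b = b') (s : Over.mk b' ⟶ T)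
      (he : Spec.map (CommRingCat.ofHom (LaurentPolynomial.eval₂ φ (chr α b' s))) ≫ bR = b'),
      LaurentPolynomial.eval₂ φ (chr α b' s) a' = ((chr α b' s)⁻¹ : Bˣ) * φ a ∧
        res _ he ≫ t' = res φ hb ≫ t ∧ LaurentPolynomial.eval₂ φ (chr α b' s) c' = (chr α b' s : B) * φ c := by
    intro B _ φ b' hb s he
    have h1 := rel_res H h' (LaurentPolynomial.eval₂ φ (chr α b' s)) he
    have h2 := rel_conj H (rel_res H h φ hb) s
    simp only [map_mul, Z, LaurentPolynomial.eval₂_C, Units.inv_mk, LaurentPolynomial.eval₂_T, zpow_one, zpow_neg_one] at h1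
    exact rel_unique H h1 h2
  have hb' : ∀ (B : Type u) [CommRing B] (φ : A →+* B) (b' : Spec (CommRingCat.of B) ⟶ S),
      Spec.map (CommRingCat.ofHom φ) ≫ b = b' → ∀ w : Bˣ,
        Spec.map (CommRingCat.ofHom (LaurentPolynomial.eval₂ φ w)) ≫ bR = b' := fun B _ φ b' hb w => by
    rw [← Category.assoc, ← Spec.map_comp, ← CommRingCat.ofHom_comp,
      show (LaurentPolynomial.eval₂ φ w).comp LaurentPolynomial.C = φ from
        RingHom.ext fun r => LaurentPolynomial.eval₂_C _ _ r, hb]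
  have ha : a' = LaurentPolynomial.T (-1) * LaurentPolynomial.C a :=
    sub_eq_zero.mp (laurent_eq_zero H b _ fun B _ φ b' hb s => by
      rw [map_sub, (key B φ b' hb s (hb' B φ b' hb _)).1, map_mul, LaurentPolynomial.eval₂_T,
        LaurentPolynomial.eval₂_C, zpow_neg_one, sub_self])
  have hc : c' = LaurentPolynomial.T 1 * LaurentPolynomial.C c :=
    sub_eq_zero.mp (laurent_eq_zero H b _ fun B _ φ b' hb s => by
      rw [map_sub, (key B φ b' hb s (hb' B φ b' hb _)).2.2, map_mul, LaurentPolynomial.eval₂_T,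
        LaurentPolynomial.eval₂_C, zpow_one, sub_self])
  have ht : t' = res LaurentPolynomial.C (b' := bR) rfl ≫ t := laurent_ext H b bR rfl _ _ fun B _ φ b' hb s he => by
    rw [(key B φ b' hb s he).2.1]
    rw [← Category.assoc]
    congr 1
    ext1
    show Spec.map (CommRingCat.ofHom φ) = Spec.map (CommRingCat.ofHom _) ≫ Spec.map (CommRingCat.ofHom _)
    rw [← Spec.map_comp, ← CommRingCat.ofHom_comp,
      show (LaurentPolynomial.eval₂ φ (chr α b' s)).comp LaurentPolynomial.C = φ from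
        RingHom.ext fun r => LaurentPolynomial.eval₂_C _ _ r]
  have hid := hb' A (RingHom.id A) b (by simp) z
  have h3 := rel_res H h' (LaurentPolynomial.eval₂ (RingHom.id A) z) hid
  rw [ha, hc, ht] at h3
  simp only [map_mul, Z, LaurentPolynomial.eval₂_C, Units.inv_mk, RingHom.id_apply, LaurentPolynomial.eval₂_T,
    zpow_one, zpow_neg_one] at h3
  convert h3 using 1
  rw [← Category.assoc]
  have hcomp : res (LaurentPolynomial.eval₂ (RingHom.id A) z) hid ≫ res LaurentPolynomial.C (b' := bR) rfl =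
      𝟙 (Over.mk b) := by
    ext1
    show Spec.map (CommRingCat.ofHom _) ≫ Spec.map (CommRingCat.ofHom _) = _
    rw [← Spec.map_comp, ← CommRingCat.ofHom_comp,
      show (LaurentPolynomial.eval₂ (RingHom.id A) z).comp LaurentPolynomial.C = RingHom.id A from
        RingHom.ext fun r => LaurentPolynomial.eval₂_C _ _ r]
    simp
  rw [hcomp, Category.id_comp]

end Invariance

end Groth.Agent.GrpSchLib.RankOneComm
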