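import Groth.Agent.GrpSchLib.RankOneCommEquiv
import Mathlib.Algebra.DualNumber
import Mathlib.RingTheory.Localization.Away.Basic

/-! The linear function governing `p₊(x) p₋(1)`, and its determination over algebraically closed fields. -/

set_option autoImplicit false
set_option linter.style.haveILetI false
set_option backward.isDefEq.respectTransparency false

universe u

open CategoryTheory CategoryTheory.Limits AlgebraicGeometry MonoidalCategory CartesianMonoidalCategory
open scoped MonObj Polynomial DualNumber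

noncomputable section

namespace Groth.Agent.GrpSchLib.RankOneComm

/-- The map of dual numbers of a ring map, scaling `ε` by `c`. -/
def dmap {A B : Type u} [CommRing A] [CommRing B] (φ : A →+* B) (c : B) : A[ε] →+* B[ε] where
  toFun x := TrivSqZeroExt.inl (φ (TrivSqZeroExt.fst x)) + TrivSqZeroExt.inr (c * φ (TrivSqZeroExt.snd x))
  map_one' := by ext <;> simp
  map_mul' x y := by ext <;> simp <;> ring
  map_zero' := by ext <;> simp
  map_add' x y := by ext <;> simp <;> ring

section Dual

variable {A B : Type u} [CommRing A] [CommRing B] (φ : A →+* B) (c : B)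

@[simp] theorem dmap_fst (x : A[ε]) : TrivSqZeroExt.fst (dmap φ c x) = φ (TrivSqZeroExt.fst x) := by simp [dmap]

@[simp] theorem dmap_snd (x : A[ε]) : TrivSqZeroExt.snd (dmap φ c x) = c * φ (TrivSqZeroExt.snd x) := by
  simp [dmap]

theorem dmap_eps : dmap φ c (ε : A[ε]) = TrivSqZeroExt.inr c := by ext <;> simp [dmap]

theorem eps_nilpotent : IsNilpotent (ε : A[ε]) := ⟨2, by rw [pow_two, DualNumber.eps_mul_eps]⟩

/-- The structure map of the dual numbers. -/
abbrev dinl (A : Type u) [CommRing A] : A →+* A[ε] := TrivSqZeroExt.inlHom A A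

/-- The augmentation of the dual numbers. -/
abbrev dfst (A : Type u) [CommRing A] : A[ε] →+* A := (TrivSqZeroExt.fstHom A A A).toRingHom

end Dual

variable {S : Scheme.{u}}

/-- The test object of the dual numbers. -/
abbrev dbase {A : Type u} [CommRing A] (b : Spec (CommRingCat.of A) ⟶ S) : Spec (CommRingCat.of A[ε]) ⟶ S :=
  Spec.map (CommRingCat.ofHom (dinl A)) ≫ b

theorem base_comp {A B C : Type u} [CommRing A] [CommRing B] [CommRing C] (φ : A →+* B) (ψ : B →+* C)
    {b : Spec (CommRingCat.of A) ⟶ S} {b' : Spec (CommRingCat.of B) ⟶ S} {b'' : Spec (CommRingCat.of C) ⟶ S}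
    (hb : Spec.map (CommRingCat.ofHom φ) ≫ b = b') (hb' : Spec.map (CommRingCat.ofHom (ψ.comp φ)) ≫ b = b'') :
    Spec.map (CommRingCat.ofHom ψ) ≫ b' = b'' := by
  rw [← hb, ← hb', CommRingCat.ofHom_comp, Spec.map_comp, Category.assoc]

theorem base_id {A : Type u} [CommRing A] (b : Spec (CommRingCat.of A) ⟶ S) (φ : A →+* A) (h : φ = RingHom.id A) :
    Spec.map (CommRingCat.ofHom φ) ≫ b = b := by
  subst h
  simp

theorem dbase_dmap {A B : Type u} [CommRing A] [CommRing B] {b : Spec (CommRingCat.of A) ⟶ S}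
    {b' : Spec (CommRingCat.of B) ⟶ S} (φ : A →+* B) (hb : Spec.map (CommRingCat.ofHom φ) ≫ b = b') (c : B) :
    Spec.map (CommRingCat.ofHom (dmap φ c)) ≫ dbase b = dbase b' := by
  rw [dbase, dbase, ← hb, ← Category.assoc, ← Category.assoc, ← Spec.map_comp, ← Spec.map_comp,
    ← CommRingCat.ofHom_comp, ← CommRingCat.ofHom_comp]
  congr 3
  ext r <;> simp

theorem dbase_fst {A : Type u} [CommRing A] (b : Spec (CommRingCat.of A) ⟶ S) :
    Spec.map (CommRingCat.ofHom (dfst A)) ≫ dbase b = b :=
  base_comp (dinl A) (dfst A) rfl (base_id b _ (RingHom.ext fun r => by simp))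

variable {G T : Over S} [GrpObj G] [GrpObj T] {i : T ⟶ G} {α : T ⟶ Red.Gm S} {pp pm : Red.Ga S ⟶ G}
  (H : Hyp i α pp pm)
include H

theorem exists_coef {A : Type u} [CommRing A] (b : Spec (CommRingCat.of A) ⟶ S) :
    ∃! a : A, ∃ (t : Over.mk (dbase b) ⟶ T) (c : A[ε]),
      Rel i pp pm (dbase b) ε 1 (1 - TrivSqZeroExt.inr a) t c := by
  obtain ⟨h, t, c, hR⟩ := good_of_nilpotent_left (b := dbase b) H eps_nilpotent (1 : A[ε])
  have h1 : TrivSqZeroExt.fst h = 1 := by
    have h2 := rel_res H hR (dfst A) (dbase_fst b)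
    simp only [map_one, show dfst A ε = 0 by simp] at h2
    exact (rel_unique H h2 (rel_zero_left H 1)).1
  have h3 : h = 1 - TrivSqZeroExt.inr (-TrivSqZeroExt.snd h) := by ext <;> simp [h1]
  refine ⟨-TrivSqZeroExt.snd h, ⟨t, c, h3 ▸ hR⟩, ?_⟩
  rintro a ⟨t', c', hR'⟩
  have h4 := congrArg TrivSqZeroExt.snd (rel_unique H hR hR').1
  simp only [TrivSqZeroExt.snd_sub, TrivSqZeroExt.snd_one, TrivSqZeroExt.snd_inr, zero_sub] at h4
  rw [h4, neg_neg]

/-- The coefficient: `p₊(ε) p₋(1)` has first coordinate `1 - a ε`. -/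
def coef {A : Type u} [CommRing A] (b : Spec (CommRingCat.of A) ⟶ S) : A := (exists_coef H b).exists.choose

theorem coef_spec {A : Type u} [CommRing A] (b : Spec (CommRingCat.of A) ⟶ S) :
    ∃ (t : Over.mk (dbase b) ⟶ T) (c : A[ε]),
      Rel i pp pm (dbase b) ε 1 (1 - TrivSqZeroExt.inr (coef H b)) t c :=
  (exists_coef H b).exists.choose_spec

theorem coef_res {A B : Type u} [CommRing A] [CommRing B] {b : Spec (CommRingCat.of A) ⟶ S}
    {b' : Spec (CommRingCat.of B) ⟶ S} (φ : A →+* B) (hb : Spec.map (CommRingCat.ofHom φ) ≫ b = b') :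
    coef H b' = φ (coef H b) := by
  obtain ⟨t, c, h⟩ := coef_spec H b
  have h1 := rel_res H h (dmap φ 1) (dbase_dmap φ hb 1)
  rw [map_one, dmap_eps, show dmap φ 1 (1 - TrivSqZeroExt.inr (coef H b)) = 1 - TrivSqZeroExt.inr (φ (coef H b)) by
    ext <;> simp [dmap]] at h1
  exact (exists_coef H b').unique (coef_spec H b') ⟨_, _, by simpa using h1⟩

/-- The first coordinate of `p₊(u) p₋(1)` does not vanish. -/
theorem not_rel_zero_left {A : Type u} [CommRing A] [Nontrivial A] {b : Spec (CommRingCat.of A) ⟶ S} {u c : A}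
    {t : Over.mk b ⟶ T} : ¬ Rel i pp pm b u 1 0 t c := by
  intro h
  have h1 : Rel i pp pm b 0 1 0 t (((chr α b t)⁻¹ : Aˣ) * -u + c) := by
    unfold Rel at h ⊢
    rw [m_zero H, _root_.one_mul] at h
    rw [p_zero H, m_zero H, _root_.one_mul, _root_.one_mul, p_add H, ← _root_.mul_assoc, ← p_mul H,
      _root_.mul_assoc, ← h, ← _root_.mul_assoc, ← p_add H, neg_add_cancel, p_zero H, _root_.one_mul]
  exact zero_ne_one (rel_unique H h1 (rel_zero_left H 1)).1

theorem not_rel_zero_right {A : Type u} [CommRing A] [Nontrivial A] {b : Spec (CommRingCat.of A) ⟶ S} {u a : A}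
    {t : Over.mk b ⟶ T} : ¬ Rel i pp pm b 1 u a t 0 := by
  intro h
  have h1 : Rel i pp pm b 1 0 (a + ((chr α b t)⁻¹ : Aˣ) * -u) t 0 := by
    unfold Rel at h ⊢
    rw [p_zero H, _root_.mul_one] at h
    rw [p_zero H, m_zero H, _root_.mul_one, _root_.mul_one, m_add H, _root_.mul_assoc, ← conj_m H,
      ← _root_.mul_assoc, ← h, _root_.mul_assoc, ← m_add H, add_neg_cancel, m_zero H, _root_.mul_one]
  exact zero_ne_one (rel_unique H h1 (rel_zero_right H 1)).2.2

/-- Over algebraically closed fields `p₊(u) p₋(1)` is in the cell iff `1 + a u ≠ 0`. -/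
theorem field_good {K : Type u} [Field K] [IsAlgClosed K] (b : Spec (CommRingCat.of K) ⟶ S) :
    (∀ u : K, Good i pp pm b u 1 ↔ 1 + coef H b * u ≠ 0) ∧
      ∀ (u h c : K) (t : Over.mk b ⟶ T), Rel i pp pm b u 1 h t c → h * (1 + coef H b * u) = 1 := by
  classical
  let bX : Spec (CommRingCat.of K[X]) ⟶ S := Spec.map (CommRingCat.ofHom (Polynomial.C : K →+* K[X])) ≫ b
  obtain ⟨I, hI⟩ := exists_good_locus H bX Polynomial.X 1
  have key : ∀ v : K, Good i pp pm b v 1 ↔ ¬ I ≤ RingHom.ker (Polynomial.evalRingHom v) := fun v => by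
    have := hI K (Polynomial.evalRingHom v) b (base_comp Polynomial.C _ rfl (base_id b _ (RingHom.ext fun r => by simp)))
    simpa using this
  obtain ⟨p, hpI, hp⟩ := SetLike.not_le_iff_exists.mp ((key 0).mp ⟨_, _, _, rel_zero_left H 1⟩)
  let Fs : Set K := {u | ¬ Good i pp pm b u 1}
  have hFfin : Fs.Finite := (p.roots.toFinset.finite_toSet).subset fun u hu => by
    have h1 : I ≤ RingHom.ker (Polynomial.evalRingHom u) := not_not.mp fun hn => hu ((key u).mpr hn)
    have hp0 : p ≠ 0 := fun e => hp (by rw [e]; exact zero_mem _)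
    rw [Finset.mem_coe, Multiset.mem_toFinset, Polynomial.mem_roots hp0]
    exact h1 hpI
  let F : Finset K := hFfin.toFinset
  have hF : ∀ u, u ∈ F ↔ ¬ Good i pp pm b u 1 := fun u => Set.Finite.mem_toFinset hFfin
  let f : K[X] := ∏ r ∈ F, (Polynomial.X - Polynomial.C r)
  have hf : ∀ u, f.eval u ≠ 0 ↔ Good i pp pm b u 1 := fun u => by
    rw [Polynomial.eval_prod, Finset.prod_ne_zero_iff]
    simp only [Polynomial.eval_sub, Polynomial.eval_X, Polynomial.eval_C, sub_ne_zero]
    exact ⟨fun h => not_not.mp fun hn => h u ((hF u).mpr hn) rfl, fun h r hr e => (hF r).mp hr (e ▸ h)⟩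
  let bR : Spec (CommRingCat.of (Localization.Away f)) ⟶ S :=
    Spec.map (CommRingCat.ofHom (algebraMap K (Localization.Away f))) ≫ b
  let u₀ : Localization.Away f := algebraMap K[X] (Localization.Away f) Polynomial.X
  have hfu : IsUnit (algebraMap K[X] (Localization.Away f) f) := IsLocalization.Away.algebraMap_isUnit f
  have hgood : Good i pp pm bR u₀ 1 := good_of_maximal H _ _ fun m hm => by
    haveI := hm
    letI := Ideal.Quotient.field m
    haveI : Algebra.FiniteType K (Localization.Away f) :=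
      Algebra.FiniteType.trans (R := K) (S := K[X]) inferInstance
        (IsLocalization.finiteType_of_monoid_fg (Submonoid.powers f) _)
    haveI : IsJacobsonRing (Localization.Away f) := isJacobsonRing_of_finiteType (A := K)
    haveI : Module.Finite K (Localization.Away f ⧸ m) := finite_of_finite_type_of_isJacobsonRing K _
    haveI : Algebra.IsIntegral K (Localization.Away f ⧸ m) := Algebra.IsIntegral.of_finite K _
    have hbij : Function.Bijective (algebraMap K (Localization.Away f ⧸ m)) :=
      IsAlgClosed.algebraMap_bijective_of_isIntegral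
    obtain ⟨v, hv⟩ := hbij.2 (Ideal.Quotient.mk m u₀)
    have hcomp : ∀ g : K[X], algebraMap K (Localization.Away f ⧸ m) (g.eval v) =
        Ideal.Quotient.mk m (algebraMap K[X] (Localization.Away f) g) := fun g => by
      have e : ((algebraMap K (Localization.Away f ⧸ m)).comp (Polynomial.evalRingHom v)) =
          (Ideal.Quotient.mk m).comp (algebraMap K[X] (Localization.Away f)) := Polynomial.ringHom_ext
        (fun r => by
          show algebraMap K _ ((Polynomial.C r).eval v) = _
          rw [Polynomial.eval_C, RingHom.comp_apply, ← Polynomial.algebraMap_eq,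
            ← IsScalarTower.algebraMap_apply]
          rfl)
        (by simpa [u₀] using hv)
      exact RingHom.congr_fun e g
    have hfv : f.eval v ≠ 0 := fun h0 => by
      have := hfu.map (Ideal.Quotient.mk m)
      rw [← hcomp, h0, map_zero] at this
      exact this.ne_zero rfl
    obtain ⟨a, t, c, hR⟩ := (hf v).mp hfv
    have h1 := rel_res H hR (algebraMap K (Localization.Away f ⧸ m))
      (b' := Spec.map (CommRingCat.ofHom (Ideal.Quotient.mk m)) ≫ bR)
      (base_comp (algebraMap K (Localization.Away f)) (Ideal.Quotient.mk m) rfl rfl).symm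
    rw [hv, map_one] at h1
    exact ⟨_, _, _, by simpa using h1⟩
  obtain ⟨hu, tu, cu, hRu⟩ := hgood
  obtain ⟨⟨P, ⟨_, n, rfl⟩⟩, hP⟩ := IsLocalization.surj (Submonoid.powers f) hu
  simp only [map_pow] at hP
  have hspec : ∀ {B : Type u} [CommRing B] (φ : K →+* B) (v : B), IsUnit (f.eval₂ φ v) →
      ∀ (bB : Spec (CommRingCat.of B) ⟶ S), Spec.map (CommRingCat.ofHom φ) ≫ b = bB →
      ∃ (σ : Localization.Away f →+* B) (t : Over.mk bB ⟶ T) (c : B),
        Rel i pp pm bB v 1 (σ hu) t c ∧ σ hu * f.eval₂ φ v ^ n = P.eval₂ φ v := by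
    intro B _ φ v hv bB hb
    let σ : Localization.Away f →+* B := IsLocalization.Away.lift f (g := Polynomial.eval₂RingHom φ v) hv
    have hσ : ∀ g : K[X], σ (algebraMap K[X] _ g) = g.eval₂ φ v := fun g =>
      IsLocalization.Away.lift_eq f hv g
    have hb' : Spec.map (CommRingCat.ofHom σ) ≫ bR = bB := by
      refine base_comp (algebraMap K (Localization.Away f)) σ rfl ?_
      rw [show σ.comp (algebraMap K (Localization.Away f)) = φ from RingHom.ext fun r => by
        rw [RingHom.comp_apply, IsScalarTower.algebraMap_apply K K[X] (Localization.Away f), hσ]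
        simp, hb]
    have h1 := rel_res H hRu σ hb'
    simp only [map_one, u₀, hσ, Polynomial.eval₂_X] at h1
    refine ⟨σ, _, _, h1, ?_⟩
    rw [← hσ, ← hσ, ← map_pow, ← map_mul, hP]
  have hval : ∀ (u h c : K) (t : Over.mk b ⟶ T), Rel i pp pm b u 1 h t c → h * f.eval u ^ n = P.eval u := by
    intro u h c t hR
    obtain ⟨σ, t', c', h1, h2⟩ := hspec (RingHom.id K) u (isUnit_iff_ne_zero.mpr ((hf u).mpr ⟨_, _, _, hR⟩)) b
      (base_id b _ rfl)
    rw [(rel_unique H hR h1).1]
    exact h2
  have hstep : ∀ r ∈ F, ∀ (u h c : K) (t : Over.mk b ⟶ T), Rel i pp pm b u 1 h t c →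
      r / h + u ∈ F ∧ h ≠ 0 := by
    intro r hr u h c t hR
    have hh : h ≠ 0 := fun e => not_rel_zero_left H (e ▸ hR)
    refine ⟨(hF _).mpr fun hg => (hF r).mp hr ?_, hh⟩
    have h1 := good_scale H (good_of_left H hR hg) (Units.mk0 h hh)
    simpa [mul_div_cancel₀ _ hh, inv_mul_cancel₀ hh] using h1
  -- the coefficient, read off from the rational function
  have hcoef : ∀ (r s : K), P * (Polynomial.C r + Polynomial.C s * Polynomial.X) = Polynomial.C r * f ^ n →
      s = r * coef H b := by
    intro r s he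
    obtain ⟨t₁, c₁, hc₁⟩ := coef_spec H b
    have hunit : IsUnit (f.eval₂ (dinl K) (ε : K[ε])) := by
      rw [TrivSqZeroExt.isUnit_iff_isUnit_fst]
      have e : TrivSqZeroExt.fst (f.eval₂ (dinl K) (ε : K[ε])) = f.eval 0 := by
        show dfst K _ = _
        rw [Polynomial.hom_eval₂]
        simp [show (dfst K).comp (dinl K) = RingHom.id K from RingHom.ext fun r => by simp, Polynomial.coeff_zero_eq_eval_zero]
      rw [e, isUnit_iff_ne_zero]
      exact (hf 0).mpr ⟨_, _, _, rel_zero_left H 1⟩
    obtain ⟨σ, t', c', h1, h2⟩ := hspec (dinl K) ε hunit (dbase b) rfl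
    have e1 := congrArg (Polynomial.eval₂ (dinl K) (ε : K[ε])) he
    simp only [Polynomial.eval₂_mul, Polynomial.eval₂_add, Polynomial.eval₂_C, Polynomial.eval₂_X,
      Polynomial.eval₂_pow, ← h2, (rel_unique H h1 hc₁).1] at e1
    rw [_root_.mul_assoc, _root_.mul_comm (f.eval₂ _ _ ^ n), ← _root_.mul_assoc] at e1
    have e2 := congrArg TrivSqZeroExt.snd ((hunit.pow n).mul_right_cancel e1)
    simp at e2
    linear_combination e2
  rcases F.eq_empty_or_nonempty with hemp | ⟨r, hr⟩
  · have hall : ∀ u, Good i pp pm b u 1 := fun u => not_not.mp fun hn => by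
      have := (hF u).mpr hn
      simp [hemp] at this
    have hf1 : f = 1 := by simp [f, hemp]
    have hPne : ∀ u, P.eval u ≠ 0 := fun u => by
      obtain ⟨h, t, c, hR⟩ := hall u
      rw [← hval u h c t hR, hf1]
      simpa using fun e : h = 0 => not_rel_zero_left H (e ▸ hR)
    have hdeg : P.degree ≤ 0 := by
      by_contra hd
      obtain ⟨u, hu⟩ := IsAlgClosed.exists_root P (ne_of_gt (not_le.mp hd))
      exact hPne u hu
    have hP1 : P = 1 := by
      rw [Polynomial.eq_C_of_degree_le_zero hdeg, ← Polynomial.C_1]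
      congr 1
      rw [Polynomial.coeff_zero_eq_eval_zero, ← hval 0 1 0 1 (rel_zero_left H 1), hf1]
      simp
    have ha : (0 : K) = 1 * coef H b := hcoef 1 0 (by simp [hP1, hf1])
    rw [_root_.one_mul] at ha
    refine ⟨fun u => by simp [← ha, hall u], fun u h c t hR => ?_⟩
    have := hval u h c t hR
    rw [hP1, hf1] at this
    simp only [Polynomial.eval_one, one_pow, _root_.mul_one] at this
    simp [this, ← ha]
  · have hinf : {u : K | u ∉ F}.Infinite := F.finite_toSet.infinite_compl
    obtain ⟨r', hr', hrinf⟩ : ∃ r' ∈ F, {u : K | P.eval u * (r' - u) = r * f.eval u ^ n}.Infinite := by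
      by_contra! hall
      refine hinf ((F.finite_toSet.biUnion fun r' hr' => hall r' hr').subset fun u hu => ?_)
      obtain ⟨h, t, c, hR⟩ : Good i pp pm b u 1 := not_not.mp fun hn => hu ((hF u).mpr hn)
      obtain ⟨h1, h2⟩ := hstep r hr u h c t hR
      refine Set.mem_biUnion (Finset.mem_coe.mpr h1) ?_
      show P.eval u * _ = _
      rw [← hval u h c t hR]
      field_simp
      ring
    have hid : P * (Polynomial.C r' - Polynomial.X) = Polynomial.C r * f ^ n :=
      Polynomial.eq_of_infinite_eval_eq _ _ (hrinf.mono fun u hu => by simpa using hu)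
    have heq : ∀ (u h c : K) (t : Over.mk b ⟶ T), Rel i pp pm b u 1 h t c → h * (r' - u) = r := by
      intro u h c t hR
      have h1 := congrArg (Polynomial.eval u) hid
      simp only [Polynomial.eval_mul, Polynomial.eval_sub, Polynomial.eval_C, Polynomial.eval_X,
        Polynomial.eval_pow, ← hval u h c t hR] at h1
      exact mul_right_cancel₀ (pow_ne_zero n ((hf u).mpr ⟨_, _, _, hR⟩)) (by linear_combination h1)
    obtain rfl : r' = r := by simpa using heq 0 1 0 1 (rel_zero_left H 1)
    have hr0 : r' ≠ 0 := fun e => (hF r').mp hr (e ▸ ⟨_, _, _, rel_zero_left H 1⟩)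
    have hsub : ∀ s ∈ F, s = r' := by
      intro s hs
      obtain ⟨u, hu, hu0⟩ := (hinf.sdiff (Set.finite_singleton 0)).nonempty
      have hu0' : u ≠ 0 := hu0
      obtain ⟨h, t, c, hR⟩ : Good i pp pm b u 1 := not_not.mp fun hn => hu ((hF u).mpr hn)
      by_contra hne
      -- the value attached to `s` is also linear
      have hinf' := hinf
      obtain ⟨s', hs', hsinf⟩ : ∃ s' ∈ F, {v : K | P.eval v * (s' - v) = s * f.eval v ^ n}.Infinite := by
        by_contra! hall
        refine hinf' ((F.finite_toSet.biUnion fun s' hs' => hall s' hs').subset fun v hv => ?_)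
        obtain ⟨h', t', c', hR'⟩ : Good i pp pm b v 1 := not_not.mp fun hn => hv ((hF v).mpr hn)
        obtain ⟨h1, h2⟩ := hstep s hs v h' c' t' hR'
        refine Set.mem_biUnion (Finset.mem_coe.mpr h1) ?_
        show P.eval v * _ = _
        rw [← hval v h' c' t' hR']
        field_simp
        ring
      have hid' : P * (Polynomial.C s' - Polynomial.X) = Polynomial.C s * f ^ n :=
        Polynomial.eq_of_infinite_eval_eq _ _ (hsinf.mono fun v hv => by simpa using hv)
      have heq' : ∀ (v h c : K) (t : Over.mk b ⟶ T), Rel i pp pm b v 1 h t c → h * (s' - v) = s := by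
        intro v h c t hR
        have h1 := congrArg (Polynomial.eval v) hid'
        simp only [Polynomial.eval_mul, Polynomial.eval_sub, Polynomial.eval_C, Polynomial.eval_X,
          Polynomial.eval_pow, ← hval v h c t hR] at h1
        exact mul_right_cancel₀ (pow_ne_zero n ((hf v).mpr ⟨_, _, _, hR⟩)) (by linear_combination h1)
      obtain rfl : s' = s := by simpa using heq' 0 1 0 1 (rel_zero_left H 1)
      have hA := heq u h c t hR
      have hB := heq' u h c t hR
      have : u * (s' - r') = 0 := by exact (mul_left_cancel₀ (fun e => not_rel_zero_left H (e ▸ hR) : h ≠ 0) (by linear_combination (r' : K) * hB - s' * hA))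
      exact (mul_ne_zero hu0' (sub_ne_zero.mpr hne)) this
    have ha : (-1 : K) = r' * coef H b := hcoef r' (-1) (by simpa [sub_eq_add_neg] using hid)
    have hlin : ∀ u, 1 + coef H b * u = (r' - u) / r' := fun u => by
      rw [eq_div_iff hr0]
      linear_combination (-u) * ha
    refine ⟨fun u => ?_, fun u h c t hR => ?_⟩
    · rw [hlin, div_ne_zero_iff, and_iff_left hr0, sub_ne_zero]
      exact ⟨fun hg e => (hF r').mp hr (e ▸ hg), fun hne => not_not.mp fun hn => hne (hsub u ((hF u).mpr hn)).symm⟩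
    · rw [hlin, ← mul_div_assoc, heq u h c t hR, div_self hr0]

end Groth.Agent.GrpSchLib.RankOneComm
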