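import Groth.Agent.GrpSchLib.RankOneCommField
import Mathlib.RingTheory.Polynomial.Nilpotent

/-! The commutation formula of two opposite root groups which do not commute. -/

set_option autoImplicit false
set_option linter.style.haveILetI false
set_option backward.isDefEq.respectTransparency false

universe u

open CategoryTheory CategoryTheory.Limits AlgebraicGeometry MonoidalCategory CartesianMonoidalCategory
open scoped MonObj Polynomial DualNumber

noncomputable section

namespace Groth.Agent.GrpSchLib.RankOneComm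

variable {S : Scheme.{u}}

/-- A property tested at maximal ideals, over algebraically closed fields. -/
theorem isUnit_of_geom {A : Type u} [CommRing A] (x : A)
    (h : ∀ (K : Type u) [Field K] [IsAlgClosed K] (φ : A →+* K), φ x ≠ 0) : IsUnit x := by
  by_contra hx
  obtain ⟨m, hm, hxm⟩ := exists_max_ideal_of_mem_nonunits hx
  haveI := hm
  letI := Ideal.Quotient.field m
  exact h (AlgebraicClosure (A ⧸ m)) ((algebraMap (A ⧸ m) _).comp (Ideal.Quotient.mk m))
    (by rw [RingHom.comp_apply, Ideal.Quotient.eq_zero_iff_mem.mpr hxm, map_zero])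

theorem res_comp {A B C : Type u} [CommRing A] [CommRing B] [CommRing C] {b : Spec (CommRingCat.of A) ⟶ S}
    {b' : Spec (CommRingCat.of B) ⟶ S} {b'' : Spec (CommRingCat.of C) ⟶ S} (φ : A →+* B) (ψ : B →+* C)
    (hb : Spec.map (CommRingCat.ofHom φ) ≫ b = b') (hb' : Spec.map (CommRingCat.ofHom ψ) ≫ b' = b'')
    (hb'' : Spec.map (CommRingCat.ofHom (ψ.comp φ)) ≫ b = b'') :
    res ψ hb' ≫ res φ hb = res (ψ.comp φ) hb'' := by
  ext1
  show Spec.map _ ≫ Spec.map _ = Spec.map _
  rw [← Spec.map_comp, ← CommRingCat.ofHom_comp]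

theorem res_id {A : Type u} [CommRing A] {b : Spec (CommRingCat.of A) ⟶ S} (φ : A →+* A) (h : φ = RingHom.id A)
    (hb : Spec.map (CommRingCat.ofHom φ) ≫ b = b) : res φ hb = 𝟙 (Over.mk b) := by
  subst h
  ext1
  show Spec.map _ = _
  simp

theorem res_congr {A B : Type u} [CommRing A] [CommRing B] {b : Spec (CommRingCat.of A) ⟶ S}
    {b' : Spec (CommRingCat.of B) ⟶ S} {φ ψ : A →+* B} (h : φ = ψ)
    (hb : Spec.map (CommRingCat.ofHom φ) ≫ b = b') (hb' : Spec.map (CommRingCat.ofHom ψ) ≫ b = b') :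
    res φ hb = res ψ hb' := by
  subst h
  rfl

variable {G T : Over S} [GrpObj G] [GrpObj T] {i : T ⟶ G} {α : T ⟶ Red.Gm S} {pp pm : Red.Ga S ⟶ G}
  (H : Hyp i α pp pm)
include H

/-- Over an algebraically closed field, the root groups commute if the coefficient vanishes. -/
theorem comm_of_coef_eq_zero {K : Type u} [Field K] [IsAlgClosed K] (b : Spec (CommRingCat.of K) ⟶ S)
    (h0 : coef H b = 0) {C : Type u} [CommRing C] (φ : K →+* C) (bC : Spec (CommRingCat.of C) ⟶ S)
    (hb : Spec.map (CommRingCat.ofHom φ) ≫ b = bC) (x y : C) :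
    (pt bC x ≫ pp) * (pt bC y ≫ pm) = (pt bC y ≫ pm) * (pt bC x ≫ pp) := by
  classical
  obtain ⟨hgood, hformula⟩ := field_good H b
  have hall : ∀ u, Good i pp pm b u 1 := fun u => (hgood u).mpr (by simp [h0])
  have hone : ∀ (u h c : K) (t : Over.mk b ⟶ T), Rel i pp pm b u 1 h t c → h = 1 := fun u h c t hR => by
    simpa [h0] using hformula u h c t hR
  -- the coordinates at rational points
  have hpts : ∀ u v : K, ∃ (t : Over.mk b ⟶ T) (c : K), Rel i pp pm b u v v t c := by
    intro u v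
    by_cases hv : v = 0
    · subst hv
      exact ⟨_, _, rel_zero_right H u⟩
    obtain ⟨h, t, c, hR⟩ := hall (u * v)
    rw [hone _ _ _ _ hR] at hR
    have := rel_scale H hR (Units.mk0 v hv)⁻¹
    simp only [inv_inv, Units.val_mk0, _root_.mul_one, Units.val_inv_eq_inv_val, inv_inv] at this
    rw [_root_.mul_comm u v, inv_mul_cancel_left₀ hv] at this
    exact ⟨_, _, this⟩
  have hinv : ∀ u : K, Good i pp pm b 1 u := fun u => let ⟨t, c, h⟩ := hpts 1 u; ⟨_, _, _, h⟩
  -- the second coordinate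
  let bX : Spec (CommRingCat.of K[X]) ⟶ S := Spec.map (CommRingCat.ofHom (Polynomial.C : K →+* K[X])) ≫ b
  have hclosed : ∀ (R : Type u) [CommRing R] (em : K →+* R) (bR : Spec (CommRingCat.of R) ⟶ S)
      (_ : Spec.map (CommRingCat.ofHom em) ≫ b = bR) (_ : em.FiniteType) (u v : R), Good i pp pm bR u v := by
    intro R _ em bR hbR hft u v
    letI := em.toAlgebra
    haveI : Algebra.FiniteType K R := hft
    refine good_of_maximal H _ _ fun m hm => ?_
    haveI := hm
    letI := Ideal.Quotient.field m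
    haveI : IsJacobsonRing R := isJacobsonRing_of_finiteType (A := K)
    haveI : Module.Finite K (R ⧸ m) := finite_of_finite_type_of_isJacobsonRing K _
    haveI : Algebra.IsIntegral K (R ⧸ m) := Algebra.IsIntegral.of_finite K _
    have hbij : Function.Bijective (algebraMap K (R ⧸ m)) := IsAlgClosed.algebraMap_bijective_of_isIntegral
    obtain ⟨u₀, hu₀⟩ := hbij.2 (Ideal.Quotient.mk m u)
    obtain ⟨v₀, hv₀⟩ := hbij.2 (Ideal.Quotient.mk m v)
    obtain ⟨t, c, hR⟩ := hpts u₀ v₀
    have h1 := rel_res H hR (algebraMap K (R ⧸ m)) (b' := Spec.map (CommRingCat.ofHom (Ideal.Quotient.mk m)) ≫ bR)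
      (base_comp em (Ideal.Quotient.mk m) hbR rfl).symm
    rw [hu₀, hv₀] at h1
    exact ⟨_, _, _, h1⟩
  obtain ⟨a₁, t₁, k, hk⟩ := hclosed K[X] Polynomial.C bX rfl
    (RingHom.finiteType_algebraMap.mpr (inferInstanceAs (Algebra.FiniteType K K[X]))) 1 Polynomial.X
  have heval : ∀ v : K, Spec.map (CommRingCat.ofHom (Polynomial.evalRingHom v)) ≫ bX = b := fun v =>
    base_comp Polynomial.C _ rfl (base_id b _ (RingHom.ext fun r => by simp))
  have hk' : k = 1 := by
    have hne : ∀ v, k.eval v ≠ 0 := fun v e => by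
      have h1 := rel_res H hk (Polynomial.evalRingHom v) (heval v)
      simp only [Polynomial.coe_evalRingHom, Polynomial.eval_one, e] at h1
      exact not_rel_zero_right H h1
    have hdeg : k.degree ≤ 0 := by
      by_contra hd
      obtain ⟨v, hv⟩ := IsAlgClosed.exists_root k (ne_of_gt (not_le.mp hd))
      exact hne v hv
    have h1 := rel_res H hk (Polynomial.evalRingHom 0) (heval 0)
    simp only [Polynomial.coe_evalRingHom, Polynomial.eval_one, Polynomial.eval_X] at h1
    rw [Polynomial.eq_C_of_degree_le_zero hdeg, Polynomial.coeff_zero_eq_eval_zero,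
      (rel_unique H h1 (rel_zero_right H 1)).2.2, Polynomial.C_1]
  have hpts' : ∀ u v : K, ∀ (a c : K) (t : Over.mk b ⟶ T), Rel i pp pm b u v a t c → a = v ∧ c = u := by
    intro u v a c t hR
    obtain ⟨t', c', h'⟩ := hpts u v
    refine ⟨(rel_unique H hR h').1, ?_⟩
    by_cases hu : u = 0
    · subst hu
      exact (rel_unique H hR (rel_zero_left H v)).2.2
    have h1 := rel_res H hk (Polynomial.evalRingHom (u * v)) (heval _)
    simp only [Polynomial.coe_evalRingHom, Polynomial.eval_one, Polynomial.eval_X, hk'] at h1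
    have h2 := rel_scale H h1 (Units.mk0 u hu)
    simp only [Units.val_mk0, _root_.mul_one, Units.val_inv_eq_inv_val, inv_mul_cancel_left₀ hu] at h2
    exact (rel_unique H hR h2).2.2
  -- the universal product over the plane
  let em : K →+* K[X][X] := (Polynomial.C : K[X] →+* K[X][X]).comp Polynomial.C
  let b₂ : Spec (CommRingCat.of K[X][X]) ⟶ S := Spec.map (CommRingCat.ofHom em) ≫ b
  obtain ⟨a₂, t₂, c₂, hR₂⟩ := hclosed K[X][X] em b₂ rfl
    (RingHom.FiniteType.comp (RingHom.finiteType_algebraMap.mpr (inferInstanceAs (Algebra.FiniteType K[X] K[X][X])))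
      (RingHom.finiteType_algebraMap.mpr (inferInstanceAs (Algebra.FiniteType K K[X]))))
    (Polynomial.C Polynomial.X) Polynomial.X
  have hfun : ∀ p : K[X][X], (∀ u v : K, (p.eval (Polynomial.C v)).eval u = 0) → p = 0 := fun p hp => by
    refine Polynomial.eq_zero_of_infinite_isRoot _ ((Set.infinite_range_of_injective Polynomial.C_injective).mono ?_)
    rintro _ ⟨v, rfl⟩
    exact Polynomial.funext fun u => (hp u v).trans Polynomial.eval_zero.symm
  let ev : K → K → (K[X][X] →+* K) := fun u v => (Polynomial.evalRingHom u).comp (Polynomial.evalRingHom (Polynomial.C v))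
  have hev : ∀ u v, Spec.map (CommRingCat.ofHom (ev u v)) ≫ b₂ = b := fun u v =>
    base_comp em _ rfl (base_id b _ (RingHom.ext fun r => by simp [ev, em]))
  have hac : ∀ u v, ev u v a₂ = v ∧ ev u v c₂ = u := fun u v => by
    have h1 := rel_res H hR₂ (ev u v) (hev u v)
    rw [show ev u v (Polynomial.C Polynomial.X) = u by simp [ev],
      show ev u v Polynomial.X = v by simp [ev]] at h1
    exact hpts' u v _ _ _ h1
  have ha₂ : a₂ = Polynomial.X := sub_eq_zero.mp (hfun _ fun u v => by
    simpa [ev, sub_eq_zero] using (hac u v).1)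
  have hc₂ : c₂ = Polynomial.C Polynomial.X := sub_eq_zero.mp (hfun _ fun u v => by
    simpa [ev, sub_eq_zero] using (hac u v).2)
  have ht₂ : t₂ = 1 := by
    haveI : IsAffineHom T.hom :=
      MultConjLib.isAffineHom_of_locDS (MultConjLib.isLocDS_of_multTypeFT (RankOne.isMultTypeFT_of_isTorus H.hT))
    obtain ⟨S', f, -, hs, -, hloc⟩ := H.hT
    obtain ⟨s', hs'⟩ := f.surjective (b (IsLocalRing.closedPoint K))
    obtain ⟨z, hz, -⟩ := Scheme.Pullback.exists_preimage_pullback (f := f) (g := b) s' (IsLocalRing.closedPoint K) hs'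
    let κ := (pullback f b).residueField z
    let e : Spec (CommRingCat.of κ) ⟶ pullback f b := (pullback f b).fromSpecResidueField z
    let θ : K →+* κ := (Spec.preimage (e ≫ pullback.snd f b)).hom
    have hθ : Spec.map (CommRingCat.ofHom θ) = e ≫ pullback.snd f b := by
      rw [CommRingCat.ofHom_hom, Spec.map_preimage]
    obtain ⟨U, hU, r, ⟨eiso⟩⟩ := hloc s'
    have hrange : Set.range (e ≫ pullback.fst f b) ⊆ Set.range U.ι := by
      rintro _ ⟨x, rfl⟩
      rw [Scheme.Opens.range_ι]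
      show pullback.fst f b (e x) ∈ (U : Set S')
      rw [show e x = z by
        have hm : e x ∈ Set.range ((pullback f b).fromSpecResidueField z) := ⟨x, rfl⟩
        rwa [Scheme.range_fromSpecResidueField, Set.mem_singleton_iff] at hm, hz]
      exact hU
    let j : Spec (CommRingCat.of κ) ⟶ (U : Scheme.{u}) := IsOpenImmersion.lift U.ι (e ≫ pullback.fst f b) hrange
    have hj : j ≫ U.ι ≫ f = Spec.map (CommRingCat.ofHom θ) ≫ b := by
      rw [hθ, ← Category.assoc, IsOpenImmersion.lift_fac, Category.assoc, Category.assoc, pullback.condition]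
    let ψ := eiso.hom.hom.hom
    haveI : IsMonHom ψ := eiso.hom.hom.isMonHom_hom
    haveI : IsIso ψ := ((Grp.forget _).mapIso eiso).isIso_hom
    let emk : κ →+* κ[X][X] := (Polynomial.C : κ[X] →+* κ[X][X]).comp Polynomial.C
    let θ₂ : K[X][X] →+* κ[X][X] := Polynomial.mapRingHom (Polynomial.mapRingHom θ)
    let jP : Spec (CommRingCat.of κ[X][X]) ⟶ (U : Scheme.{u}) := Spec.map (CommRingCat.ofHom emk) ≫ j
    have hcompθ : θ₂.comp em = emk.comp θ := RingHom.ext fun r => by simp [θ₂, em, emk]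
    have hθ₂ : Spec.map (CommRingCat.ofHom θ₂) ≫ b₂ = jP ≫ U.ι ≫ f := by
      refine base_comp em θ₂ rfl ?_
      rw [hcompθ, CommRingCat.ofHom_comp, Spec.map_comp, Category.assoc, ← hj]
      simp [jP]
    refine RankOne.eq_of_injective (A := CommRingCat.of K[X][X]) (B := CommRingCat.of κ[X][X]) θ₂ hθ₂
      (Polynomial.map_injective _ (Polynomial.map_injective _ θ.injective)) ?_
    show res θ₂ hθ₂ ≫ t₂ = res θ₂ hθ₂ ≫ 1
    obtain ⟨f₂, hf₂⟩ := RankOne.exists_eq_splitPt (U.ι ≫ f) ψ jP (res θ₂ hθ₂ ≫ t₂)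
    -- evaluation at the origin
    let ρ : κ[X][X] →+* κ[X][X] :=
      emk.comp ((Polynomial.evalRingHom (0 : κ)).comp (Polynomial.evalRingHom (0 : κ[X])))
    have hρ : Spec.map (CommRingCat.ofHom ρ) ≫ jP = jP := by
      rw [← Category.assoc, ← Spec.map_comp, ← CommRingCat.ofHom_comp,
        show ρ.comp emk = emk from RingHom.ext fun r => by simp [ρ, emk]]
    have hρ' : Spec.map (CommRingCat.ofHom ρ) ≫ (jP ≫ U.ι ≫ f) = jP ≫ U.ι ≫ f := by rw [← Category.assoc, hρ]
    have hfix : ρ.comp f₂ = f₂ := MonoidAlgebra.ringHom_ext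
      (fun n => RingHom.congr_fun (DSPtsLib.ulift_ringHom_ext
        ((ρ.comp f₂).comp MonoidAlgebra.singleOneRingHom) (f₂.comp MonoidAlgebra.singleOneRingHom)) n)
      (fun n => by
        have hu : IsUnit (f₂ (MonoidAlgebra.single n 1)) := IsUnit.map f₂
          ⟨⟨MonoidAlgebra.single n 1, MonoidAlgebra.single n⁻¹ 1, by simp [MonoidAlgebra.single_mul_single, MonoidAlgebra.one_def],
            by simp [MonoidAlgebra.single_mul_single, MonoidAlgebra.one_def]⟩, rfl⟩
        obtain ⟨p, hp, hpe⟩ := Polynomial.isUnit_iff.mp hu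
        obtain ⟨r, -, hre⟩ := Polynomial.isUnit_iff.mp hp
        show ρ (f₂ _) = _
        rw [← hpe, ← hre]
        simp [ρ, emk])
    have h1 : res ρ hρ' ≫ (res θ₂ hθ₂ ≫ t₂) = res θ₂ hθ₂ ≫ t₂ := by
      rw [hf₂]
      exact (RankOne.splitPt_comp (U.ι ≫ f) ψ jP ρ jP hρ f₂ hρ').trans (congrArg (RankOne.splitPt _ ψ jP) hfix)
    rw [MonObj.comp_one]
    refine h1.symm.trans ?_
    refine (Category.assoc _ _ _).symm.trans ?_
    have hbase : Spec.map (CommRingCat.ofHom (emk.comp θ)) ≫ b = jP ≫ U.ι ≫ f := by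
      rw [CommRingCat.ofHom_comp, Spec.map_comp, Category.assoc, ← hj]
      simp only [jP, Category.assoc]
    have h2 : res ρ hρ' ≫ res θ₂ hθ₂ =
        res (emk.comp θ) hbase ≫
          res (ev 0 0) (hev 0 0) := by
      ext1
      show Spec.map _ ≫ Spec.map _ = Spec.map _ ≫ Spec.map _
      rw [← Spec.map_comp, ← Spec.map_comp, ← CommRingCat.ofHom_comp, ← CommRingCat.ofHom_comp]
      congr 2
      refine Polynomial.ringHom_ext (fun q => ?_) (by simp [ρ, emk, θ₂, ev, em])
      show ρ (θ₂ (Polynomial.C q)) = emk (θ (ev 0 0 (Polynomial.C q)))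
      simp [ρ, emk, θ₂, ev, Polynomial.eval_map, Polynomial.coeff_zero_eq_eval_zero]
    rw [h2]
    refine (Category.assoc _ _ _).trans ?_
    have h3 := rel_res H hR₂ (ev 0 0) (hev 0 0)
    rw [show ev 0 0 (Polynomial.C Polynomial.X) = 0 by simp [ev]] at h3
    exact (congrArg (res (emk.comp θ) hbase ≫ ·) (rel_unique H h3 (rel_zero_left H _)).2.1).trans (MonObj.comp_one _)
  rw [ha₂, hc₂, ht₂] at hR₂
  -- specialisation
  let σ : K[X][X] →+* C := Polynomial.eval₂RingHom (Polynomial.eval₂RingHom φ x) y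
  have hσ : Spec.map (CommRingCat.ofHom σ) ≫ b₂ = bC := base_comp em σ rfl (by
    rw [show σ.comp em = φ from RingHom.ext fun r => by simp [σ, em], hb])
  have h1 := rel_res H hR₂ σ hσ
  rw [show σ (Polynomial.C Polynomial.X) = x by simp [σ], show σ Polynomial.X = y by simp [σ], MonObj.comp_one] at h1
  rw [Rel, i_one H, _root_.mul_one] at h1
  exact h1

section Formula

variable (hu : ∀ (A : Type u) [CommRing A] (b : Spec (CommRingCat.of A) ⟶ S), IsUnit (coef H b))

/-- `p₊(x) p₋(y)` lies in the cell iff `1 + a x y` is invertible. -/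
theorem good_iff {A : Type u} [CommRing A] (b : Spec (CommRingCat.of A) ⟶ S) (x y : A) :
    Good i pp pm b x y ↔ IsUnit (1 + coef H b * x * y) := by
  have key : ∀ (K : Type u) [Field K] [IsAlgClosed K] (φ : A →+* K) (b' : Spec (CommRingCat.of K) ⟶ S),
      Spec.map (CommRingCat.ofHom φ) ≫ b = b' → (Good i pp pm b' (φ x) (φ y) ↔ φ (1 + coef H b * x * y) ≠ 0) := by
    intro K _ _ φ b' hb
    rw [map_add, map_one, map_mul, map_mul, ← coef_res H φ hb]
    by_cases hy : φ y = 0
    · rw [hy, mul_zero, add_zero]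
      exact ⟨fun _ => one_ne_zero, fun _ => ⟨_, _, _, rel_zero_right H _⟩⟩
    rw [show coef H b' * φ x * φ y = coef H b' * (φ x * φ y) by ring, ← (field_good H b').1]
    constructor
    · intro h
      have := good_scale H h (Units.mk0 (φ y) hy)
      simpa [_root_.mul_comm, hy] using this
    · intro h
      have := good_scale H h (Units.mk0 (φ y) hy)⁻¹
      simpa [_root_.mul_comm (φ x), hy, inv_mul_cancel_left₀] using this
  constructor
  · rintro ⟨a, t, c, h⟩
    exact isUnit_of_geom _ fun K _ _ φ => (key K φ _ rfl).mp ⟨_, _, _, rel_res H h φ rfl⟩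
  · intro h
    exact good_of_field H _ _ fun K _ _ φ => (key K φ _ rfl).mpr (h.map φ).ne_zero

include hu in
theorem rel_one_fst {A : Type u} [CommRing A] {b : Spec (CommRingCat.of A) ⟶ S} {u h c : A} {t : Over.mk b ⟶ T}
    (hR : Rel i pp pm b u 1 h t c) : h * (1 + coef H b * u) = 1 := by
  set a := coef H b with ha
  have hh : IsUnit h := isUnit_of_geom _ fun K _ _ φ => by
    have h1 := rel_res H hR φ rfl
    rw [map_one] at h1
    exact fun e => not_rel_zero_left H (e ▸ h1)
  obtain ⟨hv, rfl⟩ := hh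
  have hRε := rel_res H hR (dinl A) (b' := dbase b) rfl
  rw [map_one] at hRε
  obtain ⟨t₀, c₀, hcoef⟩ := coef_spec H b
  rw [← ha] at hcoef
  have hae : coef H (dbase b) = dinl A a := coef_res H (dinl A) rfl
  obtain ⟨h₁, t₁, c₁, h₁R⟩ : Good i pp pm (dbase b) (dinl A u + ε) 1 := by
    rw [good_iff H, TrivSqZeroExt.isUnit_iff_isUnit_fst, hae]
    have := (good_iff H b u 1).mp ⟨_, _, _, hR⟩
    rw [← ha] at this
    simpa using this
  have hfst : TrivSqZeroExt.fst h₁ = hv := by
    have h2 := rel_res H h₁R (dfst A) (dbase_fst b)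
    rw [map_one, show dfst A (dinl A u + ε) = u by simp] at h2
    exact (rel_unique H h2 hR).1
  -- moving by `u` after `ε`
  obtain ⟨tq, cq, hq⟩ : ∃ (tq : Over.mk (dbase b) ⟶ T) (cq : A[ε]),
      Rel i pp pm (dbase b) (dmap (RingHom.id A) (-a * u) (dinl A u + ε)) 1
        (dmap (RingHom.id A) (-a * u) h₁) tq cq := by
    have := rel_res H h₁R (dmap (RingHom.id A) (-a * u)) (dbase_dmap (RingHom.id A) (base_id b _ rfl) _)
    rw [map_one] at this
    exact ⟨_, _, this⟩
  let q : A[ε]ˣ := ⟨1 + TrivSqZeroExt.inr a, 1 - TrivSqZeroExt.inr a, by ext <;> simp, by ext <;> simp⟩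
  have hq2 := rel_scale H hq q
  rw [show (q : A[ε]) * dmap (RingHom.id A) (-a * u) (dinl A u + ε) = dinl A u by
      ext <;> simp [q, dmap] <;> ring,
    show ((q⁻¹ : A[ε]ˣ) : A[ε]) = 1 - TrivSqZeroExt.inr a from rfl, _root_.mul_one] at hq2
  have hA := (rel_unique H (rel_left H hcoef hq2) h₁R).1
  have hD1 := congrArg TrivSqZeroExt.snd hA
  simp [hfst] at hD1
  -- moving by `ε` after `u`
  let hε : A[ε]ˣ := Units.map (dinl A : A →* A[ε]) hv
  have hc2 := rel_res H hcoef (dmap (RingHom.id A) (hv : A)) (dbase_dmap (RingHom.id A) (base_id b _ rfl) _)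
  rw [map_one, dmap_eps] at hc2
  have hc3 := rel_scale H hc2 hε⁻¹
  rw [show ((hε⁻¹ : A[ε]ˣ) : A[ε]) * TrivSqZeroExt.inr (hv : A) = ε by ext <;> simp [hε, Units.coe_map_inv],
    inv_inv, _root_.mul_one] at hc3
  have h₁R' := h₁R
  rw [add_comm] at h₁R'
  have hB := (rel_unique H (rel_left H hRε hc3) h₁R').1
  have hD2 := congrArg TrivSqZeroExt.snd hB
  simp [hε, dmap] at hD2
  have hau : IsUnit (a * hv) := (hu A b).mul hv.isUnit
  refine sub_eq_zero.mp (hau.mul_right_eq_zero.mp ?_)
  linear_combination hD1 - (1 + a * u) * hD2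

omit hu in
/-- Products in the cell are specialisations of one whose second factor is invertible after an injective extension. -/
theorem exists_univ {A : Type u} [CommRing A] {b : Spec (CommRingCat.of A) ⟶ S} {x y : A}
    (hg : Good i pp pm b x y) :
    ∃ (R R₂ : Type u) (_ : CommRing R) (_ : CommRing R₂) (bR : Spec (CommRingCat.of R) ⟶ S)
      (b₂ : Spec (CommRingCat.of R₂) ⟶ S) (σ : R →+* A) (j : R →+* R₂) (_ : Spec.map (CommRingCat.ofHom σ) ≫ bR = b)
      (_ : Spec.map (CommRingCat.ofHom j) ≫ bR = b₂) (X Y : R),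
      Function.Injective j ∧ IsUnit (j Y) ∧ σ X = x ∧ σ Y = y ∧ Good i pp pm bR X Y := by
  let em : A →+* A[X][X] := (Polynomial.C : A[X] →+* A[X][X]).comp Polynomial.C
  let b₀ : Spec (CommRingCat.of A[X][X]) ⟶ S := Spec.map (CommRingCat.ofHom em) ≫ b
  let W : A[X][X] := 1 + coef H b₀ * Polynomial.C Polynomial.X * Polynomial.X
  let R := Localization.Away W
  let bR : Spec (CommRingCat.of R) ⟶ S := Spec.map (CommRingCat.ofHom (algebraMap A[X][X] R)) ≫ b₀
  let R₂ := Localization.Away (algebraMap A[X][X] R Polynomial.X)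
  let τ : A[X][X] →+* A := Polynomial.eval₂RingHom (Polynomial.eval₂RingHom (RingHom.id A) x) y
  have hτb : Spec.map (CommRingCat.ofHom τ) ≫ b₀ = b :=
    base_comp em τ rfl (base_id b _ (RingHom.ext fun r => by simp [τ, em]))
  have hτW : IsUnit (τ W) := by
    simp only [W, map_add, map_one, map_mul, ← coef_res H τ hτb]
    simpa [τ] using (good_iff H b x y).mp hg
  let σ : R →+* A := IsLocalization.Away.lift W (g := τ) hτW
  have hσ : ∀ p, σ (algebraMap A[X][X] R p) = τ p := fun p => IsLocalization.Away.lift_eq W hτW p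
  have hX : algebraMap A[X][X] R Polynomial.X ∈ nonZeroDivisors R :=
    IsLocalization.map_nonZeroDivisors_le (Submonoid.powers W) R
      (Submonoid.mem_map_of_mem _ Polynomial.monic_X.mem_nonZeroDivisors)
  refine ⟨R, R₂, inferInstance, inferInstance, bR, Spec.map (CommRingCat.ofHom (algebraMap R R₂)) ≫ bR, σ,
    algebraMap R R₂, base_comp (algebraMap A[X][X] R) σ rfl ?_, rfl,
    algebraMap A[X][X] R (Polynomial.C Polynomial.X), algebraMap A[X][X] R Polynomial.X,
    IsLocalization.injective R₂ (M := Submonoid.powers (algebraMap A[X][X] R Polynomial.X))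
      (Submonoid.powers_le.mpr hX),
    IsLocalization.Away.algebraMap_isUnit _, by rw [hσ]; simp [τ], by rw [hσ]; simp [τ], ?_⟩
  · rw [show σ.comp (algebraMap A[X][X] R) = τ from RingHom.ext hσ]
    exact hτb
  · rw [good_iff H, coef_res H (algebraMap A[X][X] R) (b := b₀) rfl, ← map_mul, ← map_mul,
      ← map_one (algebraMap A[X][X] R), ← map_add]
    exact IsLocalization.Away.algebraMap_isUnit W

omit hu in
theorem rel_reduce {A : Type u} [CommRing A] {b : Spec (CommRingCat.of A) ⟶ S} {x y a c : A}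
    {t : Over.mk b ⟶ T} (hR : Rel i pp pm b x y a t c) {v : Aˣ} (hv : (v : A) = y) :
    Rel i pp pm b (y * x) 1 (((v⁻¹ : Aˣ) : A) * a) t (y * c) := by
  have := rel_scale H hR v
  simp only [← hv] at this ⊢
  rwa [Units.inv_mul] at this

include hu in
theorem rel_fst {A : Type u} [CommRing A] {b : Spec (CommRingCat.of A) ⟶ S} {x y a c : A}
    {t : Over.mk b ⟶ T} (hR : Rel i pp pm b x y a t c) : a * (1 + coef H b * x * y) = y := by
  obtain ⟨R, R₂, _, _, bR, b₂, σ, j, hσ, hj, X, Y, hinj, ⟨v, hv⟩, rfl, rfl, a', t', c', h'⟩ :=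
    exists_univ H ⟨_, _, _, hR⟩
  rw [(rel_unique H hR (rel_res H h' σ hσ)).1, coef_res H σ hσ, ← map_mul, ← map_mul, ← map_one σ, ← map_add,
    ← map_mul]
  congr 1
  refine hinj ?_
  have h1 := rel_one_fst H hu (rel_reduce H (rel_res H h' j hj) hv)
  rw [map_mul, map_add, map_mul, map_mul, map_one, ← coef_res H j hj]
  linear_combination (j Y) * h1 - (j a' * (1 + coef H b₂ * (j Y * j X))) * (by rw [← hv]; exact v.mul_inv :
    j Y * ((v⁻¹ : R₂ˣ) : R₂) = 1)

include hu in
theorem rel_one_chr {A : Type u} [CommRing A] {b : Spec (CommRingCat.of A) ⟶ S} {u h c : A} {t : Over.mk b ⟶ T}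
    (hR : Rel i pp pm b u 1 h t c) :
    (chr α b t : A) = (1 + coef H b * u) ^ 2 ∧ c * (1 + coef H b * u) = u := by
  set a := coef H b with ha
  have hh := rel_one_fst H hu hR
  rw [← ha] at hh
  have hwu : IsUnit (1 + a * u) := IsUnit.of_mul_eq_one h ((_root_.mul_comm _ _).trans hh)
  -- adding `ε` to the second factor
  have hRε := rel_res H hR (dinl A) (b' := dbase b) rfl
  rw [map_one] at hRε
  obtain ⟨a', t', c', hε⟩ := good_of_nilpotent_right (b := dbase b) H eps_nilpotent (dinl A c)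
  have h1 := rel_fst H hu (rel_right H hRε hε)
  have h2 := rel_fst H hu hε
  rw [coef_res H (dinl A) (b := b) rfl, ← ha] at h1 h2
  have h2' : TrivSqZeroExt.fst a' = 0 := by simpa using congrArg TrivSqZeroExt.fst h2
  have h2'' := congrArg TrivSqZeroExt.snd h2
  simp [h2'] at h2''
  have h1' := congrArg TrivSqZeroExt.snd h1
  rw [chr_res] at h1'
  simp [h2', h2'', Units.coe_map_inv] at h1'
  have hβ : (chr α b t : A) = (1 + a * u) ^ 2 := by
    linear_combination (-(chr α b t : A) * (1 + a * u)) * h1' + (1 + a * u) ^ 2 * Units.mul_inv (chr α b t) +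
      (chr α b t : A) * a * u * hh
  refine ⟨hβ, ?_⟩
  -- the inverse product
  have h3 := rel_fst H hu (rel_inv H hR)
  rw [hβ, ← ha] at h3
  refine sub_eq_zero.mp (((hu A b).mul hwu).mul_right_eq_zero.mp ?_)
  linear_combination (-(1 + a * u)) * h3 - (a * c - 1) * (1 + a * u) ^ 2 * hh

include hu in
/-- The coordinates of `p₊(x) p₋(y)`. -/
theorem rel_formula {A : Type u} [CommRing A] {b : Spec (CommRingCat.of A) ⟶ S} {x y a c : A}
    {t : Over.mk b ⟶ T} (hR : Rel i pp pm b x y a t c) :
    a * (1 + coef H b * x * y) = y ∧ c * (1 + coef H b * x * y) = x ∧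
      ∀ (h' c' : A) (t' : Over.mk b ⟶ T), Rel i pp pm b (x * y) 1 h' t' c' → t = t' := by
  haveI : IsAffineHom T.hom :=
    MultConjLib.isAffineHom_of_locDS (MultConjLib.isLocDS_of_multTypeFT (RankOne.isMultTypeFT_of_isTorus H.hT))
  refine ⟨rel_fst H hu hR, ?_⟩
  obtain ⟨R, R₂, _, _, bR, b₂, σ, j, hσ, hj, X, Y, hinj, ⟨v, hv⟩, rfl, rfl, a', t', c', hu'⟩ :=
    exists_univ H ⟨_, _, _, hR⟩
  obtain ⟨-, rfl, rfl⟩ := rel_unique H hR (rel_res H hu' σ hσ)
  have hred := rel_reduce H (rel_res H hu' j hj) hv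
  constructor
  · rw [coef_res H σ hσ, ← map_mul, ← map_mul, ← map_one σ, ← map_add, ← map_mul]
    congr 1
    refine hinj (((hv ▸ v.isUnit : IsUnit (j Y))).mul_left_cancel ?_)
    have h1 := (rel_one_chr H hu hred).2
    rw [map_mul, map_add, map_mul, map_mul, map_one, ← coef_res H j hj]
    linear_combination h1
  · intro h'' c'' t'' hR''
    obtain ⟨a₁, t₁, c₁, h₁⟩ : Good i pp pm bR (X * Y) 1 := (good_iff H bR _ _).mpr (by
      have := (good_iff H bR X Y).mp ⟨_, _, _, hu'⟩
      simpa [_root_.mul_assoc] using this)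
    have e : res j hj ≫ t' = res j hj ≫ t₁ := by
      have h2 := rel_res H h₁ j hj
      rw [map_mul, map_one, _root_.mul_comm (j X)] at h2
      exact (rel_unique H hred h2).2.1
    rw [RankOne.eq_of_injective (A := CommRingCat.of R) (B := CommRingCat.of R₂) j hj hinj e]
    have h3 := rel_res H h₁ σ hσ
    rw [map_mul, map_one] at h3
    exact (rel_unique H h3 hR'').2.1

end Formula

end Groth.Agent.GrpSchLib.RankOneComm
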