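import Groth.Agent.GrpSchLib.RankOneCommMain

/-! Existence and uniqueness of the coefficient and the coroot of two opposite root groups. -/

set_option autoImplicit false
set_option linter.style.haveILetI false

universe u

open CategoryTheory CategoryTheory.Limits AlgebraicGeometry MonoidalCategory CartesianMonoidalCategory
open scoped MonObj DualNumber

noncomputable section

namespace Groth.Agent.GrpSchLib.RankOneComm

variable {S : Scheme.{u}}

theorem val_appTop {X : Over S} {A : Type u} [CommRing A] {b : Spec (CommRingCat.of A) ⟶ S} (j : Over.mk b ⟶ X)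
    (x : X ⟶ Red.Ga S) : val b (j ≫ x) = sv b (j.left.appTop (Red.gaFn x)) := by
  rw [val, GaPts.gaFn_comp]

theorem gval_appTop {X : Over S} {A : Type u} [CommRing A] {b : Spec (CommRingCat.of A) ⟶ S} (j : Over.mk b ⟶ X)
    (x : X ⟶ Red.Gm S) : (gval b (j ≫ x) : A) = sv b (j.left.appTop (Red.gmFn x)) := by
  rw [val_gval, GmPts.gmFn_comp]

/-- Functions which agree on all affine test objects are equal. -/
theorem fn_ext {X : Over S} (f g : Γ(X.left, ⊤))
    (h : ∀ (A : Type u) [CommRing A] (b : Spec (CommRingCat.of A) ⟶ S) (j : Over.mk b ⟶ X),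
      sv b (j.left.appTop f) = sv b (j.left.appTop g)) : f = g := by
  have : (GaPts.ptOfFn f : X ⟶ Red.Ga S) = GaPts.ptOfFn g := RankOne.ext_spec fun A b j =>
    GaPts.gaFn_injective (by
      simp only [GaPts.gaFn_comp, GaPts.gaFn_ptOfFn]
      exact (sv (A := A) b).injective (h A b j))
  simpa only [GaPts.gaFn_ptOfFn] using congrArg Red.gaFn this

variable {G T : Over S} [GrpObj G] [GrpObj T] {i : T ⟶ G} {α : T ⟶ Red.Gm S} {pp pm : Red.Ga S ⟶ G}
  (H : Hyp i α pp pm) (hu : ∀ (A : Type u) [CommRing A] (b : Spec (CommRingCat.of A) ⟶ S), IsUnit (coef H b))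

/-- The parameter of the coroot at `z`. -/
def uOf {A : Type u} [CommRing A] (b : Spec (CommRingCat.of A) ⟶ S) (z : Aˣ) : A :=
  (((hu A b).unit⁻¹ : Aˣ) : A) * ((z : A) - 1)

theorem coef_uOf {A : Type u} [CommRing A] (b : Spec (CommRingCat.of A) ⟶ S) (z : Aˣ) :
    1 + coef H b * uOf H hu b z = z := by
  rw [uOf, ← _root_.mul_assoc, IsUnit.mul_val_inv, _root_.one_mul, add_sub_cancel]

include hu in
theorem good_uOf {A : Type u} [CommRing A] (b : Spec (CommRingCat.of A) ⟶ S) (z : Aˣ) :
    Good i pp pm b (uOf H hu b z) 1 := by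
  rw [good_iff H, _root_.mul_one, coef_uOf]
  exact z.isUnit

/-- The coroot on affine test objects. -/
def cor {A : Type u} [CommRing A] (b : Spec (CommRingCat.of A) ⟶ S) (z : Aˣ) : Over.mk b ⟶ T :=
  (good_uOf H hu b z).choose_spec.choose

theorem cor_spec {A : Type u} [CommRing A] (b : Spec (CommRingCat.of A) ⟶ S) (z : Aˣ) :
    ∃ a c, Rel i pp pm b (uOf H hu b z) 1 a (cor H hu b z) c :=
  ⟨_, (good_uOf H hu b z).choose_spec.choose_spec⟩

theorem uOf_eq {A : Type u} [CommRing A] (b : Spec (CommRingCat.of A) ⟶ S) (z : Aˣ) (u : A)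
    (h : 1 + coef H b * u = z) : uOf H hu b z = u := by
  rw [uOf, ← h, add_sub_cancel_left, ← _root_.mul_assoc, IsUnit.val_inv_mul, _root_.one_mul]

theorem cor_eq {A : Type u} [CommRing A] {b : Spec (CommRingCat.of A) ⟶ S} {z : Aˣ} {u a c : A}
    {t : Over.mk b ⟶ T} (hz : 1 + coef H b * u = z) (h : Rel i pp pm b u 1 a t c) : cor H hu b z = t := by
  obtain ⟨a', c', h'⟩ := cor_spec H hu b z
  rw [uOf_eq H hu b z u hz] at h'
  exact (rel_unique H h' h).2.1

theorem cor_res {A B : Type u} [CommRing A] [CommRing B] {b : Spec (CommRingCat.of A) ⟶ S}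
    {b' : Spec (CommRingCat.of B) ⟶ S} (φ : A →+* B) (hb : Spec.map (CommRingCat.ofHom φ) ≫ b = b') (z : Aˣ) :
    cor H hu b' (Units.map φ.toMonoidHom z) = res φ hb ≫ cor H hu b z := by
  obtain ⟨a, c, h⟩ := cor_spec H hu b z
  have h1 := rel_res H h φ hb
  rw [map_one] at h1
  exact cor_eq H hu (by
    rw [coef_res H φ hb, ← map_mul, ← map_one φ, ← map_add, coef_uOf]
    rfl) h1

theorem cor_mul {A : Type u} [CommRing A] (b : Spec (CommRingCat.of A) ⟶ S) (z z' : Aˣ) :
    cor H hu b (z * z') = cor H hu b z' * cor H hu b z := by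
  obtain ⟨a, c, h⟩ := cor_spec H hu b z
  obtain ⟨a', c', h'⟩ := cor_spec H hu b z'
  have ha : a * (z : A) = 1 := by
    have := rel_fst H hu h
    rwa [_root_.mul_one, coef_uOf] at this
  have hz : ((z⁻¹ : Aˣ) : A) = a := Units.inv_eq_of_mul_eq_one_left ha
  have h2 := rel_scale H h' z
  rw [_root_.mul_one, hz] at h2
  exact cor_eq H hu (u := (z : A) * uOf H hu b z' + uOf H hu b z) (by
    rw [Units.val_mul]
    linear_combination (z : A) * coef_uOf H hu b z' + coef_uOf H hu b z) (rel_left H h h2)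

theorem chr_cor {A : Type u} [CommRing A] (b : Spec (CommRingCat.of A) ⟶ S) (z : Aˣ) :
    chr α b (cor H hu b z) = z ^ 2 := by
  obtain ⟨a, c, h⟩ := cor_spec H hu b z
  refine Units.ext ?_
  rw [(rel_one_chr H hu h).1, coef_uOf, Units.val_pow_eq_pow_val]

theorem rel_cor {A : Type u} [CommRing A] {b : Spec (CommRingCat.of A) ⟶ S} {x y a c : A} {t : Over.mk b ⟶ T}
    (h : Rel i pp pm b x y a t c) (z : Aˣ) (hz : (z : A) = 1 + coef H b * x * y) : t = cor H hu b z := by
  obtain ⟨a', c', h'⟩ := cor_spec H hu b z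
  rw [uOf_eq H hu b z (x * y) (by rw [hz, _root_.mul_assoc])] at h'
  exact (rel_formula H hu h).2.2 _ _ _ h'

include hu in
/-- The coefficient and the coroot exist and are unique. -/
theorem existsUnique_coroot :
    ∃! q : (𝟙_ (Over S) ⟶ Red.Gm S) × (Red.Gm S ⟶ T), IsMonHom q.2 ∧ q.2 ≫ α = (𝟙 (Red.Gm S)) ^ 2 ∧
      ∀ (X : Over S) (x y : X ⟶ Red.Ga S),
        ((∃ w : X ⟶ (Red.Ga S ⊗ T) ⊗ Red.Ga S, w ≫ (((pm ⊗ₘ i) ⊗ₘ pp) ≫ (μ[G] ▷ G) ≫ μ[G]) = (x ≫ pp) * (y ≫ pm)) ↔
          IsUnit (1 + Red.gmFn (toUnit X ≫ q.1) * Red.gaFn x * Red.gaFn y)) ∧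
        (IsUnit (1 + Red.gmFn (toUnit X ≫ q.1) * Red.gaFn x * Red.gaFn y) →
          ∃ (x' y' : X ⟶ Red.Ga S) (z : X ⟶ Red.Gm S),
            Red.gmFn z = 1 + Red.gmFn (toUnit X ≫ q.1) * Red.gaFn x * Red.gaFn y ∧
            Red.gaFn x' * Red.gmFn z = Red.gaFn x ∧ Red.gaFn y' * Red.gmFn z = Red.gaFn y ∧
            (x ≫ pp) * (y ≫ pm) = (y' ≫ pm) * (z ≫ q.2 ≫ i) * (x' ≫ pp)) := by
  haveI := H.hi
  haveI := H.hα'
  obtain ⟨qa, hqa⟩ := exists_of_natural (X := 𝟙_ (Over S)) (Y := Red.Gm S)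
    (fun A _ b _ => gpt b (hu A b).unit) (fun A B _ _ b b' φ hb _ => gval_injective b' (by
      rw [gval_gpt, gval_res, gval_gpt]
      exact Units.ext (coef_res H φ hb)))
  obtain ⟨qv, hqv⟩ := exists_of_natural (X := Red.Gm S) (Y := T)
    (fun A _ b j => cor H hu b (gval b j)) (fun A B _ _ b b' φ hb j => by rw [gval_res, cor_res])
  have hqa' : ∀ (X : Over S) (A : Type u) [CommRing A] (b : Spec (CommRingCat.of A) ⟶ S) (j : Over.mk b ⟶ X),
      sv b (j.left.appTop (Red.gmFn (toUnit X ≫ qa))) = coef H b := by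
    intro X A _ b j
    rw [← GmPts.gmFn_comp, ← val_gval, ← Category.assoc, hqa A b (j ≫ toUnit X), gval_gpt]
    rfl
  have hw : ∀ (X : Over S) (x y : X ⟶ Red.Ga S) (A : Type u) [CommRing A] (b : Spec (CommRingCat.of A) ⟶ S)
      (j : Over.mk b ⟶ X), sv b (j.left.appTop (1 + Red.gmFn (toUnit X ≫ qa) * Red.gaFn x * Red.gaFn y)) =
        1 + coef H b * val b (j ≫ x) * val b (j ≫ y) := by
    intro X x y A _ b j
    rw [map_add, map_one, map_mul, map_mul, map_add, map_one, map_mul, map_mul, hqa', ← val_appTop, ← val_appTop]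
  have hmul : ∀ (A : Type u) [CommRing A] (b : Spec (CommRingCat.of A) ⟶ S) (z z' : Over.mk b ⟶ Red.Gm S),
      (z * z') ≫ qv = (z ≫ qv) * (z' ≫ qv) := by
    intro A _ b z z'
    rw [hqv, hqv, hqv, gval_mul, cor_mul]
    exact RankOne.torus_mul_comm H.hT _ _ _
  refine ⟨(qa, qv), ⟨?_, ?_, ?_⟩, ?_⟩
  · constructor
    · refine RankOne.ext_spec fun A b j => ?_
      have h0 : gval (A := A) b (1 : Over.mk b ⟶ Red.Gm S) = 1 := by
        rw [gval, GmPts.unitOfPt_one, map_one]
      have h1 := cor_mul H hu (A := A) b 1 1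
      rw [_root_.mul_one] at h1
      have h2 : (1 : Over.mk b ⟶ Red.Gm S) ≫ qv = 1 := by
        rw [hqv A b, h0]
        exact (mul_eq_left).mp h1.symm
      have e : j ≫ η[Red.Gm S] = (1 : Over.mk b ⟶ Red.Gm S) := by
        rw [show j = toUnit _ from toUnit_unique _ _]; rfl
      have e' : j ≫ η[T] = (1 : Over.mk b ⟶ T) := by
        rw [show j = toUnit _ from toUnit_unique _ _]; rfl
      rw [← Category.assoc, e, h2, e']
    · refine RankOne.ext_spec fun A b j => ?_
      show j ≫ μ ≫ qv = j ≫ (qv ⊗ₘ qv) ≫ μ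
      rw [MonObj.mul_eq_mul, ← Category.assoc, MonObj.comp_mul, hmul, MonObj.mul_eq_mul]
      simp only [MonObj.comp_mul, tensorHom_fst, tensorHom_snd, Category.assoc]
  · refine RankOne.ext_spec fun A b j => gval_injective (A := A) b ?_
    show gval b (j ≫ qv ≫ α) = _
    rw [← Category.assoc, hqv A b j, MonObj.comp_pow, Category.comp_id, pow_two, gval_mul, ← pow_two]
    exact chr_cor H hu b _
  · intro X x y
    constructor
    · constructor
      · rintro ⟨w, hw'⟩
        let f := 1 + Red.gmFn (toUnit X ≫ qa) * Red.gaFn x * Red.gaFn y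
        have hunit : ∀ (A : Type u) [CommRing A] (b : Spec (CommRingCat.of A) ⟶ S) (j : Over.mk b ⟶ X),
            IsUnit (j.left.appTop f) := by
          intro A _ b j
          refine (isUnit_map_iff (sv b) _).mp ?_
          rw [hw, ← good_iff H]
          refine ⟨val b ((j ≫ w) ≫ fst _ _ ≫ fst _ _), (j ≫ w) ≫ fst _ _ ≫ snd _ _, val b ((j ≫ w) ≫ snd _ _), ?_⟩
          rw [Rel, pt_val, pt_val, pt_val, pt_val, ← coords_cell, Category.assoc j w,
            show w ≫ RankOne.cellMap i pp pm = _ from hw', MonObj.comp_mul,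
            Category.assoc, Category.assoc]
        refine X.left.toLocallyRingedSpace.toRingedSpace.isUnit_of_isUnit_germ ⊤ f fun p _ => ?_
        rw [← Scheme.mem_basicOpen_top]
        let 𝒰 := X.left.affineCover
        obtain ⟨k, q, hq⟩ := 𝒰.exists_eq p
        have h1 := hunit _ (𝒰.f k ≫ X.hom) (Over.homMk (𝒰.f k) rfl)
        have h2 : q ∈ (𝒰.f k) ⁻¹ᵁ X.left.basicOpen f := by
          rw [Scheme.preimage_basicOpen]
          exact (Scheme.mem_basicOpen_top _ _ q).mpr (IsUnit.map _ h1)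
        rw [← hq]
        exact h2
      · intro hU
        obtain ⟨a, t, c, e⟩ := RankOne.exists_coords H.hΩ ((x ≫ pp) * (y ≫ pm)) fun K hK b j _ => by
          have h := (hU.map j.left.appTop.hom).map (sv (A := K) b)
          erw [hw X x y K b j] at h
          obtain ⟨a, t, c, e⟩ := (good_iff H (A := K) b (val b (j ≫ x)) (val b (j ≫ y))).mpr h
          refine ⟨pt (A := K) b a, t, pt (A := K) b c, ?_⟩
          rw [Rel, pt_val, pt_val] at e
          rw [MonObj.comp_mul, ← Category.assoc, ← Category.assoc]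
          exact e
        exact ⟨lift (lift a t) c, (RankOne.cell_comp i pp pm a t c).trans e.symm⟩
    · intro hU
      obtain ⟨u, hu'⟩ := hU
      refine ⟨GaPts.ptOfFn (((u⁻¹ : Γ(X.left, ⊤)ˣ) : Γ(X.left, ⊤)) * Red.gaFn x),
        GaPts.ptOfFn (((u⁻¹ : Γ(X.left, ⊤)ˣ) : Γ(X.left, ⊤)) * Red.gaFn y), GmPts.ptOfUnit u, ?_, ?_, ?_, ?_⟩
      · rw [GmPts.gmFn_ptOfUnit, hu']
      · rw [GmPts.gmFn_ptOfUnit, GaPts.gaFn_ptOfFn, _root_.mul_comm, Units.mul_inv_cancel_left]
      · rw [GmPts.gmFn_ptOfUnit, GaPts.gaFn_ptOfFn, _root_.mul_comm, Units.mul_inv_cancel_left]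
      · refine RankOne.ext_spec fun A b j => ?_
        let z : Aˣ := gval (A := A) b (j ≫ GmPts.ptOfUnit u)
        have hz : (z : A) = 1 + coef H (A := A) b * val b (j ≫ x) * val b (j ≫ y) := by
          simp only [z, gval_appTop, GmPts.gmFn_ptOfUnit]
          rw [hu', hw]
        obtain ⟨a, t, c, e⟩ := (good_iff H (A := A) b _ _).mpr (hz ▸ z.isUnit)
        obtain ⟨e1, e2, -⟩ := rel_formula H hu e
        have hprod : ∀ w : X ⟶ Red.Ga S,
            val (A := A) b (j ≫ GaPts.ptOfFn (((u⁻¹ : Γ(X.left, ⊤)ˣ) : Γ(X.left, ⊤)) * Red.gaFn w)) * (z : A) =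
              val b (j ≫ w) := by
          intro w
          simp only [z, gval_appTop, val_appTop, GaPts.gaFn_ptOfFn, GmPts.gmFn_ptOfUnit]
          rw [← map_mul, ← map_mul, _root_.mul_comm _ (Red.gaFn w), _root_.mul_assoc, Units.inv_mul, _root_.mul_one]
        rw [← hz] at e1 e2
        have ha := z.isUnit.mul_right_cancel (e1.trans (hprod y).symm)
        have hc := z.isUnit.mul_right_cancel (e2.trans (hprod x).symm)
        have ht := rel_cor H hu e z hz
        rw [Rel, pt_val, pt_val, ha, hc, ht, pt_val, pt_val] at e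
        simp only [MonObj.comp_mul]
        rw [← Category.assoc, ← Category.assoc]
        refine e.trans ?_
        simp only [← Category.assoc]
        rw [hqv A b (j ≫ GmPts.ptOfUnit u)]
  · rintro ⟨qa', qv'⟩ ⟨hm', -, hspec⟩
    dsimp only at hm' hspec
    have hval : ∀ (A : Type u) [CommRing A] (b : Spec (CommRingCat.of A) ⟶ S),
        (gval b (toUnit (Over.mk b) ≫ qa') : A) = coef H b := by
      intro A _ b
      set a' : A := (gval b (toUnit (Over.mk b) ≫ qa') : A) with ha'
      have hnat : (gval (dbase b) (toUnit (Over.mk (dbase b)) ≫ qa') : A[ε]) = dinl A a' := by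
        rw [show toUnit (Over.mk (dbase b)) = res (dinl A) (b := b) rfl ≫ toUnit (Over.mk b) from toUnit_unique _ _,
          Category.assoc, gval_res]
        rfl
      obtain ⟨x', y', z, hz, -, hy, e⟩ := (hspec (Over.mk (dbase b)) (pt (dbase b) ε) (pt (dbase b) 1)).2 (by
        refine (isUnit_map_iff (sv (dbase b)) _).mp ?_
        rw [map_add, map_one, map_mul, map_mul, ← val_gval, hnat]
        show IsUnit (1 + dinl A a' * val _ (pt _ ε) * val _ (pt _ 1))
        rw [val_pt, val_pt, TrivSqZeroExt.isUnit_iff_isUnit_fst]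
        simp)
      have hz' : (gval (dbase b) z : A[ε]) = 1 + dinl A a' * ε := by
        rw [val_gval, hz, map_add, map_one, map_mul, map_mul, ← val_gval, hnat]
        show 1 + dinl A a' * val _ (pt _ ε) * val _ (pt _ 1) = _
        rw [val_pt, val_pt, _root_.mul_one]
      have hy' : val (dbase b) y' * (gval (dbase b) z : A[ε]) = 1 := by
        rw [val_gval, val, ← map_mul, hy]
        exact val_pt (dbase b) 1
      obtain ⟨t₀, c₀, h₀⟩ := coef_spec H b
      have hrel : Rel i pp pm (dbase b) ε 1 (val (dbase b) y') (z ≫ qv') (val (dbase b) x') := by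
        rw [Rel, pt_val, pt_val, e, Category.assoc]
      rw [(rel_unique H hrel h₀).1, hz'] at hy'
      have := congrArg TrivSqZeroExt.snd hy'
      simp at this
      linear_combination this
    have hqeq : qa' = qa := RankOne.ext_spec fun A b j => gval_injective (A := A) b (Units.ext (by
      rw [toUnit_unique j (toUnit _), hval A b, hqa A b, gval_gpt]
      rfl))
    subst hqeq
    refine Prod.ext rfl ?_
    refine RankOne.ext_spec fun A b j => ?_
    show j ≫ qv' = j ≫ qv
    rw [hqv A b j]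
    obtain ⟨x', y', z, hz, -, -, e⟩ := (hspec (Over.mk b) (pt (A := A) b (uOf H hu b (gval b j))) (pt (A := A) b 1)).2 (by
      refine (isUnit_map_iff (sv (A := A) b) _).mp ?_
      rw [map_add, map_one, map_mul, map_mul, ← val_gval, hval A b]
      show IsUnit (1 + coef H b * val b (pt (A := A) b _) * val b (pt (A := A) b 1))
      rw [val_pt, val_pt, _root_.mul_one, coef_uOf]
      exact Units.isUnit _)
    have hzj : z = j := gval_injective (A := A) b (Units.ext (by
      rw [val_gval, hz, map_add, map_one, map_mul, map_mul, ← val_gval, hval A b]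
      show 1 + coef H b * val b (pt (A := A) b _) * val b (pt (A := A) b 1) = _
      rw [val_pt, val_pt, _root_.mul_one, coef_uOf]))
    subst hzj
    symm
    refine cor_eq H hu (u := uOf H hu b (gval (A := A) b z)) (coef_uOf H hu b _)
      (a := val b y') (c := val b x') ?_
    rw [Rel, pt_val, pt_val, e, Category.assoc]

end Groth.Agent.GrpSchLib.RankOneComm
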