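import Groth.Agent.GrpSchLib.RankOneBig
import Groth.Agent.GrpSchLib.RankOneNonComm
import Mathlib.AlgebraicGeometry.Sites.Fpqc

/-! A morphism on the big cell which is multiplicative where defined extends to a unique homomorphism. -/

set_option autoImplicit false
set_option backward.isDefEq.respectTransparency false
set_option linter.style.haveILetI false

universe u

open CategoryTheory CategoryTheory.Limits AlgebraicGeometry MonoidalCategory CartesianMonoidalCategory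
open scoped MonObj

noncomputable section

namespace Groth.Agent.GrpSchLib.RankOne

variable {S : Scheme.{u}} {G T : Over S} [GrpObj G] [GrpObj T] {i : T ⟶ G} [IsMonHom i]
  {pp pm : Red.Ga S ⟶ G} [IsMonHom pp] [IsMonHom pm]

/-- The translates of a point landing in the cell, over one geometric point, form a nonempty open. -/
theorem nonempty_translate {X : Over S} {K : Type u} [Field K] {b : Spec (CommRingCat.of K) ⟶ S}
    (hΩ : IsOpenImmersion (cellMap i pp pm).left) (p : Over.mk b ⟶ X) (g : X ⟶ G) :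
    (((p ▷ G ≫ ((fst X G ≫ g) * snd X G)).left ⁻¹ᵁ (haveI := hΩ; (cellMap i pp pm).left.opensRange) :
      (Over.mk b ⊗ G).left.Opens) : Set (Over.mk b ⊗ G).left).Nonempty := by
  haveI := hΩ
  refine ⟨(lift (𝟙 _) (p ≫ g)⁻¹).left (IsLocalRing.closedPoint K), ?_⟩
  have e : lift (𝟙 (Over.mk b)) (p ≫ g)⁻¹ ≫ p ▷ G ≫ ((fst X G ≫ g) * snd X G) = 1 := by
    simp only [MonObj.comp_mul, whiskerRight_fst_assoc, whiskerRight_snd, lift_fst_assoc, lift_snd,
      Category.id_comp, mul_inv_cancel]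
  have he : (lift (lift 1 1) 1 : Over.mk b ⟶ _) ≫ cellMap i pp pm = 1 := by
    rw [cell_comp, MonObj.one_comp, MonObj.one_comp, MonObj.one_comp, _root_.one_mul, _root_.one_mul]
  have hm : (1 : Over.mk b ⟶ G).left (IsLocalRing.closedPoint K) ∈ (cellMap i pp pm).left.opensRange := by
    rw [← he]
    exact ⟨_, rfl⟩
  rw [← e] at hm
  exact hm

/-- An open part of `X × G` meeting every geometric fibre covers `X`. -/
theorem surjective_open_fst {X : Over S} (W : (X ⊗ G).left.Opens)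
    (h : ∀ (K : Type u) [Field K] [IsAlgClosed K] (b : Spec (CommRingCat.of K) ⟶ S) (p : Over.mk b ⟶ X),
      ((((p ▷ G).left ⁻¹ᵁ W) : (Over.mk b ⊗ G).left.Opens) : Set (Over.mk b ⊗ G).left).Nonempty) :
    Surjective (W.ι ≫ (fst X G).left) := by
  refine ⟨fun x => ?_⟩
  let K := AlgebraicClosure (X.left.residueField x)
  let x₀ : Spec (CommRingCat.of K) ⟶ X.left :=
    Spec.map (CommRingCat.ofHom (algebraMap (X.left.residueField x) K)) ≫ X.left.fromSpecResidueField x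
  let p : Over.mk (x₀ ≫ X.hom) ⟶ X := Over.homMk x₀ rfl
  obtain ⟨z, hz⟩ := h K (x₀ ≫ X.hom) p
  refine ⟨(⟨(p ▷ G).left z, hz⟩ : W), ?_⟩
  show (fst X G).left ((p ▷ G).left z) = x
  have e : (p ▷ G).left ≫ (fst X G).left = (fst (Over.mk (x₀ ≫ X.hom)) G).left ≫ x₀ :=
    congrArg CommaMorphism.left (whiskerRight_fst p G)
  refine (congrArg (fun f : (Over.mk (x₀ ≫ X.hom) ⊗ G).left ⟶ X.left => f z) e).trans ?_
  have hm : x₀ ((fst (Over.mk (x₀ ≫ X.hom)) G).left z) ∈ Set.range (X.left.fromSpecResidueField x) :=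
    ⟨Spec.map (CommRingCat.ofHom (algebraMap (X.left.residueField x) K)) ((fst (Over.mk (x₀ ≫ X.hom)) G).left z), rfl⟩
  rwa [Scheme.range_fromSpecResidueField, Set.mem_singleton_iff] at hm

/-- A cover by a generic point which moves four given points into the cell. -/
theorem exists_generic (hG : Red.IsReductive G) (hΩ : IsOpenImmersion (cellMap i pp pm).left) {X : Over S}
    (g₁ g₂ g₃ g₄ : X ⟶ G) :
    ∃ (X' : Over S) (π : X' ⟶ X) (k : X' ⟶ G), Epi π ∧ ∃ v₁ v₂ v₃ v₄ : X' ⟶ (Red.Ga S ⊗ T) ⊗ Red.Ga S,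
      v₁ ≫ cellMap i pp pm = (π ≫ g₁) * k ∧ v₂ ≫ cellMap i pp pm = (π ≫ g₂) * k ∧
      v₃ ≫ cellMap i pp pm = (π ≫ g₃) * k ∧ v₄ ≫ cellMap i pp pm = (π ≫ g₄) * k := by
  haveI := hΩ
  haveI : Smooth G.hom := hG.2.1
  let V : (X ⟶ G) → (X ⊗ G).left.Opens := fun g =>
    ((fst X G ≫ g) * snd X G).left ⁻¹ᵁ (cellMap i pp pm).left.opensRange
  obtain ⟨W, hW⟩ : ∃ W : (X ⊗ G).left.Opens, W = (V g₁ ⊓ V g₂) ⊓ (V g₃ ⊓ V g₄) := ⟨_, rfl⟩
  haveI hsu : Surjective (W.ι ≫ (fst X G).left) := surjective_open_fst W fun K _ _ b p => by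
    haveI := irreducible_fibre hG b
    haveI : IrreducibleSpace ↥(Over.mk b ⊗ G).left :=
      (pullbackSymmetry b G.hom).hom.homeomorph.irreducibleSpace_iff.mpr inferInstance
    have hne : ∀ g : X ⟶ G,
        ((((p ▷ G).left ⁻¹ᵁ V g) : (Over.mk b ⊗ G).left.Opens) : Set (Over.mk b ⊗ G).left).Nonempty :=
      fun g => nonempty_translate hΩ p g
    rw [hW]
    exact nonempty_preirreducible_inter (((p ▷ G).left ⁻¹ᵁ V g₁) ⊓ ((p ▷ G).left ⁻¹ᵁ V g₂)).2
      (((p ▷ G).left ⁻¹ᵁ V g₃) ⊓ ((p ▷ G).left ⁻¹ᵁ V g₄)).2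
      (nonempty_preirreducible_inter ((p ▷ G).left ⁻¹ᵁ V g₁).2 ((p ▷ G).left ⁻¹ᵁ V g₂).2 (hne _) (hne _))
      (nonempty_preirreducible_inter ((p ▷ G).left ⁻¹ᵁ V g₃).2 ((p ▷ G).left ⁻¹ᵁ V g₄).2 (hne _) (hne _))
  haveI : Flat (fst X G).left := inferInstanceAs (Flat (pullback.fst X.hom G.hom))
  haveI : Flat (W.ι ≫ (fst X G).left) := inferInstance
  haveI : Epi (W.ι ≫ (fst X G).left) := Flat.epi_of_flat_of_surjective _
  let X' : Over S := Over.mk (W.ι ≫ (X ⊗ G).hom)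
  let ι' : X' ⟶ X ⊗ G := Over.homMk W.ι rfl
  haveI : Epi (ι' ≫ fst X G).left := (inferInstance : Epi (W.ι ≫ (fst X G).left))
  have hlift : ∀ g : X ⟶ G, W ≤ V g →
      ∃ v : X' ⟶ (Red.Ga S ⊗ T) ⊗ Red.Ga S,
        v ≫ cellMap i pp pm = ((ι' ≫ fst X G) ≫ g) * (ι' ≫ snd X G) := by
    intro g hg
    have hr : Set.range (ι' ≫ ((fst X G ≫ g) * snd X G)).left ⊆ Set.range (cellMap i pp pm).left := by
      rintro _ ⟨w, rfl⟩
      exact hg w.2
    refine ⟨Over.homMk (IsOpenImmersion.lift (cellMap i pp pm).left (ι' ≫ ((fst X G ≫ g) * snd X G)).left hr) (by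
      rw [← Over.w (cellMap i pp pm), IsOpenImmersion.lift_fac_assoc, Over.w]), ?_⟩
    rw [Category.assoc ι' (fst X G) g, ← MonObj.comp_mul]
    exact Over.OverMorphism.ext (IsOpenImmersion.lift_fac _ _ _)
  obtain ⟨v₁, h₁⟩ := hlift g₁ (hW ▸ inf_le_left.trans inf_le_left)
  obtain ⟨v₂, h₂⟩ := hlift g₂ (hW ▸ inf_le_left.trans inf_le_right)
  obtain ⟨v₃, h₃⟩ := hlift g₃ (hW ▸ inf_le_right.trans inf_le_left)
  obtain ⟨v₄, h₄⟩ := hlift g₄ (hW ▸ inf_le_right.trans inf_le_right)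
  exact ⟨X', ι' ≫ fst X G, ι' ≫ snd X G, Over.epi_of_epi_left _, v₁, v₂, v₃, v₄, h₁, h₂, h₃, h₄⟩

variable {H : Over S} [GrpObj H]

/-- Homomorphisms which agree on the cell are equal. -/
theorem hom_ext_cell (hG : Red.IsReductive G) (hΩ : IsOpenImmersion (cellMap i pp pm).left)
    (f f' : G ⟶ H) [IsMonHom f] [IsMonHom f'] (h : cellMap i pp pm ≫ f = cellMap i pp pm ≫ f') : f = f' := by
  haveI := flat_divCell hG.2.1 hΩ
  haveI := surjective_divCell hG hΩ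
  haveI : Epi (divCell i pp pm).left := Flat.epi_of_flat_of_surjective _
  haveI : Epi (divCell i pp pm) := Over.epi_of_epi_left _
  rw [← cancel_epi (divCell i pp pm)]
  simp only [Category.assoc, MonObj.mul_comp, GrpObj.inv_comp, MonObj.comp_mul, GrpObj.comp_inv,
    tensorHom_fst_assoc, tensorHom_snd_assoc, h]

theorem lfp_divCell (hG : Smooth G.hom) (hΩ : IsOpenImmersion (cellMap i pp pm).left) :
    LocallyOfFinitePresentation (divCell i pp pm).left := by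
  let Θ : G ⊗ G ≅ G ⊗ G :=
    { hom := lift (fst G G * (snd G G)⁻¹) (snd G G)
      inv := lift (fst G G * snd G G) (snd G G)
      hom_inv_id := by
        apply CartesianMonoidalCategory.hom_ext
        · rw [Category.assoc, lift_fst, MonObj.comp_mul, lift_fst, lift_snd, inv_mul_cancel_right, Category.id_comp]
        · simp
      inv_hom_id := by
        apply CartesianMonoidalCategory.hom_ext
        · rw [Category.assoc, lift_fst, MonObj.comp_mul, GrpObj.comp_inv, lift_fst, lift_snd, mul_inv_cancel_right,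
            Category.id_comp]
        · simp }
  have e : divMap G = Θ.hom ≫ fst G G := (lift_fst _ _).symm
  haveI : IsIso Θ.hom.left := ((Over.forget S).mapIso Θ).isIso_hom
  haveI : LocallyOfFinitePresentation (fst G G).left :=
    inferInstanceAs (LocallyOfFinitePresentation (pullback.fst G.hom G.hom))
  haveI : LocallyOfFinitePresentation (cellMap i pp pm).left := inferInstance
  haveI : LocallyOfFinitePresentation (cellMap i pp pm ⊗ₘ cellMap i pp pm).left :=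
    property_tensorHom _ _ @LocallyOfFinitePresentation inferInstance inferInstance
  rw [Over.comp_left, e, Over.comp_left]
  infer_instance

/-- A morphism of the cell multiplicative where defined extends uniquely to a homomorphism. -/
theorem exists_hom_of_cell (hG : Red.IsReductive G) (hΩ : IsOpenImmersion (cellMap i pp pm).left)
    (F : (Red.Ga S ⊗ T) ⊗ Red.Ga S ⟶ H)
    (hF : ∀ (X : Over S) (a b c : X ⟶ (Red.Ga S ⊗ T) ⊗ Red.Ga S),
      (a ≫ cellMap i pp pm) * (b ≫ cellMap i pp pm) = c ≫ cellMap i pp pm → (a ≫ F) * (b ≫ F) = c ≫ F) :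
    ∃ f : G ⟶ H, IsMonHom f ∧ cellMap i pp pm ≫ f = F := by
  let C := (Red.Ga S ⊗ T) ⊗ Red.Ga S
  let cm := cellMap i pp pm
  let Φ : C ⊗ C ⟶ H := (fst C C ≫ F) * (snd C C ≫ F)⁻¹
  let dc := divCell i pp pm
  have hdc : ∀ {X : Over S} (a b : X ⟶ C), lift a b ≫ dc = (a ≫ cm) * (b ≫ cm)⁻¹ := fun a b => by
    rw [← Category.assoc, lift_map, MonObj.comp_mul, GrpObj.comp_inv, lift_fst, lift_snd]
  have hΦ : ∀ {X : Over S} (a b : X ⟶ C), lift a b ≫ Φ = (a ≫ F) * (b ≫ F)⁻¹ := fun a b => by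
    simp [Φ, MonObj.comp_mul, GrpObj.comp_inv]
  have hone : ∀ X : Over S, (lift (lift 1 1) 1 : X ⟶ C) ≫ cm = 1 := fun X => by
    rw [cell_comp, MonObj.one_comp, MonObj.one_comp, MonObj.one_comp, _root_.one_mul, _root_.one_mul]
  have hwd : ∀ {Z : Scheme.{u}} (g₁ g₂ : Z ⟶ (C ⊗ C).left), g₁ ≫ dc.left = g₂ ≫ dc.left →
      g₁ ≫ Φ.left = g₂ ≫ Φ.left := by
    intro Z g₁ g₂ e
    let Y : Over S := Over.mk (g₁ ≫ (C ⊗ C).hom)
    let l₁ : Y ⟶ C ⊗ C := Over.homMk g₁ rfl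
    let l₂ : Y ⟶ C ⊗ C := Over.homMk g₂ (by
      show g₂ ≫ (C ⊗ C).hom = g₁ ≫ (C ⊗ C).hom
      rw [← Over.w dc, ← Category.assoc, ← e, Category.assoc])
    suffices l₁ ≫ Φ = l₂ ≫ Φ from congrArg CommaMorphism.left this
    have e' : l₁ ≫ dc = l₂ ≫ dc := Over.OverMorphism.ext e
    obtain ⟨a, b, hl₁⟩ : ∃ a b, lift a b = l₁ := ⟨l₁ ≫ fst _ _, l₁ ≫ snd _ _, by ext <;> simp⟩
    obtain ⟨c, d, hl₂⟩ : ∃ c d, lift c d = l₂ := ⟨l₂ ≫ fst _ _, l₂ ≫ snd _ _, by ext <;> simp⟩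
    rw [← hl₁, ← hl₂] at e' ⊢
    rw [hdc, hdc] at e'
    obtain ⟨X', π, k, hπ, v₁, v₂, v₃, v₄, h₁, h₂, h₃, h₄⟩ :=
      exists_generic hG hΩ (1 : Y ⟶ G) ((a ≫ cm) * (b ≫ cm)⁻¹) (b ≫ cm)⁻¹ (d ≫ cm)⁻¹
    rw [← cancel_epi π, hΦ, hΦ]
    simp only [MonObj.comp_mul, GrpObj.comp_inv, MonObj.comp_one, _root_.one_mul] at h₁ h₂ h₃ h₄ ⊢
    have eg : π ≫ a ≫ cm * (π ≫ b ≫ cm)⁻¹ = π ≫ c ≫ cm * (π ≫ d ≫ cm)⁻¹ := by
      have := congrArg (π ≫ ·) e'
      simpa only [MonObj.comp_mul, GrpObj.comp_inv] using this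
    have hb : (π ≫ b) ≫ cm = π ≫ b ≫ cm := Category.assoc _ _ _
    have q₁ := hF X' (π ≫ b) v₃ v₁ (by rw [hb, h₃, h₁, mul_inv_cancel_left])
    have q₂ := hF X' (π ≫ a) v₃ v₂ (by rw [Category.assoc π a, h₃, h₂, _root_.mul_assoc])
    have q₃ := hF X' (π ≫ d) v₄ v₁ (by rw [Category.assoc π d, h₄, h₁, mul_inv_cancel_left])
    have q₄ := hF X' (π ≫ c) v₄ v₂ (by rw [Category.assoc π c, h₄, h₂, eg, _root_.mul_assoc])
    simp only [← Category.assoc]
    calc _ = ((π ≫ a) ≫ F * v₃ ≫ F) * ((π ≫ b) ≫ F * v₃ ≫ F)⁻¹ := by group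
      _ = ((π ≫ c) ≫ F * v₄ ≫ F) * ((π ≫ d) ≫ F * v₄ ≫ F)⁻¹ := by rw [q₁, q₂, q₃, q₄]
      _ = _ := by group
  haveI := flat_divCell hG.2.1 hΩ
  haveI := surjective_divCell hG hΩ
  haveI := lfp_divCell hG.2.1 hΩ
  haveI : Epi dc.left := Flat.epi_of_flat_of_surjective _
  let f₀ : G.left ⟶ H.left := EffectiveEpi.desc dc.left Φ.left hwd
  have hf₀ : dc.left ≫ f₀ = Φ.left := EffectiveEpi.fac _ _ _
  let f : G ⟶ H := Over.homMk f₀ (by
    rw [← cancel_epi dc.left, ← Category.assoc, hf₀, Over.w, Over.w])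
  have hf : dc ≫ f = Φ := Over.OverMorphism.ext hf₀
  have hval : ∀ {X : Over S} (g : X ⟶ G) (u v : X ⟶ C), (u ≫ cm) * (v ≫ cm)⁻¹ = g →
      g ≫ f = (u ≫ F) * (v ≫ F)⁻¹ := fun g u v e => by
    rw [← e, ← hdc, Category.assoc, hf, hΦ]
  refine ⟨f, ?_, ?_⟩
  · refine isMonHom_of_comp f fun X g g' => ?_
    obtain ⟨X', π, k, hπ, v₁, v₂, v₃, -, h₁, h₂, h₃, -⟩ := exists_generic hG hΩ (1 : X ⟶ G) g' (g * g') 1
    rw [MonObj.comp_one, _root_.one_mul] at h₁
    rw [MonObj.comp_mul] at h₃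
    rw [← cancel_epi π, MonObj.comp_mul, ← Category.assoc, ← Category.assoc, ← Category.assoc,
      hval (π ≫ g) v₃ v₂ (by rw [h₂, h₃]; simp [mul_inv_rev, _root_.mul_assoc]),
      hval (π ≫ g') v₂ v₁ (by rw [h₂, h₁, mul_inv_cancel_right]),
      hval (π ≫ (g * g')) v₃ v₁ (by rw [h₃, h₁, mul_inv_cancel_right, MonObj.comp_mul])]
    group
  · have e := hval cm (𝟙 C) (lift (lift 1 1) 1) (by
      rw [hone, inv_one, _root_.mul_one, Category.id_comp])
    have h1 := hF C (lift (lift 1 1) 1) (lift (lift 1 1) 1) (lift (lift 1 1) 1) (by rw [hone, _root_.one_mul])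
    rw [mul_eq_left.mp h1, inv_one, _root_.mul_one, Category.id_comp] at e
    exact e

end Groth.Agent.GrpSchLib.RankOne
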