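import Groth.Agent.GrpSchLib.RankOne

/-! The rank-one commutation rule from the generators-and-relations data, in abstract groups. -/

set_option autoImplicit false

namespace Groth.Agent.GrpSchLib.RankOne

/-- A root group, a torus and a Weyl element subject to the four relations. -/
structure Pre (R H T : Type*) [CommRing R] [Group H] [CommGroup T] where
  p : R → H
  I : T →* H
  a : T →* Rˣ
  av : Rˣ →* T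
  h : H
  p_add : ∀ x y, p (x + y) = p x * p y
  conj_p : ∀ t x, I t * p x * (I t)⁻¹ = p (a t * x)
  a_av : ∀ v, a (av v) = v ^ 2
  conj_h : ∀ t, h * I t * h⁻¹ = I (t * (av (a t))⁻¹)
  h_sq : h ^ 2 = I (av (-1))
  cube : (h * p 1) ^ 3 = 1

namespace Pre

variable {R H T : Type*} [CommRing R] [Group H] [CommGroup T] (Φ : Pre R H T)

/-- The opposite root group. -/
def m (y : R) : H := Φ.h * Φ.p (-y) * Φ.h⁻¹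

/-- The Weyl element of a unit. -/
def w (x : Rˣ) : H := Φ.I (Φ.av x) * Φ.h

@[simp] theorem p_zero : Φ.p 0 = 1 := by simpa using Φ.p_add 0 0

theorem p_neg (x : R) : Φ.p (-x) = (Φ.p x)⁻¹ := by
  rw [eq_inv_iff_mul_eq_one, ← Φ.p_add, neg_add_cancel, p_zero]

@[simp] theorem m_zero : Φ.m 0 = 1 := by simp [m]

theorem m_add (x y : R) : Φ.m (x + y) = Φ.m x * Φ.m y := by
  simp only [m, neg_add, Φ.p_add]; group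

theorem I_mul_h (t : T) : Φ.I t * Φ.h = Φ.h * Φ.I (t * (Φ.av (Φ.a t))⁻¹) := by
  have h1 := Φ.conj_h (t * (Φ.av (Φ.a t))⁻¹)
  have e : t * (Φ.av (Φ.a t))⁻¹ * (Φ.av (Φ.a (t * (Φ.av (Φ.a t))⁻¹)))⁻¹ = t := by
    rw [map_mul Φ.a, map_inv Φ.a, Φ.a_av, pow_two, mul_inv_rev, mul_inv_cancel_left, map_inv, inv_inv,
      inv_mul_cancel_right]
  rw [e] at h1
  rw [← h1]; group

theorem conj_m (t : T) (y : R) : Φ.I t * Φ.m y * (Φ.I t)⁻¹ = Φ.m (((Φ.a t)⁻¹ : Rˣ) * y) := by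
  have e : Φ.a (t * (Φ.av (Φ.a t))⁻¹) = (Φ.a t)⁻¹ := by
    rw [map_mul Φ.a, map_inv Φ.a, Φ.a_av, pow_two, mul_inv_rev, mul_inv_cancel_left]
  calc Φ.I t * Φ.m y * (Φ.I t)⁻¹
      = (Φ.I t * Φ.h) * Φ.p (-y) * (Φ.I t * Φ.h)⁻¹ := by rw [m]; group
    _ = Φ.h * (Φ.I (t * (Φ.av (Φ.a t))⁻¹) * Φ.p (-y) * (Φ.I (t * (Φ.av (Φ.a t))⁻¹))⁻¹) * Φ.h⁻¹ := by
        rw [I_mul_h]; group
    _ = _ := by rw [Φ.conj_p, e, m, mul_neg]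

/-- `p(x) m(-x⁻¹) p(x) = w(x)`. -/
def IsW (x : Rˣ) : Prop := Φ.p x * Φ.m (-((x⁻¹ : Rˣ) : R)) * Φ.p x = Φ.w x

theorem isW_one : Φ.IsW 1 := by
  have hc : Φ.h ^ 2 * Φ.p 1 = Φ.p 1 * Φ.h ^ 2 := by
    rw [Φ.h_sq]
    have := Φ.conj_p (Φ.av (-1)) 1
    rw [Φ.a_av, neg_one_sq, Units.val_one, _root_.one_mul] at this
    exact mul_inv_eq_iff_eq_mul.mp this
  have h4 : Φ.h ^ 2 * Φ.h ^ 2 = 1 := by rw [Φ.h_sq, ← map_mul, ← map_mul, neg_mul_neg, _root_.one_mul, map_one, map_one]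
  show Φ.p ((1 : Rˣ) : R) * (Φ.h * Φ.p (- -(((1 : Rˣ)⁻¹ : Rˣ) : R)) * Φ.h⁻¹) * Φ.p ((1 : Rˣ) : R) = Φ.I (Φ.av 1) * Φ.h
  rw [inv_one, Units.val_one, neg_neg, map_one, map_one, _root_.one_mul]
  have c3 : Φ.h * Φ.p 1 * (Φ.h * Φ.p 1) * (Φ.h * Φ.p 1) = 1 := by
    have := Φ.cube
    rwa [pow_succ, pow_two] at this
  calc Φ.p 1 * (Φ.h * Φ.p 1 * Φ.h⁻¹) * Φ.p 1
      = Φ.h⁻¹ * ((Φ.h * Φ.p 1 * (Φ.h * Φ.p 1) * (Φ.h * Φ.p 1))) * (Φ.p 1)⁻¹ *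
          ((Φ.h ^ 2)⁻¹ * Φ.p 1) := by group
    _ = Φ.h⁻¹ * (Φ.p 1)⁻¹ * ((Φ.h ^ 2)⁻¹ * Φ.p 1) := by rw [c3, _root_.mul_one]
    _ = Φ.h⁻¹ * (Φ.p 1)⁻¹ * (Φ.p 1 * (Φ.h ^ 2)⁻¹) := by
        congr 1
        rw [inv_mul_eq_iff_eq_mul, ← _root_.mul_assoc, hc, mul_inv_cancel_right]
    _ = (Φ.h ^ 2 * Φ.h ^ 2)⁻¹ * Φ.h := by group
    _ = Φ.h := by rw [h4, inv_one, _root_.one_mul]

theorem isW_sq (z : Rˣ) : Φ.IsW (z ^ 2) := by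
  have h := congrArg (fun g => Φ.I (Φ.av z) * g * (Φ.I (Φ.av z))⁻¹) Φ.isW_one
  have e : ∀ g k l : H, Φ.I (Φ.av z) * (g * k * l) * (Φ.I (Φ.av z))⁻¹ =
      (Φ.I (Φ.av z) * g * (Φ.I (Φ.av z))⁻¹) * (Φ.I (Φ.av z) * k * (Φ.I (Φ.av z))⁻¹) *
        (Φ.I (Φ.av z) * l * (Φ.I (Φ.av z))⁻¹) := fun g k l => by group
  simp only [e, Φ.conj_p, conj_m, Φ.a_av, inv_one, Units.val_one, mul_neg, _root_.mul_one] at h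
  unfold IsW
  rw [h, w, w, map_one, map_one, _root_.one_mul]
  have hh : Φ.h * (Φ.I (Φ.av z))⁻¹ = Φ.I (Φ.av z) * Φ.h := by
    have := Φ.conj_h (Φ.av z)⁻¹
    rw [map_inv Φ.a, Φ.a_av, map_inv Φ.av, inv_inv, map_pow, pow_two, inv_mul_cancel_left, map_inv] at this
    exact mul_inv_eq_iff_eq_mul.mp this
  rw [_root_.mul_assoc, hh, map_pow, pow_two, map_mul, _root_.mul_assoc]

variable {Φ}

theorem w_mul_w (x v : Rˣ) : Φ.w x * Φ.w v = Φ.I (Φ.av (-(x * v⁻¹))) := by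
  have : Φ.h * Φ.I (Φ.av v) = Φ.I ((Φ.av v)⁻¹) * Φ.h := by
    have h1 := Φ.conj_h (Φ.av v)
    rw [Φ.a_av, map_pow, pow_two, mul_inv_rev, mul_inv_cancel_left] at h1
    rw [← h1, inv_mul_cancel_right]
  calc Φ.w x * Φ.w v = Φ.I (Φ.av x) * (Φ.h * Φ.I (Φ.av v)) * Φ.h := by simp only [w]; group
    _ = Φ.I (Φ.av x * (Φ.av v)⁻¹) * Φ.h ^ 2 := by rw [this, map_mul, pow_two]; group
    _ = _ := by rw [Φ.h_sq, ← map_mul, ← map_inv, ← map_mul, ← map_mul, mul_neg, _root_.mul_one]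

theorem w_conj_p (x : Rˣ) (z : R) :
    Φ.w x * Φ.p z * (Φ.w x)⁻¹ = Φ.m (-(((x⁻¹ : Rˣ) : R) * ((x⁻¹ : Rˣ) : R) * z)) := by
  calc Φ.w x * Φ.p z * (Φ.w x)⁻¹ = Φ.I (Φ.av x) * Φ.m (-z) * (Φ.I (Φ.av x))⁻¹ := by
        rw [w, m, neg_neg]; group
    _ = _ := by
        rw [conj_m, Φ.a_av, pow_two, mul_inv_rev, Units.val_mul]
        congr 1
        ring

/-- The rule at `(x, y)` with value `v = 1 + x y`. -/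
def Rule (Φ : Pre R H T) (x y : R) (v : Rˣ) : Prop :=
  Φ.p x * Φ.m y = Φ.m (((v⁻¹ : Rˣ) : R) * y) * Φ.I (Φ.av v) * Φ.p (((v⁻¹ : Rˣ) : R) * x)

theorem rule_unit (x v : Rˣ) (y : R) (hv : (v : R) = 1 + x * y) (h1 : Φ.IsW x) (h2 : Φ.IsW (-(x * v⁻¹))) :
    Φ.Rule x y v := by
  unfold IsW at h1 h2
  have hy : y = -((x⁻¹ : Rˣ) : R) + ((x⁻¹ : Rˣ) : R) * v := by
    rw [hv, mul_add, _root_.mul_one, Units.inv_mul_cancel_left, neg_add_cancel_left]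
  have e1 : -(((-(x * v⁻¹))⁻¹ : Rˣ) : R) = ((x⁻¹ : Rˣ) : R) * v := by
    rw [inv_neg, Units.val_neg, neg_neg, mul_inv_rev, inv_inv, Units.val_mul]; ring
  have e2 : ((-(x * v⁻¹) : Rˣ) : R) = -((x : R) * ((v⁻¹ : Rˣ) : R)) := by simp
  rw [e1, e2] at h2
  have hm : Φ.m (((x⁻¹ : Rˣ) : R) * v) =
      Φ.p ((x : R) * ((v⁻¹ : Rˣ) : R)) * Φ.w (-(x * v⁻¹)) * Φ.p ((x : R) * ((v⁻¹ : Rˣ) : R)) := by
    rw [← h2, p_neg]; group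
  have e3 : -(((x⁻¹ : Rˣ) : R) * ((x⁻¹ : Rˣ) : R) * (-(x : R) + (x : R) * ((v⁻¹ : Rˣ) : R))) =
      ((v⁻¹ : Rˣ) : R) * y := by
    linear_combination (-((v⁻¹ : Rˣ) : R)) * hy - ((x⁻¹ : Rˣ) : R) * v.inv_mul +
      ((x⁻¹ : Rˣ) : R) * (1 - ((v⁻¹ : Rˣ) : R)) * x.inv_mul
  have e4 : Φ.w x * Φ.w (-(x * v⁻¹)) = Φ.I (Φ.av v) := by
    rw [w_mul_w, inv_neg, mul_inv_rev, inv_inv, mul_neg, neg_neg, mul_comm v, mul_inv_cancel_left]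
  unfold Rule
  rw [← e3, ← w_conj_p, ← e4, mul_comm ((v⁻¹ : Rˣ) : R), Φ.p_add]
  calc Φ.p x * Φ.m y = Φ.p x * Φ.m (-((x⁻¹ : Rˣ) : R)) * Φ.p x * (Φ.p x)⁻¹ * Φ.m (((x⁻¹ : Rˣ) : R) * v) := by
        rw [hy, m_add]; group
    _ = Φ.w x * (Φ.p (-(x : R)) * Φ.p ((x : R) * ((v⁻¹ : Rˣ) : R)) * Φ.w (-(x * v⁻¹)) *
          Φ.p ((x : R) * ((v⁻¹ : Rˣ) : R))) := by rw [h1, hm, p_neg]; group
    _ = _ := by group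

theorem rule_add (x₁ x₂ y : R) (v v₁ : Rˣ) (hv : (v : R) = 1 + (x₁ + x₂) * y) (hv₁ : (v₁ : R) = 1 + x₁ * y)
    (h1 : Φ.Rule x₁ y v₁) (h2 : Φ.Rule x₂ (((v₁⁻¹ : Rˣ) : R) * y) (v * v₁⁻¹)) : Φ.Rule (x₁ + x₂) y v := by
  unfold Rule at h1 h2 ⊢
  have hIp : ∀ (u : Rˣ) (z : R), Φ.p z * Φ.I (Φ.av u) = Φ.I (Φ.av u) * Φ.p (((u ^ 2)⁻¹ : Rˣ) * z) := fun u z => by
    have := Φ.conj_p (Φ.av u) (((u ^ 2)⁻¹ : Rˣ) * z)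
    rw [Φ.a_av, ← _root_.mul_assoc, Units.mul_inv, _root_.one_mul] at this
    rw [← this, inv_mul_cancel_right]
  calc Φ.p (x₁ + x₂) * Φ.m y = Φ.p x₂ * (Φ.p x₁ * Φ.m y) := by rw [add_comm, Φ.p_add, _root_.mul_assoc]
    _ = (Φ.p x₂ * Φ.m (((v₁⁻¹ : Rˣ) : R) * y)) * Φ.I (Φ.av v₁) * Φ.p (((v₁⁻¹ : Rˣ) : R) * x₁) := by
        rw [h1]; group
    _ = Φ.m ((((v * v₁⁻¹)⁻¹ : Rˣ) : R) * (((v₁⁻¹ : Rˣ) : R) * y)) * Φ.I (Φ.av (v * v₁⁻¹)) *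
          (Φ.p ((((v * v₁⁻¹)⁻¹ : Rˣ) : R) * x₂) * Φ.I (Φ.av v₁)) * Φ.p (((v₁⁻¹ : Rˣ) : R) * x₁) := by
        rw [h2]; group
    _ = Φ.m (((v⁻¹ : Rˣ) : R) * y) * (Φ.I (Φ.av (v * v₁⁻¹)) * Φ.I (Φ.av v₁)) *
          (Φ.p (((v⁻¹ : Rˣ) : R) * ((v₁⁻¹ : Rˣ) : R) * x₂) * Φ.p (((v₁⁻¹ : Rˣ) : R) * x₁)) := by
        rw [hIp]
        simp only [mul_inv_rev, inv_inv, Units.val_mul]
        rw [show (v₁ : R) * ((v⁻¹ : Rˣ) : R) * (((v₁⁻¹ : Rˣ) : R) * y) = ((v⁻¹ : Rˣ) : R) * y by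
          linear_combination ((v⁻¹ : Rˣ) : R) * y * v₁.mul_inv,
          show (((v₁ ^ 2)⁻¹ : Rˣ) : R) * ((v₁ : R) * ((v⁻¹ : Rˣ) : R) * x₂) =
            ((v⁻¹ : Rˣ) : R) * ((v₁⁻¹ : Rˣ) : R) * x₂ by
            rw [pow_two, mul_inv_rev, Units.val_mul]
            linear_combination ((v⁻¹ : Rˣ) : R) * ((v₁⁻¹ : Rˣ) : R) * x₂ * v₁.inv_mul]
        group
    _ = _ := by
        rw [← map_mul, ← map_mul, inv_mul_cancel_right, ← Φ.p_add]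
        congr 2
        linear_combination ((v⁻¹ : Rˣ) : R) * x₂ * v₁.inv_mul - x₁ * ((v₁⁻¹ : Rˣ) : R) * v.inv_mul +
          ((v⁻¹ : Rˣ) : R) * ((v₁⁻¹ : Rˣ) : R) * (x₁ * hv - x₂ * hv₁) +
          ((v⁻¹ : Rˣ) : R) * x₁ * v₁.inv_mul - ((v⁻¹ : Rˣ) : R) * x₁ * ((v₁⁻¹ : Rˣ) : R) * hv₁

end Pre

end Groth.Agent.GrpSchLib.RankOne
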