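import Groth.Agent.GrpSchLib.RankOneClosed
import Groth.Agent.GrpSchLib.RankOneExtend
import Groth.Agent.GrpSchLib.RankOneCommThm
import Groth.Agent.GrpSchLib.RankOneRelAlg
import Mathlib.RingTheory.AdjoinRoot
import Mathlib.AlgebraicGeometry.Morphisms.Flat

/-! Homomorphisms out of a rank-one group: by generators and relations, and given on the root groups. -/

set_option autoImplicit false
set_option backward.isDefEq.respectTransparency false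
set_option linter.style.haveILetI false

universe u

open CategoryTheory CategoryTheory.Limits AlgebraicGeometry MonoidalCategory CartesianMonoidalCategory
open scoped MonObj DualNumber

noncomputable section

namespace Groth.Agent.GrpSchLib.RankOneClosed

open RankOneComm (res pt gpt val gval sv res_pt val_pt pt_val gval_gpt Hyp coef good_iff rel_unique Good Rel)
open RankOne (Sys Pre)

variable {S : Scheme.{u}} {G T : Over S} [GrpObj G] [GrpObj T] {i : T ⟶ G} [IsMonHom i] {α : T ⟶ Red.Gm S}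
  [IsMonHom α] {pp pm : Red.Ga S ⟶ G} [IsMonHom pp] [IsMonHom pm] {av : Red.Gm S ⟶ T} [IsMonHom av]

section Cell

variable (D : Data i α pp pm av) (hα : ∀ s : S, (Over.pullback (Red.geomPt s)).map α ≠ 1)
include D hα

theorem hyp : Hyp i α pp pm :=
  ⟨D.hT, inferInstance, inferInstance, inferInstance, inferInstance, hα, D.hpp, D.hpm, D.hΩ⟩

theorem coef_eq_one {A : Type u} [CommRing A] (b : Spec (CommRingCat.of A) ⟶ S) :
    coef (hyp D hα) b = 1 := by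
  let H := hyp D hα
  let Φ := sysAt D (RankOneComm.dbase b)
  let v : (A[ε])ˣ := ⟨1 + ε, 1 - ε, by ext <;> simp, by ext <;> simp⟩
  have h := Φ.rule ε 1 v (by simp [v])
  refine (RankOneComm.exists_coef H b).unique (RankOneComm.coef_spec H b)
    ⟨Φ.av v, ((v⁻¹ : (A[ε])ˣ) : A[ε]) * ε, ?_⟩
  refine h.trans ?_
  congr 2
  show pt _ (((v⁻¹ : (A[ε])ˣ) : A[ε]) * 1) ≫ pm = _
  rw [_root_.mul_one]
  rfl

/-- The product of `p(x)` and `m(y)` is in the cell iff `1 + x y` is invertible. -/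
theorem good_iff_unit {A : Type u} [CommRing A] (b : Spec (CommRingCat.of A) ⟶ S) (x y : A) :
    RankOneComm.Good i pp pm b x y ↔ IsUnit (1 + x * y) := by
  rw [good_iff (hyp D hα) b x y, coef_eq_one D hα, _root_.one_mul]

variable {H : Over S} [GrpObj H] (fT : T ⟶ H) (fp fm : Red.Ga S ⟶ H)

/-- Data satisfying the relations of the cell give a homomorphism. -/
theorem exists_hom_of_sys
    (h : ∀ (A : Type u) [CommRing A] (b : Spec (CommRingCat.of A) ⟶ S),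
      ∃ Ψ : Sys A (Over.mk b ⟶ H) (Over.mk b ⟶ T), (∀ x, Ψ.p x = pt b x ≫ fp) ∧ (∀ x, Ψ.m x = pt b x ≫ fm) ∧
        (∀ t, Ψ.I t = t ≫ fT) ∧ Ψ.a = (sysAt D b).a ∧ Ψ.av = (sysAt D b).av) :
    ∃ f : G ⟶ H, IsMonHom f ∧ i ≫ f = fT ∧ pp ≫ f = fp ∧ pm ≫ f = fm := by
  have hH : ∀ {A : Type u} [CommRing A] (b : Spec (CommRingCat.of A) ⟶ S)
      (l : Over.mk b ⟶ (Red.Ga S ⊗ T) ⊗ Red.Ga S), ∀ Ψ : Sys A (Over.mk b ⟶ H) (Over.mk b ⟶ T),
      (∀ x, Ψ.p x = pt b x ≫ fp) → (∀ x, Ψ.m x = pt b x ≫ fm) → (∀ t, Ψ.I t = t ≫ fT) →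
      l ≫ RankOne.cellMap fT fp fm = Ψ.m (val b (l ≫ fst _ _ ≫ fst _ _)) * Ψ.I (l ≫ fst _ _ ≫ snd _ _) *
        Ψ.p (val b (l ≫ snd _ _)) := by
    intro A _ b l Ψ hp hm hI
    rw [hp, hm, hI, pt_val, pt_val, ← RankOne.cell_comp]
    congr 1
    ext <;> simp
  obtain ⟨f, hf, hcf⟩ := RankOne.exists_hom_of_cell D.hG D.hΩ (RankOne.cellMap fT fp fm) (fun X a b c e => by
    refine RankOne.ext_spec fun A bA j => ?_
    rw [MonObj.comp_mul, ← Category.assoc j a, ← Category.assoc j b, ← Category.assoc j c]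
    have e' := congrArg (j ≫ ·) e
    simp only [MonObj.comp_mul] at e'
    obtain ⟨Ψ, hp, hm, hI, ha, hav⟩ := h A bA
    rw [hH (A := A) bA (j ≫ a) Ψ hp hm hI, hH (A := A) bA (j ≫ b) Ψ hp hm hI, hH (A := A) bA (j ≫ c) Ψ hp hm hI]
    let Φ := sysAt D (A := A) bA
    have hG' : ∀ l : Over.mk bA ⟶ (Red.Ga S ⊗ T) ⊗ Red.Ga S, l ≫ RankOne.cellMap i pp pm =
        Φ.m (val (A := A) bA (l ≫ fst _ _ ≫ fst _ _)) * Φ.I (l ≫ fst _ _ ≫ snd _ _) *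
          Φ.p (val (A := A) bA (l ≫ snd _ _)) := fun l => by
      show _ = (pt (A := A) bA _ ≫ pm) * ((l ≫ fst _ _ ≫ snd _ _) ≫ i) * (pt (A := A) bA _ ≫ pp)
      rw [pt_val, pt_val, ← RankOne.cell_comp]
      congr 1
      ext <;> simp
    have e1 : (j ≫ a) ≫ RankOne.cellMap i pp pm * (j ≫ b) ≫ RankOne.cellMap i pp pm =
        (j ≫ c) ≫ RankOne.cellMap i pp pm := by
      rw [Category.assoc, Category.assoc, Category.assoc]
      exact e'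
    rw [hG', hG', hG'] at e1
    set y₁ := val (A := A) bA ((j ≫ a) ≫ fst _ _ ≫ fst _ _)
    set t₁ := (j ≫ a) ≫ fst (Red.Ga S ⊗ T) (Red.Ga S) ≫ snd (Red.Ga S) T
    set x₁ := val (A := A) bA ((j ≫ a) ≫ snd _ _)
    set y₂ := val (A := A) bA ((j ≫ b) ≫ fst _ _ ≫ fst _ _)
    set t₂ := (j ≫ b) ≫ fst (Red.Ga S ⊗ T) (Red.Ga S) ≫ snd (Red.Ga S) T
    set x₂ := val (A := A) bA ((j ≫ b) ≫ snd _ _)
    set y₃ := val (A := A) bA ((j ≫ c) ≫ fst _ _ ≫ fst _ _)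
    set t₃ := (j ≫ c) ≫ fst (Red.Ga S ⊗ T) (Red.Ga S) ≫ snd (Red.Ga S) T
    set x₃ := val (A := A) bA ((j ≫ c) ≫ snd _ _)
    obtain ⟨v, hv⟩ : IsUnit (1 + x₁ * y₂) := (good_iff_unit D hα (A := A) bA x₁ y₂).mp ⟨
      ((Φ.a t₁ : Aˣ) : A) * (y₃ - y₁), t₁⁻¹ * t₃ * t₂⁻¹, ((Φ.a t₂ : Aˣ) : A) * (x₃ - x₂), by
        show Φ.p x₁ * Φ.m y₂ = Φ.m _ * Φ.I _ * Φ.p _
        have : Φ.p x₁ * Φ.m y₂ = (Φ.I t₁)⁻¹ * Φ.m (-y₁) * (Φ.m y₁ * Φ.I t₁ * Φ.p x₁ * (Φ.m y₂ * Φ.I t₂ * Φ.p x₂)) *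
            Φ.p (-x₂) * (Φ.I t₂)⁻¹ := by rw [Φ.m_neg, Φ.p_neg]; group
        rw [this, e1, ← Φ.conj_p, map_mul, map_mul, map_inv, map_inv]
        rw [show ((Φ.a t₁ : Aˣ) : A) * (y₃ - y₁) = (((Φ.a t₁⁻¹)⁻¹ : Aˣ) : A) * (y₃ + -y₁) by
          rw [map_inv, inv_inv, sub_eq_add_neg]]
        rw [← Φ.conj_m, map_inv, add_comm y₃, sub_eq_add_neg, Φ.m_add, Φ.p_add]
        group⟩
    rw [Φ.bigCell_mul _ _ _ _ _ _ v hv] at e1
    obtain ⟨ey, et, ex⟩ := RankOne.cell_ext D.hΩ (show (pt (A := A) bA _ ≫ pm) * (_ ≫ i) * (pt (A := A) bA _ ≫ pp) =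
      (pt (A := A) bA _ ≫ pm) * (_ ≫ i) * (pt (A := A) bA _ ≫ pp) from e1)
    rw [Ψ.bigCell_mul _ _ _ _ _ _ v hv, ha, hav]
    rw [RankOneComm.pt_injective (b := bA) ey, et, RankOneComm.pt_injective (b := bA) ex])
  haveI := hf
  have hc : ∀ {X : Over S} (y : X ⟶ Red.Ga S) (t : X ⟶ T) (x : X ⟶ Red.Ga S),
      ((y ≫ pm) * (t ≫ i) * (x ≫ pp)) ≫ f = (y ≫ fm) * (t ≫ fT) * (x ≫ fp) := fun {X} y t x => by
    rw [← RankOne.cell_comp, Category.assoc, hcf, RankOne.cell_comp]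
  have hone : ∀ X : Over S, (1 : X ⟶ Red.Ga S) ≫ fm = 1 ∧ (1 : X ⟶ Red.Ga S) ≫ fp = 1 ∧ (1 : X ⟶ T) ≫ fT = 1 := by
    intro X
    refine ⟨RankOne.ext_spec fun A bA j => ?_, RankOne.ext_spec fun A bA j => ?_, RankOne.ext_spec fun A bA j => ?_⟩ <;>
      obtain ⟨Ψ, hp, hm, hI, -, -⟩ := h A bA <;> rw [← Category.assoc, MonObj.comp_one, MonObj.comp_one]
    · rw [← RankOneComm.pt_zero (A := A), ← hm, Ψ.m_zero]
    · rw [← RankOneComm.pt_zero (A := A), ← hp, Ψ.p_zero]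
    · rw [← hI, map_one]
  obtain ⟨o1, -, o3⟩ := hone (Red.Ga S)
  obtain ⟨t1, t2, -⟩ := hone T
  obtain ⟨-, o2, -⟩ := hone (Red.Ga S)
  refine ⟨f, hf, ?_, ?_, ?_⟩
  · have := hc (1 : T ⟶ Red.Ga S) (𝟙 T) 1
    simpa [MonObj.one_comp, t1, t2] using this
  · have := hc (1 : Red.Ga S ⟶ Red.Ga S) 1 (𝟙 (Red.Ga S))
    simpa [MonObj.one_comp, o1, o3] using this
  · have := hc (𝟙 (Red.Ga S)) 1 (1 : Red.Ga S ⟶ Red.Ga S)
    simpa [MonObj.one_comp, o2, o3] using this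

omit hα in
/-- A homomorphism is determined by the torus and the two root groups. -/
theorem hom_ext (f f' : G ⟶ H) [IsMonHom f] [IsMonHom f'] (hi : i ≫ f = i ≫ f') (hp : pp ≫ f = pp ≫ f')
    (hm : pm ≫ f = pm ≫ f') : f = f' := by
  refine RankOne.hom_ext_cell D.hG D.hΩ f f' ?_
  have e : lift (lift (fst _ _ ≫ fst _ _) (fst _ _ ≫ snd _ _)) (snd _ _) =
      𝟙 ((Red.Ga S ⊗ T) ⊗ Red.Ga S) := by ext <;> simp
  rw [← Category.id_comp (RankOne.cellMap i pp pm ≫ f), ← Category.id_comp (RankOne.cellMap i pp pm ≫ f'), ← e,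
    ← Category.assoc _ (RankOne.cellMap i pp pm) f, ← Category.assoc _ (RankOne.cellMap i pp pm) f', RankOne.cell_comp]
  simp only [MonObj.mul_comp, Category.assoc, hi, hp, hm]

end Cell

end Groth.Agent.GrpSchLib.RankOneClosed
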