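import Groth.Agent.GrpSchLib.RankOneHomGen

/-! The commutation rule in any group scheme from generators and relations. -/

set_option autoImplicit false
set_option backward.isDefEq.respectTransparency false
set_option linter.style.haveILetI false

universe u

open CategoryTheory CategoryTheory.Limits AlgebraicGeometry MonoidalCategory CartesianMonoidalCategory
open scoped MonObj Polynomial

noncomputable section

namespace Groth.Agent.GrpSchLib.RankOneClosed

open RankOneComm (res pt gpt val gval sv res_pt val_pt pt_val gval_gpt)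
open RankOne (Sys Pre)

variable {S : Scheme.{u}} {G T H : Over S} [GrpObj G] [GrpObj T] [GrpObj H] {i : T ⟶ G} [IsMonHom i]
  {α : T ⟶ Red.Gm S} [IsMonHom α] {pp pm : Red.Ga S ⟶ G} [IsMonHom pp] [IsMonHom pm] {av : Red.Gm S ⟶ T}
  [IsMonHom av]

/-- The four relations. -/
structure Rels (α : T ⟶ Red.Gm S) (av : Red.Gm S ⟶ T) (fT : T ⟶ H) (fα : Red.Ga S ⟶ H)
    (h : 𝟙_ (Over S) ⟶ H) : Prop where
  r1 : ∀ (X : Over S) (t : X ⟶ T) (x x' : X ⟶ Red.Ga S), Red.gaFn x' = Red.gmFn (t ≫ α) * Red.gaFn x →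
    (t ≫ fT) * (x ≫ fα) * (t ≫ fT)⁻¹ = x' ≫ fα
  r2 : ∀ (X : Over S) (t : X ⟶ T),
    (toUnit X ≫ h) * (t ≫ fT) * (toUnit X ≫ h)⁻¹ = (t * (t ≫ α ≫ av)⁻¹) ≫ fT
  r3 : ∀ (A : Type u) [CommRing A] (b : Spec (CommRingCat.of A) ⟶ S),
    (toUnit (Over.mk b) ≫ h) ^ 2 = (gpt b (-1 : Aˣ) ≫ av) ≫ fT
  r4 : ∀ (A : Type u) [CommRing A] (b : Spec (CommRingCat.of A) ⟶ S),
    ((toUnit (Over.mk b) ≫ h) * (pt b 1 ≫ fα)) ^ 3 = 1

variable {fT : T ⟶ H} [IsMonHom fT] {fα : Red.Ga S ⟶ H} [IsMonHom fα] {h : 𝟙_ (Over S) ⟶ H}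
  (D : Data i α pp pm av) (hR : Rels α av fT fα h)

/-- The opposite root group of the target. -/
def negMor (fα : Red.Ga S ⟶ H) (h : 𝟙_ (Over S) ⟶ H) : Red.Ga S ⟶ H :=
  (toUnit _ ≫ h) * ((𝟙 (Red.Ga S))⁻¹ ≫ fα) * (toUnit _ ≫ h)⁻¹

include D hR

/-- Points of the torus form an abelian group. -/
@[reducible] def commPts {A : Type u} [CommRing A] (b : Spec (CommRingCat.of A) ⟶ S) :
    CommGroup (Over.mk b ⟶ T) :=
  { (inferInstance : Group (Over.mk b ⟶ T)) with mul_comm := RankOne.torus_mul_comm D.hT _ }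

/-- The generators at an affine test object. -/
def preAt {A : Type u} [CommRing A] (b : Spec (CommRingCat.of A) ⟶ S) :
    @Pre A (Over.mk b ⟶ H) (Over.mk b ⟶ T) _ _ (commPts D b) :=
  letI := commPts D b
  { p := fun x => pt b x ≫ fα
    I := MonoidHom.mk' (fun t => t ≫ fT) fun t t' => MonObj.mul_comp t t' fT
    a := (sysAt D b).a
    av := (sysAt D b).av
    h := toUnit _ ≫ h
    p_add := fun x y => by rw [RankOneComm.pt_add, MonObj.mul_comp]
    conj_p := fun t x => hR.r1 _ t (pt b x) (pt b _) (by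
      simp only [pt, GaPts.gaFn_ptOfFn]
      show (sv b).symm (((sysAt D b).a t : A) * x) = _
      rw [map_mul]
      congr 1
      show (sv b).symm ((sv b) (GmPts.unitOfPt (t ≫ α) : Γ((Over.mk b).left, ⊤))) = _
      rw [RingEquiv.symm_apply_apply, GmPts.val_unitOfPt])
    a_av := (sysAt D b).a_av
    conj_h := fun t => by
      show (toUnit _ ≫ h) * (t ≫ fT) * (toUnit _ ≫ h)⁻¹ = (t * _) ≫ fT
      rw [hR.r2]
      congr 3
      show t ≫ α ≫ av = gpt b (gval b (t ≫ α)) ≫ av
      rw [← Category.assoc]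
      congr 1
      exact RankOneComm.gval_injective b (gval_gpt b _).symm
    h_sq := hR.r3 A b
    cube := hR.r4 A b }

theorem preAt_m {A : Type u} [CommRing A] (b : Spec (CommRingCat.of A) ⟶ S) (x : A) :
    letI := commPts D b
    (preAt D hR b).m x = pt b x ≫ negMor fα h := by
  show (toUnit _ ≫ h) * (pt b (-x) ≫ fα) * (toUnit _ ≫ h)⁻¹ = pt b x ≫ negMor fα h
  have e : pt b x ≫ (𝟙 (Red.Ga S))⁻¹ = pt b (-x) := by
    rw [GrpObj.comp_inv, Category.comp_id]
    refine inv_eq_of_mul_eq_one_right ?_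
    rw [← RankOneComm.pt_add, add_neg_cancel, RankOneComm.pt_zero]
  rw [negMor, MonObj.comp_mul, MonObj.comp_mul, GrpObj.comp_inv, ← Category.assoc, ← Category.assoc, e,
    toUnit_unique (pt b x ≫ toUnit _) (toUnit _)]

section Res

variable {A B : Type u} [CommRing A] [CommRing B] {b : Spec (CommRingCat.of A) ⟶ S}
  {b' : Spec (CommRingCat.of B) ⟶ S} (φ : A →+* B) (hb : Spec.map (CommRingCat.ofHom φ) ≫ b = b')

theorem res_pre_p (x : A) : res φ hb ≫ (letI := commPts D b; (preAt D hR b).p x) =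
    (letI := commPts D b'; (preAt D hR b').p (φ x)) := by
  show res φ hb ≫ pt b x ≫ fα = pt b' (φ x) ≫ fα
  rw [← Category.assoc, res_pt]

theorem res_pre_m (x : A) : res φ hb ≫ (letI := commPts D b; (preAt D hR b).m x) =
    (letI := commPts D b'; (preAt D hR b').m (φ x)) := by
  rw [preAt_m, preAt_m, ← Category.assoc, res_pt]

theorem res_pre_I (z : Aˣ) : res φ hb ≫ (letI := commPts D b; (preAt D hR b).I ((preAt D hR b).av z)) =
    (letI := commPts D b'; (preAt D hR b').I ((preAt D hR b').av (Units.map φ.toMonoidHom z))) := by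
  show res φ hb ≫ ((sysAt D b).av z ≫ fT) = (sysAt D b').av _ ≫ fT
  rw [← Category.assoc, res_av D]

theorem eq_of_cover {g g' : Over.mk b ⟶ H} (hs : Function.Surjective (PrimeSpectrum.comap φ))
    (hφ : φ.Flat) (e : res φ hb ≫ g = res φ hb ≫ g') : g = g' := by
  haveI : Flat (Spec.map (CommRingCat.ofHom φ)) := Flat.SpecMap_iff.mpr hφ
  haveI : Surjective (Spec.map (CommRingCat.ofHom φ)) := ⟨hs⟩
  haveI : Epi (res φ hb).left := Flat.epi_of_flat_of_surjective (Spec.map (CommRingCat.ofHom φ))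
  haveI : Epi (res φ hb) := Over.epi_of_epi_left _
  exact (cancel_epi (res φ hb)).mp e

end Res

/-- The Weyl identity holds at all units. -/
theorem isW_at {A : Type u} [CommRing A] (b : Spec (CommRingCat.of A) ⟶ S) (x : Aˣ) :
    letI := commPts D b
    (preAt D hR b).IsW x := by
  let P : A[X] := Polynomial.X ^ 2 - Polynomial.C (x : A)
  have hP : P.Monic := Polynomial.monic_X_pow_sub_C _ two_ne_zero
  let B := AdjoinRoot P
  haveI : Module.Free A B := hP.free_adjoinRoot
  haveI : Module.Finite A B := hP.finite_adjoinRoot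
  let φ := algebraMap A B
  have hroot : AdjoinRoot.root P * AdjoinRoot.root P = φ (x : A) := by
    have := AdjoinRoot.eval₂_root P
    rw [Polynomial.eval₂_sub, Polynomial.eval₂_X_pow, Polynomial.eval₂_C, sub_eq_zero, pow_two] at this
    exact this
  obtain ⟨z, hz⟩ : IsUnit (AdjoinRoot.root P) :=
    isUnit_of_mul_isUnit_left (hroot ▸ x.isUnit.map φ)
  have hinj : Function.Injective φ := by
    rcases subsingleton_or_nontrivial A with hA | hA
    · exact fun a a' _ => Subsingleton.elim a a'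
    intro a a' h
    rw [← sub_eq_zero]
    have h' : AdjoinRoot.mk P (Polynomial.C (a - a')) = 0 := by
      rw [map_sub, map_sub]
      exact sub_eq_zero.mpr h
    by_contra hne
    refine hP.not_dvd_of_degree_lt (Polynomial.C_ne_zero.mpr hne) ?_ (AdjoinRoot.mk_eq_zero.mp h')
    rw [Polynomial.degree_C hne, show P = _ from rfl, Polynomial.degree_X_pow_sub_C two_pos]
    norm_num
  let b' := Spec.map (CommRingCat.ofHom φ) ≫ b
  have h2 : z ^ 2 = Units.map φ.toMonoidHom x := Units.ext (by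
    rw [Units.val_pow_eq_pow_val, hz, pow_two, hroot]
    rfl)
  refine eq_of_cover D hR φ (b' := b') rfl ?_ (RingHom.flat_algebraMap_iff.mpr inferInstance) ?_
  · intro p
    haveI : FaithfulSMul A B := (faithfulSMul_iff_algebraMap_injective A B).mpr hinj
    exact Algebra.IsIntegral.comap_surjective A B p
  · letI := commPts D b'
    have h1 := (preAt D hR b').isW_sq z
    rw [h2, RankOne.Pre.IsW] at h1
    simp only [RankOne.Pre.w] at h1 ⊢
    rw [MonObj.comp_mul, MonObj.comp_mul, MonObj.comp_mul, res_pre_p D hR, res_pre_m D hR, res_pre_I D hR,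
      map_neg, show ∀ u : Aˣ, φ ((u⁻¹ : Aˣ) : A) = (((Units.map φ.toMonoidHom u)⁻¹ : Bˣ) : B) from fun _ => rfl]
    refine h1.trans ?_
    congr 1

/-- The commutation rule holds at every point. -/
theorem rule_at {A : Type u} [CommRing A] (b : Spec (CommRingCat.of A) ⟶ S) (x y : A) (v : Aˣ)
    (hv : (v : A) = 1 + x * y) :
    letI := commPts D b
    RankOne.Pre.Rule (preAt D hR b) x y v := by
  let P : A[X] := Polynomial.X * (Polynomial.C x - Polynomial.X) * (1 + Polynomial.X * Polynomial.C y)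
  let B := Localization.Away P
  let φ : A →+* B := (algebraMap A[X] B).comp Polynomial.C
  haveI : Module.Flat A B := Module.Flat.trans A A[X] B
  have hφ : φ.Flat := by
    rw [show φ = algebraMap A B from (IsScalarTower.algebraMap_eq A A[X] B).symm]
    exact (RingHom.flat_algebraMap_iff.mpr inferInstance)
  let b' := Spec.map (CommRingCat.ofHom φ) ≫ b
  have hu := IsLocalization.Away.algebraMap_isUnit (S := B) P
  simp only [P, map_mul] at hu
  obtain ⟨s, hs⟩ := isUnit_of_mul_isUnit_left (isUnit_of_mul_isUnit_left hu)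
  obtain ⟨r, hr⟩ := isUnit_of_mul_isUnit_right (isUnit_of_mul_isUnit_left hu)
  obtain ⟨v₁, hv₁⟩ := isUnit_of_mul_isUnit_right hu
  rw [map_sub] at hr
  rw [map_add, map_one, map_mul, ← hs] at hv₁
  have hr' : (r : B) = φ x - s := by rw [hr, hs]; rfl
  have hv₁' : (v₁ : B) = 1 + s * φ y := hv₁
  refine eq_of_cover D hR φ (b' := b') rfl ?_ hφ ?_
  · intro p
    let π := Polynomial.mapRingHom (Ideal.Quotient.mk p.asIdeal)
    haveI : (RingHom.ker π).IsPrime := RingHom.ker_isPrime _
    have hP : P ∉ RingHom.ker π := by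
      intro hP
      rw [RingHom.mem_ker] at hP
      simp only [P, π, map_mul, map_sub, map_add, map_one, Polynomial.coe_mapRingHom, Polynomial.map_mul,
        Polynomial.map_sub, Polynomial.map_add, Polynomial.map_one, Polynomial.map_X, Polynomial.map_C,
        mul_eq_zero] at hP
      rcases hP with (hP | hP) | hP
      · exact Polynomial.X_ne_zero hP
      · simpa using congrArg (Polynomial.coeff · 1) hP
      · simpa using congrArg (Polynomial.coeff · 0) hP
    obtain ⟨q, hq⟩ : (⟨RingHom.ker π, inferInstance⟩ : PrimeSpectrum A[X]) ∈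
        Set.range (PrimeSpectrum.comap (algebraMap A[X] B)) := by
      rw [PrimeSpectrum.localization_away_comap_range B P]
      exact hP
    refine ⟨q, PrimeSpectrum.ext ?_⟩
    show (q.asIdeal.comap φ) = p.asIdeal
    have hq' : q.asIdeal.comap (algebraMap A[X] B) = RingHom.ker π := congrArg PrimeSpectrum.asIdeal hq
    rw [show φ = (algebraMap A[X] B).comp Polynomial.C from rfl, ← Ideal.comap_comap, hq']
    ext a
    simp [π, Ideal.Quotient.eq_zero_iff_mem]
  · letI := commPts D b'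
    let Φ := preAt D hR b'
    let w := Units.map φ.toMonoidHom v
    have hw : (w : B) = 1 + φ x * φ y := by
      show φ v = _
      rw [hv, map_add, map_one, map_mul]
    have h1 : Φ.Rule (s : B) (φ y) v₁ :=
      RankOne.Pre.rule_unit s v₁ _ hv₁' (isW_at D hR b' s) (isW_at D hR b' _)
    have h2 : Φ.Rule (r : B) (((v₁⁻¹ : Bˣ) : B) * φ y) (w * v₁⁻¹) := by
      refine RankOne.Pre.rule_unit r _ _ ?_ (isW_at D hR b' r) (isW_at D hR b' _)
      rw [Units.val_mul, hw, hr']
      linear_combination v₁.mul_inv - ((v₁⁻¹ : Bˣ) : B) * hv₁'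
    have h3 := RankOne.Pre.rule_add (Φ := Φ) (s : B) r (φ y) w v₁
      (by rw [hw, hr', add_sub_cancel]) hv₁' h1 h2
    rw [hr', add_sub_cancel, RankOne.Pre.Rule] at h3
    simp only [MonObj.comp_mul, res_pre_p D hR, res_pre_m D hR, res_pre_I D hR, map_mul, show ∀ u : Aˣ, φ ((u⁻¹ : Aˣ) : A) = (((Units.map φ.toMonoidHom u)⁻¹ : Bˣ) : B) from fun _ => rfl]
    exact h3

/-- The system in the target. -/
theorem exists_sys {A : Type u} [CommRing A] (b : Spec (CommRingCat.of A) ⟶ S) :
    ∃ Ψ : Sys A (Over.mk b ⟶ H) (Over.mk b ⟶ T), (∀ x, Ψ.p x = pt b x ≫ fα) ∧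
      (∀ x, Ψ.m x = pt b x ≫ negMor fα h) ∧ (∀ t, Ψ.I t = t ≫ fT) ∧ Ψ.a = (sysAt D b).a ∧
        Ψ.av = (sysAt D b).av :=
  letI := commPts D b
  let Φ := preAt D hR b
  ⟨{  p := Φ.p
      m := Φ.m
      I := Φ.I
      a := Φ.a
      av := Φ.av
      p_add := Φ.p_add
      m_add := Φ.m_add
      conj_p := Φ.conj_p
      conj_m := Φ.conj_m
      a_av := Φ.a_av
      rule := fun x y v hv => rule_at D hR b x y v hv },
    fun _ => rfl, fun x => preAt_m D hR b x, fun _ => rfl, rfl, rfl⟩

end Groth.Agent.GrpSchLib.RankOneClosed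

namespace Groth.Agent.GrpSchLib.RankOne.Sys

/-- Conjugation by `w(1)` on units. -/
theorem w_conj_p_unit {K G T : Type*} [CommRing K] [Group G] [Group T] {Φ : Sys K G T} (hb : Φ.Braided) (u : Kˣ) :
    Φ.w 1 * Φ.p u * (Φ.w 1)⁻¹ = Φ.m (-(u : K)) := by
  have e : Φ.w u = Φ.I (Φ.av u) * Φ.w 1 := by rw [← w_mul, _root_.mul_one]
  have hp := w_conj_self hb u
  rw [e] at hp
  calc Φ.w 1 * Φ.p u * (Φ.w 1)⁻¹
      = Φ.I (Φ.av u⁻¹) * Φ.m (-((u⁻¹ : Kˣ) : K)) * (Φ.I (Φ.av u⁻¹))⁻¹ := by
        rw [← hp, map_inv Φ.av, map_inv]; group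
    _ = _ := by
        rw [Φ.conj_m, Φ.a_av, inv_pow, _root_.inv_inv, Units.val_pow_eq_pow_val]
        congr 1
        linear_combination -(u : K) * u.mul_inv

end Groth.Agent.GrpSchLib.RankOne.Sys

namespace Groth.Agent.GrpSchLib.RankOneClosed

open RankOneComm (res pt val res_pt pt_val)

variable {S : Scheme.{u}} {G : Over S}

/-- Morphisms from the additive group which agree at invertible coordinates are equal. -/
theorem ext_units [IsAffineHom G.hom] (k k' : Red.Ga S ⟶ G)
    (h : ∀ (A : Type u) [CommRing A] (b : Spec (CommRingCat.of A) ⟶ S) (u : Aˣ), pt b (u : A) ≫ k = pt b (u : A) ≫ k') :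
    k = k' := by
  refine RankOne.ext_spec fun A b j => ?_
  rw [← pt_val (A := A) b j]
  let φ : A →+* Polynomial A := Polynomial.C
  let ψ : Polynomial A →+* LaurentPolynomial A := Polynomial.toLaurent
  let b₁ : Spec (CommRingCat.of (Polynomial A)) ⟶ S := Spec.map (CommRingCat.ofHom φ) ≫ b
  let b₂ : Spec (CommRingCat.of (LaurentPolynomial A)) ⟶ S := Spec.map (CommRingCat.ofHom ψ) ≫ b₁
  have h1 : pt b₁ (Polynomial.X : Polynomial A) ≫ k = pt b₁ (Polynomial.X : Polynomial A) ≫ k' := by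
    refine RankOne.eq_of_injective (A := CommRingCat.of (Polynomial A)) (B := CommRingCat.of (LaurentPolynomial A))
      ψ (b' := b₂) rfl Polynomial.toLaurent_injective ?_
    show res ψ (b' := b₂) rfl ≫ _ = res ψ (b' := b₂) rfl ≫ _
    simp only [← Category.assoc, res_pt]
    have hX : ψ Polynomial.X = ((LaurentPolynomial.isUnit_T (R := A) 1).unit : LaurentPolynomial A) := by
      rw [IsUnit.unit_spec]
      exact Polynomial.toLaurent_X
    rw [hX]
    exact h _ b₂ _
  let ev : Polynomial A →+* A := Polynomial.evalRingHom (val (A := A) b j)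
  have hev : Spec.map (CommRingCat.ofHom ev) ≫ b₁ = b := by
    rw [← Category.assoc, ← Spec.map_comp, ← CommRingCat.ofHom_comp,
      show ev.comp φ = RingHom.id A from RingHom.ext fun a => Polynomial.eval_C, CommRingCat.ofHom_id, Spec.map_id,
      Category.id_comp]
  have h2 := congrArg (fun g => res ev hev ≫ g) h1
  simp only [← Category.assoc, res_pt] at h2
  rwa [show ev Polynomial.X = val (A := A) b j from Polynomial.eval_X] at h2

end Groth.Agent.GrpSchLib.RankOneClosed
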