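import Groth.Agent.GrpSchLib.SubgroupEqLocus
import Groth.Agent.GrpSchLib.FixedLocus
import Groth.Agent.GrpSchLib.FinDiffFixed

/-!
# Subgroups of multiplicative type agreeing on a central fibre agree nearby

No separation hypothesis: on a piece where both groups are split the containment is an equation of two points given by a
map of character groups, which spreads out from a local ring and propagates from a fibre where it is central.
-/

universe u

open CategoryTheory CategoryTheory.Limits MonoidalCategory CartesianMonoidalCategory MonObj AlgebraicGeometry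

namespace Groth.Agent.GrpSchLib.SubgroupEqNhd

open DiagActionRigid (sp spm spm_left spm_comp univPt)
open DSPtsLib (CoordM)
open SubgroupFactor (pull pull_single)
open SubgroupEqLocus (Le isOpen_of_covers exists_factor_of_stalks)

variable {S : Scheme.{u}} {G A B : Over S} [GrpObj G] [GrpObj A] [GrpObj B] (iA : A ⟶ G) [IsMonHom iA]
  (iB : B ⟶ G) [IsMonHom iB]

/-- `A × B` acts on `G` on both sides. -/
noncomputable def pairAct : AlgGrp.Action (A ⊗ B) G where
  act := (fst (A ⊗ B) G ≫ fst A B ≫ iA) * snd (A ⊗ B) G * (fst (A ⊗ B) G ≫ snd A B ≫ iB)⁻¹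
  one_act := by
    have h1 : η[A ⊗ B] ≫ fst A B ≫ iA = 1 := by
      rw [← Category.assoc, show η[A ⊗ B] ≫ fst A B = η[A] from IsMonHom.one_hom (f := fst A B), IsMonHom.one_hom,
        Hom.one_def, toUnit_unique (toUnit _) (𝟙 _), Category.id_comp]
    have h2 : η[A ⊗ B] ≫ snd A B ≫ iB = 1 := by
      rw [← Category.assoc, show η[A ⊗ B] ≫ snd A B = η[B] from IsMonHom.one_hom (f := snd A B), IsMonHom.one_hom,
        Hom.one_def, toUnit_unique (toUnit _) (𝟙 _), Category.id_comp]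
    rw [MonObj.comp_mul, MonObj.comp_mul, GrpObj.comp_inv, whiskerRight_fst_assoc, whiskerRight_fst_assoc,
      whiskerRight_snd, h1, h2, MonObj.comp_one, inv_one, _root_.mul_one, _root_.one_mul, leftUnitor_hom]
  mul_act := by
    have h1 : μ[A ⊗ B] ≫ fst A B ≫ iA =
        (fst (A ⊗ B) (A ⊗ B) ≫ fst A B ≫ iA) * (snd (A ⊗ B) (A ⊗ B) ≫ fst A B ≫ iA) := by
      rw [IsMonHom.mul_hom (f := fst A B ≫ iA), Hom.mul_def]
      congr 1
    have h2 : μ[A ⊗ B] ≫ snd A B ≫ iB =
        (fst (A ⊗ B) (A ⊗ B) ≫ snd A B ≫ iB) * (snd (A ⊗ B) (A ⊗ B) ≫ snd A B ≫ iB) := by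
      rw [IsMonHom.mul_hom (f := snd A B ≫ iB), Hom.mul_def]
      congr 1
    simp only [MonObj.comp_mul, GrpObj.comp_inv, whiskerRight_fst_assoc, whiskerRight_snd, whiskerLeft_fst_assoc,
      whiskerLeft_snd, whiskerLeft_snd_assoc, associator_hom_fst_assoc, associator_hom_snd_fst_assoc,
      associator_hom_snd_snd, h1, h2, _root_.mul_inv_rev, _root_.mul_assoc]

theorem pairAct_apply {Y : Over S} (a : Y ⟶ A) (b : Y ⟶ B) (z : Y ⟶ G) :
    lift (lift a b) z ≫ (pairAct iA iB).act = (a ≫ iA) * z * (b ≫ iB)⁻¹ := by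
  show lift (lift a b) z ≫ ((fst (A ⊗ B) G ≫ fst A B ≫ iA) * snd (A ⊗ B) G * (fst (A ⊗ B) G ≫ snd A B ≫ iB)⁻¹) = _
  simp only [MonObj.comp_mul, GrpObj.comp_inv, lift_fst_assoc, lift_snd_assoc, lift_snd]

section Piece

variable [Mono iA] {R : Type u} [CommRing R] {β : Spec (CommRingCat.of R) ⟶ S}
  {MA MB : Type} [AddCommGroup MA] [AddCommGroup MB]
  (χA : ∀ (T : Type u) [CommRing T] [Algebra R T], (CoordM.{u} MA →+* T) → (sp β T ⟶ A))
  (hAnat : ∀ {T₁ T₂ : Type u} [CommRing T₁] [Algebra R T₁] [CommRing T₂] [Algebra R T₂] (φ : T₁ →ₐ[R] T₂)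
      (c : CoordM.{u} MA →+* T₁), spm β φ ≫ χA T₁ c = χA T₂ (φ.toRingHom.comp c))
  (hAmul : ∀ {T₁ : Type u} [CommRing T₁] [Algebra R T₁] (c c' d : CoordM.{u} MA →+* T₁),
      (∀ m, d (MonoidAlgebra.single m 1) = c (MonoidAlgebra.single m 1) * c' (MonoidAlgebra.single m 1)) →
        χA T₁ c * χA T₁ c' = χA T₁ d)
  (hAbij : ∀ (T₁ : Type u) [CommRing T₁] [Algebra R T₁], Function.Bijective (χA T₁))
  (χB : ∀ (T : Type u) [CommRing T] [Algebra R T], (CoordM.{u} MB →+* T) → (sp β T ⟶ B))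
  (hBnat : ∀ {T₁ T₂ : Type u} [CommRing T₁] [Algebra R T₁] [CommRing T₂] [Algebra R T₂] (φ : T₁ →ₐ[R] T₂)
      (c : CoordM.{u} MB →+* T₁), spm β φ ≫ χB T₁ c = χB T₂ (φ.toRingHom.comp c))
  (hBmul : ∀ {T₁ : Type u} [CommRing T₁] [Algebra R T₁] (c c' d : CoordM.{u} MB →+* T₁),
      (∀ m, d (MonoidAlgebra.single m 1) = c (MonoidAlgebra.single m 1) * c' (MonoidAlgebra.single m 1)) →
        χB T₁ c * χB T₁ c' = χB T₁ d)
  (hBbij : ∀ (T₁ : Type u) [CommRing T₁] [Algebra R T₁], Function.Bijective (χB T₁))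

/-- The graph of a map of character groups. -/
noncomputable def graph (φ : MA →+ MB) (T : Type u) [CommRing T] [Algebra R T] (c : CoordM.{u} MB →+* T) :
    sp β T ⟶ A ⊗ B :=
  lift (χA T (pull φ c)) (χB T c)

omit [Mono iA] in
theorem fixed_graph_iff (φ : MA →+ MB) (T : Type u) [CommRing T] [Algebra R T] (c : CoordM.{u} MB →+* T) :
    lift (graph χA χB φ T c) (spm β (Algebra.ofId R T) ≫ (1 : sp β R ⟶ G)) ≫ (pairAct iA iB).act =
        spm β (Algebra.ofId R T) ≫ 1 ↔ χA T (pull φ c) ≫ iA = χB T c ≫ iB := by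
  rw [graph, pairAct_apply, MonObj.comp_one, _root_.mul_one, mul_inv_eq_one]

include hAnat hBnat in
omit [GrpObj A] [GrpObj B] in
theorem graph_nat (φ : MA →+ MB) {T₁ T₂ : Type u} [CommRing T₁] [Algebra R T₁] [CommRing T₂] [Algebra R T₂]
    (ψ : T₁ →ₐ[R] T₂) (c : CoordM.{u} MB →+* T₁) :
    spm β ψ ≫ graph χA χB φ T₁ c = graph χA χB φ T₂ (ψ.toRingHom.comp c) := by
  rw [graph, graph, comp_lift, hAnat, hBnat]
  rfl

include hAmul hBmul in
theorem graph_mul (φ : MA →+ MB) {T : Type u} [CommRing T] [Algebra R T] (c c' d : CoordM.{u} MB →+* T)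
    (h : ∀ m, d (MonoidAlgebra.single m 1) = c (MonoidAlgebra.single m 1) * c' (MonoidAlgebra.single m 1)) :
    graph χA χB φ T c * graph χA χB φ T c' = graph χA χB φ T d := by
  refine CartesianMonoidalCategory.hom_ext _ _ ?_ ?_
  · simp only [graph, MonObj.mul_comp, lift_fst]
    exact hAmul _ _ _ fun m => by rw [pull_single, pull_single, pull_single, h]
  · simp only [graph, MonObj.mul_comp, lift_snd]
    exact hBmul _ _ _ h

omit [Mono iA] in
theorem finDiff (hfin : LocallyOfFiniteType G.hom ∨ IsLocallyNoetherian (A ⊗ B).left) (φ : MA →+ MB) :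
    FinDiffFixed.FinDiff (pairAct iA iB) (graph χA χB φ) (1 : sp β R ⟶ G) := by
  classical
  intro V hV W hW hWV T _ _ c ex ey hex hey
  rcases hfin with h | h
  · haveI := h
    let σ := G.hom.appLE V W hWV
    have hσ : Spec.map σ ≫ hV.fromSpec = hW.fromSpec ≫ G.hom := IsAffineOpen.SpecMap_appLE_fromSpec G.hom hV hW hWV
    have hbase : σ ≫ ey = σ ≫ ex := by
      apply Spec.map_injective
      rw [← cancel_mono hV.fromSpec, Spec.map_comp, Spec.map_comp, Category.assoc, Category.assoc, hσ,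
        reassoc_of% hey, reassoc_of% hex, Over.w, Over.w]
    obtain ⟨gens, hgens⟩ : ∃ gens : Finset Γ(G.left, W), Subring.closure (Set.range σ.hom ∪ ↑gens) = ⊤ := by
      letI : Algebra Γ(S, V) Γ(G.left, W) := σ.hom.toAlgebra
      obtain ⟨gs, hgs⟩ : (⊤ : Subalgebra Γ(S, V) Γ(G.left, W)).FG :=
        (G.hom.finiteType_appLE hV hW hWV : σ.hom.FiniteType).out
      exact ⟨gs, by rw [← Algebra.top_toSubring (R := Γ(S, V)), ← hgs, Algebra.adjoin_eq_ring_closure]; rfl⟩
    refine ⟨gens, fun v => ?_⟩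
    refine FibreActionRigid.sub_mem_closure (R := R) ey.hom ex.hom _ σ.hom (fun g => ?_) (gens : Set Γ(G.left, W))
      (fun t ht => Ideal.subset_span (Set.mem_image_of_mem (fun t => (ey.hom t - ex.hom t : T)) ht)) (hgens ▸ Subring.mem_top v)
    have hg : ey.hom (σ.hom g) = ex.hom (σ.hom g) := congr($hbase g)
    rw [hg, sub_self]
    exact zero_mem _
  · haveI := h
    have e1 : spm β (Algebra.ofId R T) ≫ (1 : sp β R ⟶ G) = graph χA χB φ T c ≫ (1 : A ⊗ B ⟶ G) := by
      rw [MonObj.comp_one, MonObj.comp_one]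
    have e2 : lift (graph χA χB φ T c) (spm β (Algebra.ofId R T) ≫ (1 : sp β R ⟶ G)) ≫ (pairAct iA iB).act =
        graph χA χB φ T c ≫ ((fst A B ≫ iA) * (snd A B ≫ iB)⁻¹) := by
      rw [graph, pairAct_apply]
      simp [MonObj.comp_mul, GrpObj.comp_inv, MonObj.comp_one]
    rw [e2, Over.comp_left] at hey
    rw [e1, Over.comp_left] at hex
    exact FinDiffFixed.exists_gens_of_isLocallyNoetherian _ _ hW (graph χA χB φ T c).left ex ey hex hey

include hAnat hAmul hAbij hBnat hBmul hBbij in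
/-- Containment over a local ring spreads to a principal open. -/
theorem exists_spread (hfin : LocallyOfFiniteType G.hom ∨ IsLocallyNoetherian (A ⊗ B).left)
    (p : Ideal R) [p.IsPrime]
    (hp : ∀ (T : Type u) [CommRing T] [Algebra R T], (∀ r ∉ p, IsUnit (algebraMap R T r)) →
      ∀ b : sp β T ⟶ B, ∃ a : sp β T ⟶ A, a ≫ iA = b ≫ iB) :
    ∃ r ∉ p, ∀ (T : Type u) [CommRing T] [Algebra R T], IsUnit (algebraMap R T r) →
      ∀ b : sp β T ⟶ B, ∃ a : sp β T ⟶ A, a ≫ iA = b ≫ iB := by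
  let O := Localization.AtPrime p
  obtain ⟨φ, hφ⟩ := SubgroupEqLocus.exists_phi iA iB χA hAnat hAmul hAbij χB hBnat hBmul (T := O)
    (hp _ (fun r hr => by
      rw [IsScalarTower.algebraMap_apply R O (MonoidAlgebra O (Multiplicative MB))]
      exact (IsLocalization.map_units O (⟨r, hr⟩ : p.primeCompl)).map _) _)
  obtain ⟨r, hr, hfix⟩ := FinDiffFixed.exists_fixed_away (pairAct iA iB) (graph χA χB φ)
    (graph_nat χA hAnat χB hBnat φ) (1 : sp β R ⟶ G) (finDiff iA iB χA χB hfin φ) p fun T _ _ hT c => by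
      let ψ : O →ₐ[R] T := IsLocalization.liftAlgHom (M := p.primeCompl) (f := Algebra.ofId R T) fun y => hT y.1 y.2
      exact (fixed_graph_iff iA iB χA χB φ T c).mpr (hφ T ψ c)
  refine ⟨r, hr, fun T _ _ hT b => ?_⟩
  obtain ⟨c, rfl⟩ := (hBbij T).2 b
  exact ⟨_, (fixed_graph_iff iA iB χA χB φ T c).mp (hfix T hT c)⟩

include hAnat hAmul hAbij hBnat hBmul hBbij in
/-- Containment propagates from a central closed fibre to a local ring. -/
theorem of_closedFibre [IsLocalRing R] [AddGroup.FG MB]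
    (hfin : LocallyOfFiniteType G.hom ∨ IsLocallyNoetherian (A ⊗ B).left)
    (hle : ∀ (T : Type u) [CommRing T] [Algebra R T], (∀ r ∈ IsLocalRing.maximalIdeal R, algebraMap R T r = 0) →
      ∀ b : sp β T ⟶ B, ∃ a : sp β T ⟶ A, a ≫ iA = b ≫ iB)
    (hc : ∀ (T : Type u) [CommRing T] [Algebra R T], (∀ r ∈ IsLocalRing.maximalIdeal R, algebraMap R T r = 0) →
      ∀ (g : sp β T ⟶ G) (a : sp β T ⟶ A), g * (a ≫ iA) = (a ≫ iA) * g)
    (T : Type u) [CommRing T] [Algebra R T] (b : sp β T ⟶ B) : ∃ a : sp β T ⟶ A, a ≫ iA = b ≫ iB := by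
  let K := IsLocalRing.ResidueField R
  obtain ⟨φ, hφ⟩ := SubgroupEqLocus.exists_phi iA iB χA hAnat hAmul hAbij χB hBnat hBmul (T := K)
    (hle _ (fun r hr => by
      rw [IsScalarTower.algebraMap_apply R K (MonoidAlgebra K (Multiplicative MB)),
        show algebraMap R K r = 0 from Ideal.Quotient.eq_zero_iff_mem.mpr hr, map_zero]) _)
  have hall := FinDiffFixed.fixed_of_closedFibre (pairAct iA iB) (graph χA χB φ)
    (graph_nat χA hAnat χB hBnat φ) (graph_mul χA hAmul χB hBmul φ) (fun T _ _ hT c z => by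
      let ψ : K →ₐ[R] T := Ideal.Quotient.liftₐ (IsLocalRing.maximalIdeal R) (Algebra.ofId R T) hT
      rw [graph, pairAct_apply, ← hc T hT z, hφ T ψ c, mul_inv_cancel_right])
    (1 : sp β R ⟶ G) (finDiff iA iB χA χB hfin φ)
  obtain ⟨c, rfl⟩ := (hBbij T).2 b
  exact ⟨_, (fixed_graph_iff iA iB χA χB φ T c).mp (hall T c)⟩

end Piece

section Global

/-- A test scheme killed by the maximal ideal lies over the residue field at the closed point. -/
theorem exists_to_residueField {O : Type u} [CommRing O] [IsLocalRing O] (β : Spec (CommRingCat.of O) ⟶ S) {s : S}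
    (hs : β (IsLocalRing.closedPoint O) = s) (T : Type u) [CommRing T] [Algebra O T]
    (hT : ∀ r ∈ IsLocalRing.maximalIdeal O, algebraMap O T r = 0) :
    Nonempty (sp β T ⟶ Over.mk (S.fromSpecResidueField s)) := by
  letI := Ideal.Quotient.field (IsLocalRing.maximalIdeal O)
  let K := O ⧸ IsLocalRing.maximalIdeal O
  let bK : Spec (CommRingCat.of K) ⟶ S := Spec.map (CommRingCat.ofHom (Ideal.Quotient.mk _)) ≫ β
  have hbK : bK (IsLocalRing.closedPoint K) = s := by
    rw [← hs]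
    show (Spec.map _ ≫ β) _ = _
    rw [Scheme.Hom.comp_apply]
    refine congrArg β (PrimeSpectrum.ext ?_)
    show Ideal.comap (Ideal.Quotient.mk (IsLocalRing.maximalIdeal O)) (IsLocalRing.maximalIdeal K) = _
    rw [IsLocalRing.maximalIdeal_eq_bot, ← RingHom.ker_eq_comap_bot, Ideal.mk_ker]
    rfl
  rw [← hbK]
  refine ⟨Over.homMk (Spec.map (CommRingCat.ofHom (Ideal.Quotient.lift _ (algebraMap O T) hT)) ≫
    Spec.map (Scheme.descResidueField (Scheme.stalkClosedPointTo bK))) ?_⟩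
  show (_ ≫ _) ≫ S.fromSpecResidueField _ = Spec.map (CommRingCat.ofHom (algebraMap O T)) ≫ β
  rw [Category.assoc, Scheme.descResidueField_stalkClosedPointTo_fromSpecResidueField]
  show _ ≫ Spec.map _ ≫ β = _
  rw [← Spec.map_comp_assoc, ← CommRingCat.ofHom_comp]
  rfl

/-- If `B` lies in the central subgroup `A` over a point, it does so over a neighbourhood. -/
theorem exists_nhd [IsImmersion iA.left] (hA : SGA3x.IsMultTypeFT A) (hB : SGA3x.IsMultTypeFT B)
    (hfin : IsLocallyNoetherian S ∨ LocallyOfFiniteType G.hom) (s : S)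
    (hle : Le iA iB (S.fromSpecResidueField s))
    (hc : ∀ (Y : Over S) (_ : Y ⟶ Over.mk (S.fromSpecResidueField s)) (g : Y ⟶ G) (a : Y ⟶ A),
      g * (a ≫ iA) = (a ≫ iA) * g) :
    ∃ U : S.Opens, s ∈ U ∧ Le iA iB U.ι := by
  classical
  haveI : Mono iA := Over.mono_of_mono_left _
  have hfin' : LocallyOfFiniteType G.hom ∨ IsLocallyNoetherian (A ⊗ B).left := hfin.symm.imp id fun h => by
    haveI := h
    haveI := MultTypeLft.lft hA
    haveI := MultTypeLft.lft hB
    haveI : LocallyOfFiniteType (A ⊗ B).hom :=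
      inferInstanceAs (LocallyOfFiniteType (pullback.fst A.hom B.hom ≫ A.hom))
    exact LocallyOfFiniteType.isLocallyNoetherian (A ⊗ B).hom
  obtain ⟨SA, fA, hAflat, hAsurj, hAqc, hAloc⟩ := hA
  obtain ⟨SB, fB, hBflat, hBsurj, hBqc, hBloc⟩ := hB
  have hcA : FpqcDescLib.Covers fA :=
    FpqcDescLib.covers_of_hcov fA ⟨SA, fA, 𝟙 _, Category.id_comp _, hAsurj, hAflat, hAqc⟩
  have hcB : FpqcDescLib.Covers fB :=
    FpqcDescLib.covers_of_hcov fB ⟨SB, fB, 𝟙 _, Category.id_comp _, hBsurj, hBflat, hBqc⟩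
  let P := pullback fA fB
  let f : P ⟶ S := pullback.fst fA fB ≫ fA
  have hcP : FpqcDescLib.Covers (pullback.fst fA fB) :=
    hcB.pullback fA _ (pullback.snd fA fB) (IsPullback.of_hasPullback fA fB)
  have hopen : ∀ s : Set S, IsOpen (f ⁻¹' s) → IsOpen s := fun s hs =>
    isOpen_of_covers hcA (isOpen_of_covers hcP (by
      have he : pullback.fst fA fB ⁻¹' (fA ⁻¹' s) = f ⁻¹' s := Set.ext fun z => by
        show fA (pullback.fst fA fB z) ∈ s ↔ f z ∈ s
        rw [← Scheme.Hom.comp_apply]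
      rw [he]; exact hs))
  let L1 : ∀ {R : CommRingCat.{u}} (_ : Spec R ⟶ P), PrimeSpectrum R → Prop := fun {R} j p =>
    ∀ (T : Type u) [CommRing T] [Algebra R T], (∀ r ∉ p.asIdeal, IsUnit (algebraMap R T r)) →
      ∀ b : sp (j ≫ f) T ⟶ B, ∃ a : sp (j ≫ f) T ⟶ A, a ≫ iA = b ≫ iB
  have hpiece : ∀ z : P, ∃ (R : CommRingCat.{u}) (j : Spec R ⟶ P),
      IsOpenImmersion j ∧ z ∈ Set.range j ∧
      (∀ p, L1 j p → ∃ r ∉ p.asIdeal, ∀ q : PrimeSpectrum R, r ∉ q.asIdeal → L1 j q) ∧
      (∀ p : PrimeSpectrum R, f (j p) = s → L1 j p) := by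
    intro z
    obtain ⟨UA, hzA, MA, iMA, -, ⟨eA⟩⟩ := hAloc (pullback.fst fA fB z)
    obtain ⟨UB, hzB, MB, iMB, hfgB, ⟨eB⟩⟩ := hBloc (pullback.snd fA fB z)
    obtain ⟨V, hV, hzV, -⟩ := exists_isAffineOpen_mem_and_subset (show f z ∈ (⊤ : S.Opens) from trivial)
    obtain ⟨W, hW, hzW, hWle⟩ := exists_isAffineOpen_mem_and_subset
      (show z ∈ pullback.fst fA fB ⁻¹ᵁ UA ⊓ pullback.snd fA fB ⁻¹ᵁ UB ⊓ f ⁻¹ᵁ V from ⟨⟨hzA, hzB⟩, hzV⟩)
    have hmem : ∀ r, hW.fromSpec r ∈ W := fun r => by rw [← SetLike.mem_coe, ← hW.range_fromSpec]; exact ⟨r, rfl⟩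
    have hrA : Set.range (hW.fromSpec ≫ pullback.fst fA fB) ⊆ Set.range UA.ι := by
      rintro _ ⟨r, rfl⟩
      rw [Scheme.Opens.range_ι]
      exact (hWle (hmem r)).1.1
    have hrB : Set.range (hW.fromSpec ≫ pullback.snd fA fB) ⊆ Set.range UB.ι := by
      rintro _ ⟨r, rfl⟩
      rw [Scheme.Opens.range_ι]
      exact (hWle (hmem r)).1.2
    obtain ⟨χA, hAnat, hAmul, hAbij⟩ := SubgroupFactor.exists_char (β := hW.fromSpec ≫ f) (UA.ι ≫ fA) eA
      (IsOpenImmersion.lift UA.ι _ hrA) (by rw [IsOpenImmersion.lift_fac_assoc, Category.assoc])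
    obtain ⟨χB, hBnat, hBmul, hBbij⟩ := SubgroupFactor.exists_char (β := hW.fromSpec ≫ f) (UB.ι ≫ fB) eB
      (IsOpenImmersion.lift UB.ι _ hrB) (by
        rw [IsOpenImmersion.lift_fac_assoc, Category.assoc]
        exact congrArg (hW.fromSpec ≫ ·) pullback.condition.symm)
    haveI := hfgB
    refine ⟨_, hW.fromSpec, inferInstance, ?_, ?_, ?_⟩
    · rw [← SetLike.mem_coe, ← hW.range_fromSpec] at hzW
      exact hzW
    · intro p hp
      obtain ⟨r, hr, h⟩ := exists_spread iA iB χA hAnat hAmul hAbij χB hBnat hBmul hBbij hfin' p.asIdeal hp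
      exact ⟨r, hr, fun q hq T _ _ hT b => h T (hT r hq) b⟩
    · intro p hp T _ _ hT b
      let R₀ : Type u := Γ(P, W)
      let O := Localization.AtPrime p.asIdeal
      let jO : Spec (CommRingCat.of O) ⟶ Spec Γ(P, W) := Spec.map (CommRingCat.ofHom (algebraMap R₀ O))
      let βO : Spec (CommRingCat.of O) ⟶ S := jO ≫ hW.fromSpec ≫ f
      obtain ⟨χA', hAnat', hAmul', hAbij'⟩ := SubgroupFactor.exists_char (β := βO) (UA.ι ≫ fA) eA
        (jO ≫ IsOpenImmersion.lift UA.ι _ hrA) (by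
          rw [Category.assoc, IsOpenImmersion.lift_fac_assoc, Category.assoc])
      obtain ⟨χB', hBnat', hBmul', hBbij'⟩ := SubgroupFactor.exists_char (β := βO) (UB.ι ≫ fB) eB
        (jO ≫ IsOpenImmersion.lift UB.ι _ hrB) (by
          rw [Category.assoc, IsOpenImmersion.lift_fac_assoc, Category.assoc]
          exact congrArg (fun m => jO ≫ hW.fromSpec ≫ m) pullback.condition.symm)
      have hcl : jO (IsLocalRing.closedPoint O) = p := PrimeSpectrum.ext
        (Localization.AtPrime.comap_maximalIdeal (I := p.asIdeal))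
      have hβO : βO (IsLocalRing.closedPoint O) = s := by
        rw [Scheme.Hom.comp_apply, Scheme.Hom.comp_apply, hcl]
        exact hp
      let ρ : O →ₐ[R₀] T := IsLocalization.liftAlgHom (M := p.asIdeal.primeCompl) (f := Algebra.ofId R₀ T)
        fun y => hT y.1 y.2
      letI : Algebra O T := ρ.toRingHom.toAlgebra
      have hw : Spec.map (CommRingCat.ofHom (algebraMap O T)) ≫ βO =
          Spec.map (CommRingCat.ofHom (algebraMap R₀ T)) ≫ hW.fromSpec ≫ f := by
        rw [← Category.assoc, ← Spec.map_comp, ← CommRingCat.ofHom_comp]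
        exact congrArg (fun m => Spec.map (CommRingCat.ofHom m) ≫ hW.fromSpec ≫ f) ρ.comp_algebraMap
      let t : sp βO T ⟶ sp (hW.fromSpec ≫ f) T := Over.homMk (𝟙 _) (by
        show 𝟙 _ ≫ Spec.map (CommRingCat.ofHom (algebraMap R₀ T)) ≫ hW.fromSpec ≫ f = _
        rw [Category.id_comp, ← hw]
        rfl)
      let t' : sp (hW.fromSpec ≫ f) T ⟶ sp βO T := Over.homMk (𝟙 _) (by
        show 𝟙 _ ≫ Spec.map (CommRingCat.ofHom (algebraMap O T)) ≫ βO = _
        rw [Category.id_comp, hw]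
        rfl)
      have htt : t' ≫ t = 𝟙 _ := Over.OverMorphism.ext (Category.id_comp _)
      obtain ⟨a, ha⟩ := of_closedFibre iA iB χA' hAnat' hAmul' hAbij' χB' hBnat' hBmul' hBbij' hfin'
        (fun T' _ _ hT' b' => hle _ (exists_to_residueField βO hβO T' hT').some b')
        (fun T' _ _ hT' g a => hc _ (exists_to_residueField βO hβO T' hT').some g a) T (t ≫ b)
      exact ⟨t' ≫ a, by rw [Category.assoc, ha, Category.assoc, reassoc_of% htt]⟩
  choose R j hj hzj hopen1 hs1 using hpiece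
  -- stalkwise criterion
  have hle' : ∀ {T : Scheme.{u}} (g : T ⟶ S),
      (∀ t : T, ∃ (z : P) (r : Spec (T.presheaf.stalk t) ⟶ Spec (R z)),
        r ≫ j z ≫ f = T.fromSpecStalk t ≫ g ∧ L1 (j z) (r (IsLocalRing.closedPoint (T.presheaf.stalk t)))) →
      Le iA iB g := by
    intro T g hg Y q b
    refine exists_factor_of_stalks b fun y => ?_
    let O : Type u := Y.left.presheaf.stalk y
    haveI : IsLocalRing O := inferInstanceAs (IsLocalRing (Y.left.presheaf.stalk y))
    obtain ⟨z, r, hr, hrE⟩ := hg (q.left y)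
    obtain ⟨τ, hτ⟩ : ∃ τ, Spec.map τ = Spec.map (q.left.stalkMap y) ≫ r := ⟨_, Spec.map_preimage _⟩
    letI : Algebra (R z) O := τ.hom.toAlgebra
    let t : sp (j z ≫ f) O ⟶ Y := Over.homMk (Y.left.fromSpecStalk y) (by
      show _ = Spec.map τ ≫ j z ≫ f
      have hs : Spec.map (q.left.stalkMap y) ≫ T.fromSpecStalk (q.left y) = Y.left.fromSpecStalk y ≫ q.left :=
        Scheme.SpecMap_stalkMap_fromSpecStalk (x := y) q.left
      rw [hτ, Category.assoc, hr, ← Category.assoc]
      refine Eq.trans ?_ (congrArg (fun m => m ≫ g) hs).symm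
      exact (congrArg (Y.left.fromSpecStalk y ≫ ·) (Over.w q).symm).trans (Category.assoc _ _ _).symm)
    obtain ⟨a, ha⟩ := hrE O (fun x hx => by
      by_contra hu
      refine hx ?_
      have hcl : (Spec.map τ) (IsLocalRing.closedPoint O) = r (IsLocalRing.closedPoint _) := by
        rw [hτ, Scheme.Hom.comp_apply]
        exact congrArg r (IsLocalRing.comap_closedPoint (q.left.stalkMap y).hom)
      rw [← hcl]
      exact (IsLocalRing.mem_maximalIdeal _).mpr hu) (t ≫ b)
    refine ⟨a.left, ?_⟩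
    rw [← Over.comp_left, ha, Category.assoc, Over.comp_left]
    rfl
  have hmono : ∀ z (p q : PrimeSpectrum (R z)), q.asIdeal ≤ p.asIdeal → L1 (j z) p → L1 (j z) q :=
    fun z p q hqp h T _ _ hT => h T fun r hr => hT r fun hq => hr (hqp hq)
  let L : Set S := {t | Le iA iB (S.fromSpecStalk t)}
  have hmem : ∀ z (p : PrimeSpectrum (R z)), f (j z p) ∈ L ↔ L1 (j z) p := by
    intro z p
    constructor
    · intro h T _ _ hT b
      let O := Localization.AtPrime p.asIdeal
      let m : Spec (CommRingCat.of O) ⟶ S := Spec.map (CommRingCat.ofHom (algebraMap (R z) O)) ≫ j z ≫ f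
      have hm : m (IsLocalRing.closedPoint O) = f (j z p) := by
        rw [Scheme.Hom.comp_apply, Scheme.Hom.comp_apply]
        exact congrArg (fun q => f (j z q)) (PrimeSpectrum.ext (Localization.AtPrime.comap_maximalIdeal (I := p.asIdeal)))
      have h' : Le iA iB (S.fromSpecStalk (m (IsLocalRing.closedPoint O))) := by rw [hm]; exact h
      let ρ : O →ₐ[R z] T := IsLocalization.liftAlgHom (M := p.asIdeal.primeCompl) (f := Algebra.ofId (R z) T)
        fun y => hT y.1 y.2
      refine h' _ (Over.homMk (Spec.map (CommRingCat.ofHom ρ.toRingHom) ≫ Spec.map (Scheme.stalkClosedPointTo m)) ?_) b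
      show (_ ≫ _) ≫ S.fromSpecStalk _ = Spec.map (CommRingCat.ofHom (algebraMap (R z) T)) ≫ j z ≫ f
      rw [Category.assoc, Scheme.Spec_stalkClosedPointTo_fromSpecStalk, ← Spec.map_comp_assoc, ← CommRingCat.ofHom_comp]
      exact congrArg (fun m => Spec.map (CommRingCat.ofHom m) ≫ j z ≫ f) ρ.comp_algebraMap
    · intro hp
      haveI : Flat f := inferInstanceAs (Flat (pullback.fst fA fB ≫ fA))
      let y : P := j z p
      show Le iA iB (S.fromSpecStalk (f y))
      refine Le.of_covers (Spec.map (f.stalkMap y)) (FixedLocus.covers_stalkMap f y) ?_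
      rw [Scheme.SpecMap_stalkMap_fromSpecStalk]
      refine hle' _ fun t => ?_
      have hrange : Set.range (P.fromSpecStalk y) ⊆ Set.range (j z) := by
        rintro _ ⟨w, rfl⟩
        have hw : P.fromSpecStalk y w ⤳ y := by
          have : P.fromSpecStalk y w ∈ Set.range (P.fromSpecStalk y) := ⟨w, rfl⟩
          rwa [Scheme.range_fromSpecStalk] at this
        exact hw.mem_open (j z).isOpenEmbedding.isOpen_range ⟨p, rfl⟩
      let r := IsOpenImmersion.lift (j z) (P.fromSpecStalk y) hrange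
      refine ⟨z, (Spec (P.presheaf.stalk y)).fromSpecStalk t ≫ r, by
        rw [Category.assoc, IsOpenImmersion.lift_fac_assoc], hmono z p _ ?_ hp⟩
      refine (PrimeSpectrum.le_iff_specializes _ _).mpr ((j z).isOpenEmbedding.isInducing.specializes_iff.mp ?_)
      rw [← Scheme.Hom.comp_apply, Category.assoc, IsOpenImmersion.lift_fac, Scheme.Hom.comp_apply]
      have : P.fromSpecStalk y ((Spec (P.presheaf.stalk y)).fromSpecStalk t (IsLocalRing.closedPoint _)) ∈
          Set.range (P.fromSpecStalk y) := ⟨_, rfl⟩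
      rwa [Scheme.range_fromSpecStalk] at this
  have hLopen : IsOpen (f ⁻¹' L) := by
    rw [isOpen_iff_forall_mem_open]
    intro x hx
    obtain ⟨p, hp⟩ := hzj x
    obtain ⟨r, hr, h⟩ := hopen1 x p ((hmem x p).mp (by rw [hp]; exact hx))
    refine ⟨j x '' (PrimeSpectrum.basicOpen r : Set (PrimeSpectrum (R x))), ?_,
      (j x).isOpenEmbedding.isOpenMap _ (PrimeSpectrum.basicOpen r).isOpen, ⟨p, hr, hp⟩⟩
    rintro _ ⟨q, hq, rfl⟩
    exact (hmem x q).mpr (h q hq)
  have hL : IsOpen L := hopen L hLopen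
  have hsL : s ∈ L := by
    obtain ⟨x, hx⟩ : ∃ x, f x = s := by
      haveI : Surjective f := inferInstanceAs (Surjective (pullback.fst fA fB ≫ fA))
      exact f.surjective s
    obtain ⟨p, hp⟩ := hzj x
    rw [← hx, ← hp]
    exact (hmem x p).mpr (hs1 x p (by rw [hp, hx]))
  refine ⟨⟨L, hL⟩, hsL, ?_⟩
  let U0 : S.Opens := ⟨L, hL⟩
  refine Le.of_covers (pullback.fst U0.ι fA)
    (hcA.pullback U0.ι _ (pullback.snd U0.ι fA) (IsPullback.of_hasPullback _ _)) ?_
  refine Le.of_covers (pullback.fst (pullback.snd U0.ι fA) (pullback.fst fA fB))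
    (hcP.pullback _ _ (pullback.snd _ _) (IsPullback.of_hasPullback _ _)) ?_
  let T := pullback (pullback.snd U0.ι fA) (pullback.fst fA fB)
  let pr : T ⟶ P := pullback.snd _ _
  have hg : pullback.fst (pullback.snd U0.ι fA) (pullback.fst fA fB) ≫ pullback.fst U0.ι fA ≫ U0.ι = pr ≫ f := by
    rw [pullback.condition, pullback.condition_assoc]
  rw [hg]
  refine hle' _ fun t => ?_
  have hrange : Set.range (T.fromSpecStalk t ≫ pr) ⊆ Set.range (j (pr t)) := by
    rintro _ ⟨w, rfl⟩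
    have hw : T.fromSpecStalk t w ⤳ t := by
      have : T.fromSpecStalk t w ∈ Set.range (T.fromSpecStalk t) := ⟨w, rfl⟩
      rwa [Scheme.range_fromSpecStalk] at this
    exact (hw.map pr.continuous).mem_open (j (pr t)).isOpenEmbedding.isOpen_range (hzj (pr t))
  refine ⟨pr t, IsOpenImmersion.lift (j (pr t)) _ hrange, by rw [IsOpenImmersion.lift_fac_assoc, Category.assoc], ?_⟩
  refine (hmem _ _).mp ?_
  have h := congrArg (fun m : Spec (T.presheaf.stalk t) ⟶ P => f (m (IsLocalRing.closedPoint (T.presheaf.stalk t))))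
    (IsOpenImmersion.lift_fac (j (pr t)) _ hrange)
  simp only [Scheme.Hom.comp_apply, Scheme.fromSpecStalk_closedPoint] at h
  rw [h, ← Scheme.Hom.comp_apply, ← hg, Scheme.Hom.comp_apply, Scheme.Hom.comp_apply]
  exact Subtype.coe_prop _

end Global

end Groth.Agent.GrpSchLib.SubgroupEqNhd
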