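import Groth.Agent.ComodLib.Basic
import Groth.Agent.ComodLib.Antipode
import Groth.Agent.GrpSchLib.SubHopf
import Mathlib.RingTheory.HopfAlgebra.TensorProduct
import Mathlib.RingTheory.HopfAlgebra.MonoidAlgebra
import Mathlib.RingTheory.Coalgebra.GroupLike

/-! The conilpotent part of a commutative cocommutative Hopf algebra: the Hopf subalgebra of the largest unipotent
quotient group. -/

set_option autoImplicit false

universe u v

open TensorProduct WithConv

noncomputable section

namespace Groth.Agent.GrpSchLib.UniPart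

open Groth.Agent.ComodLib

section General

variable (k : Type u) [CommRing k] (A : Type u) [CommRing A] [Bialgebra k A]

/-- The socle filtration of the regular comodule for trivial composition factors. -/
def Bn : ℕ → Submodule k A
  | 0 => ⊥
  | n + 1 => ⨅ φ : A →ₗ[k] k, (Bn n).comap (actF φ - φ 1 • LinearMap.id)

theorem mem_Bn_succ (n : ℕ) (a : A) : a ∈ Bn k A (n + 1) ↔ ∀ φ : A →ₗ[k] k, actF φ a - φ 1 • a ∈ Bn k A n := by
  simp [Bn]

theorem Bn_le_succ : ∀ n, Bn k A n ≤ Bn k A (n + 1)
  | 0 => bot_le
  | n + 1 => fun a ha => (mem_Bn_succ k A (n + 1) a).mpr fun φ => Bn_le_succ n ((mem_Bn_succ k A n a).mp ha φ)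

theorem Bn_mono : Monotone (Bn k A) := monotone_nat_of_le_succ (Bn_le_succ k A)

theorem actF_mem {n : ℕ} {a : A} (ha : a ∈ Bn k A n) (φ : A →ₗ[k] k) : actF φ a ∈ Bn k A n := by
  cases n with
  | zero =>
    rw [show a = 0 from (Submodule.mem_bot k).mp ha, map_zero]
    exact zero_mem _
  | succ n =>
    have h := Bn_le_succ k A n ((mem_Bn_succ k A n a).mp ha φ)
    have h2 := add_mem h ((Bn k A (n + 1)).smul_mem (φ 1) ha)
    rwa [sub_add_cancel] at h2

theorem counit_actF (φ : A →ₗ[k] k) (a : A) : Coalgebra.counit (R := k) (actF φ a) = φ a := by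
  have h : ∀ z : A ⊗[k] A, Coalgebra.counit (R := k) (slice φ z) =
      φ (TensorProduct.lid k A ((Coalgebra.counit (R := k)).rTensor A z)) := by
    intro z
    induction z using TensorProduct.induction_on with
    | zero => simp
    | tmul x y => simp [mul_comm]
    | add x y hx hy => simp only [map_add, hx, hy]
  refine (h _).trans ?_
  show φ (TensorProduct.lid k A ((Coalgebra.counit (R := k)).rTensor A (Coalgebra.comul (R := k) a))) = φ a
  rw [Coalgebra.rTensor_counit_comul, TensorProduct.lid_tmul, one_smul]

theorem actF_one (φ : A →ₗ[k] k) : actF φ (1 : A) = φ 1 • (1 : A) := by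
  show slice φ (Coalgebra.comul (R := k) (1 : A)) = _
  rw [Bialgebra.comul_one, Algebra.TensorProduct.one_def, slice_tmul]

theorem one_mem : (1 : A) ∈ Bn k A 1 :=
  (mem_Bn_succ k A 0 _).mpr fun φ => by rw [actF_one, sub_self]; exact zero_mem _

theorem isGroupLike_actF {g : A} (hg : IsGroupLikeElem k g) (φ : A →ₗ[k] k) (y : A) :
    actF φ (g * y) = g * actF (φ ∘ₗ LinearMap.mulLeft k g) y := by
  have h : ∀ z : A ⊗[k] A, slice φ ((g ⊗ₜ[k] g) * z) = g * slice (φ ∘ₗ LinearMap.mulLeft k g) z := by
    intro z
    induction z using TensorProduct.induction_on with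
    | zero => simp
    | tmul x y => simp [Algebra.mul_smul_comm]
    | add x y hx hy => simp only [mul_add, map_add, hx, hy]
  refine Eq.trans ?_ (h _)
  show slice φ (Coalgebra.comul (R := k) (g * y)) = _
  rw [Bialgebra.comul_mul, hg.comul_eq_tmul_self]
  rfl

variable {k A} in
theorem actF_map {A' : Type u} [CommRing A'] [Bialgebra k A'] (f : A →ₐc[k] A') (φ : A' →ₗ[k] k) (a : A) :
    actF φ (f a) = f (actF (φ ∘ₗ (f : A →ₐ[k] A').toLinearMap) a) := by
  have h : ∀ z : A ⊗[k] A, slice φ (TensorProduct.map (f : A →ₐ[k] A').toLinearMap (f : A →ₐ[k] A').toLinearMap z) =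
      f (slice (φ ∘ₗ (f : A →ₐ[k] A').toLinearMap) z) := by
    intro z
    induction z using TensorProduct.induction_on with
    | zero => simp
    | tmul x y => simp
    | add x y hx hy => simp only [map_add, hx, hy]
  refine Eq.trans ?_ (h _)
  show slice φ (Coalgebra.comul (R := k) (f a)) = _
  rw [← CoalgHomClass.map_comp_comul_apply f]
  rfl

variable {k A} in
theorem map_mem {A' : Type u} [CommRing A'] [Bialgebra k A'] (f : A →ₐc[k] A') :
    ∀ (n : ℕ) {a : A}, a ∈ Bn k A n → f a ∈ Bn k A' n
  | 0, a, ha => by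
    rw [show a = 0 from (Submodule.mem_bot k).mp ha, map_zero]
    exact zero_mem _
  | n + 1, a, ha => (mem_Bn_succ k A' n _).mpr fun φ => by
    have h := map_mem f n ((mem_Bn_succ k A n a).mp ha (φ ∘ₗ (f : A →ₐ[k] A').toLinearMap))
    rw [map_sub, map_smul, LinearMap.comp_apply, AlgHom.toLinearMap_apply, map_one] at h
    rw [actF_map]
    exact h

/-- The union of the filtration. -/
def Bs : Submodule k A := ⨆ n, Bn k A n

theorem mem_Bs (a : A) : a ∈ Bs k A ↔ ∃ n, a ∈ Bn k A n :=
  Submodule.mem_iSup_of_directed _ (Bn_mono k A).directed_le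

theorem exists_Bn_of_fg {W : Submodule k A} (hW : W.FG) (h : W ≤ Bs k A) : ∃ n, W ≤ Bn k A n := by
  obtain ⟨s, rfl⟩ := hW
  choose f hf using fun a : s => (mem_Bs k A a).mp (h (Submodule.subset_span a.2))
  refine ⟨s.attach.sup f, Submodule.span_le.mpr fun a ha => ?_⟩
  exact Bn_mono k A (Finset.le_sup (f := f) (s.mem_attach ⟨a, ha⟩)) (hf ⟨a, ha⟩)

end General

section MonoidAlgebra

variable {K : Type u} [CommRing K] {M : Type u} [CommGroup M]

/-- In a group algebra the conilpotent part consists of the constants. -/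
theorem monoidAlgebra_Bn : ∀ (n : ℕ) {x : MonoidAlgebra K M}, x ∈ Bn K (MonoidAlgebra K M) n →
    x = algebraMap K _ (Coalgebra.counit (R := K) x) := by
  classical
  intro n
  induction n with
  | zero =>
    intro x hx
    rw [show x = 0 from (Submodule.mem_bot K).mp hx, map_zero, map_zero]
  | succ n ih =>
    intro x hx
    have hsum : ∀ (φ : MonoidAlgebra K M →ₗ[K] K) (y : MonoidAlgebra K M),
        actF φ y = y.coeff.sum fun m r => (r * φ (MonoidAlgebra.single m 1)) • MonoidAlgebra.single m (1 : K) := by
      intro φ y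
      induction y using MonoidAlgebra.induction_linear with
      | zero => simp
      | add a b ha hb =>
        rw [map_add, ha, hb, MonoidAlgebra.coeff_add, Finsupp.sum_add_index' (by simp) (by intros; simp [add_mul, add_smul])]
      | single m r =>
        rw [MonoidAlgebra.coeff_single, Finsupp.sum_single_index (by simp)]
        rw [show MonoidAlgebra.single m r = r • MonoidAlgebra.single m (1 : K) by simp, map_smul, mul_smul]
        congr 1
        show slice φ (Coalgebra.comul (R := K) (MonoidAlgebra.single m (1 : K))) = _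
        simp
    have hzero : ∀ m : M, m ≠ 1 → x.coeff m = 0 := by
      intro m hm
      let φ : MonoidAlgebra K M →ₗ[K] K :=
        (Finsupp.lapply m).comp (MonoidAlgebra.coeffLinearEquiv K).toLinearMap
      have h1 := (mem_Bn_succ K _ n x).mp hx φ
      have hφ1 : φ 1 = 0 := by simp [φ, MonoidAlgebra.one_def, hm.symm]
      have hφ : actF φ x = x.coeff m • MonoidAlgebra.single m (1 : K) := by
        rw [hsum, Finsupp.sum_eq_single m]
        · simp [φ]
        · intro m' _ hne
          simp [φ, Finsupp.single_eq_of_ne hne.symm]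
        · simp
      rw [hφ1, zero_smul, sub_zero, hφ] at h1
      have h2 := congrArg (fun y : MonoidAlgebra K M => y.coeff m) (ih h1)
      simp [MonoidAlgebra.coe_algebraMap, Finsupp.single_eq_of_ne hm] at h2
      exact h2
    have hx1 : x = algebraMap K _ (x.coeff 1) := MonoidAlgebra.ext (Finsupp.ext fun m => by
      rcases eq_or_ne m 1 with rfl | hm
      · simp [MonoidAlgebra.coe_algebraMap]
      · simp [MonoidAlgebra.coe_algebraMap, hzero m hm, Finsupp.single_eq_of_ne hm])
    conv_rhs => rw [hx1, Bialgebra.counit_algebraMap]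
    exact hx1

end MonoidAlgebra

section BaseChange

variable {k : Type u} [CommRing k] {A : Type u} [CommRing A] [Bialgebra k A]
variable {K : Type u} [CommRing K] [Algebra k K]

theorem comul_one_tmul (a : A) :
    CoalgebraStruct.comul (R := K) ((1 : K) ⊗ₜ[k] a) =
      TensorProduct.AlgebraTensorModule.distribBaseChange k K A A ((1 : K) ⊗ₜ[k] CoalgebraStruct.comul (R := k) a) := by
  rw [TensorProduct.comul_tmul, show CoalgebraStruct.comul (R := K) (1 : K) = (1 : K) ⊗ₜ[K] (1 : K) from Bialgebra.comul_one]
  induction CoalgebraStruct.comul (R := k) a using TensorProduct.induction_on with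
  | zero => simp
  | tmul u w => simp [TensorProduct.AlgebraTensorModule.distribBaseChange]
  | add u w hu hw => simp only [TensorProduct.tmul_add, map_add, hu, hw]

/-- Forms on a base change, on `1 ⊗ a`. -/
theorem actF_one_tmul (Φ : K ⊗[k] A →ₗ[K] K) (a : A) :
    actF Φ ((1 : K) ⊗ₜ[k] a) =
      TensorProduct.lift ((TensorProduct.mk k K A).compl₁₂ (Φ.restrictScalars k ∘ₗ TensorProduct.mk k K A 1)
        LinearMap.id).flip (CoalgebraStruct.comul (R := k) a) := by
  show slice Φ (CoalgebraStruct.comul (R := K) ((1 : K) ⊗ₜ[k] a)) = _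
  rw [comul_one_tmul]
  induction CoalgebraStruct.comul (R := k) a using TensorProduct.induction_on with
  | zero => simp
  | tmul u w => simp [TensorProduct.AlgebraTensorModule.distribBaseChange, smul_tmul']
  | add u w hu hw => simp only [TensorProduct.tmul_add, map_add, hu, hw]

variable [Module.Free k A]

/-- The filtration goes into the filtration of the base change. -/
theorem tmul_mem_Bn : ∀ (n : ℕ) {a : A}, a ∈ Bn k A n → (1 : K) ⊗ₜ[k] a ∈ Bn K (K ⊗[k] A) n := by
  intro n
  induction n with
  | zero =>
    intro a ha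
    rw [show a = 0 from (Submodule.mem_bot k).mp ha, tmul_zero]
    exact zero_mem _
  | succ n ih =>
    intro a ha
    refine (mem_Bn_succ K _ n _).mpr fun Φ => ?_
    let L := TensorProduct.lift ((TensorProduct.mk k K A).compl₁₂ (Φ.restrictScalars k ∘ₗ TensorProduct.mk k K A 1)
      LinearMap.id).flip
    have h1 : CoalgebraStruct.comul (R := k) a - a ⊗ₜ[k] (1 : A) ∈ LinearMap.range ((Bn k A n).subtype.rTensor A) :=
      (mem_range_rTensor_subtype_iff _ _).mpr fun φ => by
        rw [map_sub, slice_tmul]
        exact (mem_Bn_succ k A n a).mp ha φ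
    obtain ⟨z, hz⟩ := h1
    have h2 : ∀ w, L ((Bn k A n).subtype.rTensor A w) ∈ Bn K (K ⊗[k] A) n := by
      intro w
      induction w using TensorProduct.induction_on with
      | zero => simp
      | tmul x y =>
        have := (Bn K (K ⊗[k] A) n).smul_mem (Φ ((1 : K) ⊗ₜ[k] y)) (ih x.2)
        simpa [L, smul_tmul'] using this
      | add x y hx hy => simpa only [map_add] using add_mem hx hy
    have e : actF Φ ((1 : K) ⊗ₜ[k] a) - Φ 1 • ((1 : K) ⊗ₜ[k] a) = L ((Bn k A n).subtype.rTensor A z) := by
      rw [hz, map_sub, actF_one_tmul]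
      congr 1
      simp [L, smul_tmul', Algebra.TensorProduct.one_def]
    rw [e]
    exact h2 z

end BaseChange

section Field

variable {k : Type u} [Field k] {A : Type u} [CommRing A]

theorem mul_mem' [Bialgebra k A] : ∀ (N : ℕ) (m n : ℕ), m + n ≤ N → ∀ {a b : A}, a ∈ Bn k A m → b ∈ Bn k A n →
    a * b ∈ Bn k A (m + n) := by
  intro N
  induction N with
  | zero =>
    intro m n h a b ha hb
    obtain rfl : m = 0 := by omega
    rw [show a = 0 from (Submodule.mem_bot k).mp ha, zero_mul]
    exact zero_mem _
  | succ N ih =>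
    intro m n h a b ha hb
    match m, n with
    | 0, n =>
      rw [show a = 0 from (Submodule.mem_bot k).mp ha, zero_mul]
      exact zero_mem _
    | m + 1, 0 =>
      rw [show b = 0 from (Submodule.mem_bot k).mp hb, mul_zero]
      exact zero_mem _
    | m + 1, n + 1 =>
      rw [show m + 1 + (n + 1) = (m + n + 1) + 1 by omega, mem_Bn_succ]
      have key : CoalgebraStruct.comul (R := k) (a * b) - (a * b) ⊗ₜ[k] (1 : A) ∈
          LinearMap.range ((Bn k A (m + n + 1)).subtype.rTensor A) := by
        have hrange : ∀ (p q : ℕ) (z : A ⊗[k] A) (w : A ⊗[k] A), p + q ≤ N → p + q ≤ m + n + 1 →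
            z ∈ LinearMap.range ((Bn k A p).subtype.rTensor A) →
            w ∈ LinearMap.range ((Bn k A q).subtype.rTensor A) →
            z * w ∈ LinearMap.range ((Bn k A (m + n + 1)).subtype.rTensor A) := by
          rintro p q _ _ hpq hpq' ⟨z, rfl⟩ ⟨w, rfl⟩
          induction z using TensorProduct.induction_on with
          | zero => simp
          | add x y hx hy => simpa only [map_add, add_mul] using add_mem hx hy
          | tmul x y =>
            induction w using TensorProduct.induction_on with
            | zero => simp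
            | add u v hu hv => simpa only [map_add, mul_add] using add_mem hu hv
            | tmul u v =>
              exact ⟨⟨(x : A) * u, Bn_mono k A hpq' (ih p q hpq x.2 u.2)⟩ ⊗ₜ[k] (y * v), by
                simp [Algebra.TensorProduct.tmul_mul_tmul]⟩
        have hd : ∀ (p : ℕ) {c : A}, c ∈ Bn k A (p + 1) →
            CoalgebraStruct.comul (R := k) c - c ⊗ₜ[k] (1 : A) ∈ LinearMap.range ((Bn k A p).subtype.rTensor A) :=
          fun p c hc => (mem_range_rTensor_subtype_iff _ _).mpr fun φ => by
            rw [map_sub, slice_tmul]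
            exact (mem_Bn_succ k A p c).mp hc φ
        have e : CoalgebraStruct.comul (R := k) (a * b) - (a * b) ⊗ₜ[k] (1 : A) =
            (CoalgebraStruct.comul (R := k) a - a ⊗ₜ[k] (1 : A)) * CoalgebraStruct.comul (R := k) b +
              (a ⊗ₜ[k] (1 : A)) * (CoalgebraStruct.comul (R := k) b - b ⊗ₜ[k] (1 : A)) := by
          rw [sub_mul, mul_sub, Algebra.TensorProduct.tmul_mul_tmul, mul_one, Bialgebra.comul_mul]
          abel
        rw [e]
        refine add_mem (hrange m (n + 1) _ _ (by omega) (by omega) (hd m ha) ?_)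
          (hrange (m + 1) n _ _ (by omega) (by omega) ⟨⟨a, ha⟩ ⊗ₜ 1, rfl⟩ (hd n hb))
        exact (mem_range_rTensor_subtype_iff _ _).mpr fun φ => actF_mem k A hb φ
      intro φ
      have := (mem_range_rTensor_subtype_iff _ _).mp key φ
      rw [map_sub, slice_tmul] at this
      exact this

variable [HopfAlgebra k A] [Coalgebra.IsCocomm k A]

variable (k A) in
/-- The conilpotent part, as a subalgebra. -/
def B : Subalgebra k A where
  carrier := Bs k A
  mul_mem' {a b} ha hb := by
    obtain ⟨m, hm⟩ := (mem_Bs k A a).mp ha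
    obtain ⟨n, hn⟩ := (mem_Bs k A b).mp hb
    exact (mem_Bs k A _).mpr ⟨_, mul_mem' _ m n le_rfl hm hn⟩
  one_mem' := (mem_Bs k A 1).mpr ⟨1, one_mem k A⟩
  add_mem' := (Bs k A).add_mem
  zero_mem' := (Bs k A).zero_mem
  algebraMap_mem' r := by
    rw [Algebra.algebraMap_eq_smul_one]
    exact (Bs k A).smul_mem r ((mem_Bs k A 1).mpr ⟨1, one_mem k A⟩)

theorem comul_mem (n : ℕ) {b : A} (hb : b ∈ Bn k A n) : CoalgebraStruct.comul (R := k) b ∈
    LinearMap.range (TensorProduct.map (Bn k A n).subtype (Bn k A n).subtype) := by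
  obtain ⟨p, hp⟩ := LinearMap.exists_leftInverse_of_injective (Bn k A n).subtype (Submodule.ker_subtype _)
  let P : A →ₗ[k] A := (Bn k A n).subtype ∘ₗ p
  have hP : ∀ x : Bn k A n, P x = x := fun x =>
    congrArg Subtype.val (LinearMap.congr_fun hp x)
  obtain ⟨z, hz⟩ : CoalgebraStruct.comul (R := k) b ∈ LinearMap.range ((Bn k A n).subtype.rTensor A) :=
    (mem_range_rTensor_subtype_iff _ _).mpr fun φ => actF_mem k A hb φ
  have h1 : TensorProduct.map P LinearMap.id (CoalgebraStruct.comul (R := k) b) = CoalgebraStruct.comul (R := k) b := by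
    rw [← hz]
    clear hz
    induction z using TensorProduct.induction_on with
    | zero => simp
    | tmul x y => simp [hP]
    | add x y hx hy => simp only [map_add, hx, hy]
  have h2 : TensorProduct.map LinearMap.id P (CoalgebraStruct.comul (R := k) b) = CoalgebraStruct.comul (R := k) b := by
    conv_lhs => rw [← Coalgebra.comm_comul k b]
    conv_rhs => rw [← Coalgebra.comm_comul k b, ← h1]
    induction CoalgebraStruct.comul (R := k) b using TensorProduct.induction_on with
    | zero => simp
    | tmul x y => simp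
    | add x y hx hy => simp only [map_add, hx, hy]
  refine ⟨TensorProduct.map p p (CoalgebraStruct.comul (R := k) b), ?_⟩
  conv_rhs => rw [← h1, ← h2]
  generalize CoalgebraStruct.comul (R := k) b = w
  induction w using TensorProduct.induction_on with
  | zero => simp
  | tmul x y => simp [P]
  | add x y hx hy => simp only [map_add, hx, hy]

theorem isHopfSubalgebra : SGA3.IsHopfSubalgebra k A (B k A) := by
  refine ⟨fun b hb => ?_, fun b hb => ?_⟩
  · obtain ⟨n, hn⟩ := (mem_Bs k A b).mp hb
    obtain ⟨z, hz⟩ := comul_mem n hn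
    let j : Bn k A n →ₗ[k] B k A :=
      { toFun := fun x => ⟨x, (mem_Bs k A _).mpr ⟨n, x.2⟩⟩
        map_add' := fun _ _ => rfl
        map_smul' := fun _ _ => rfl }
    refine ⟨TensorProduct.map j j z, ?_⟩
    rw [← hz, ← LinearMap.comp_apply, ← TensorProduct.map_comp]
    rfl
  · obtain ⟨n, hn⟩ := (mem_Bs k A b).mp hb
    let f : A →ₐc[k] A := BialgHom.ofAlgHom (HopfAlgebra.antipodeAlgHom k A)
      (AlgHom.ext fun a => HopfAlgebra.counit_antipode a)
      (AlgHom.ext fun a => by
        refine Eq.trans ?_ (comul_antipode (k := k) a).symm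
        rw [Coalgebra.comm_comul]
        rfl)
    exact (mem_Bs k A _).mpr ⟨n, map_mem f n hn⟩

end Field

end Groth.Agent.GrpSchLib.UniPart
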