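import Groth.Agent.GrpSchLib.UniPart
import Groth.Agent.ComodLib.Coalg
import Groth.Agent.S16065
import Groth.Prelude.Def_SGA3b
import Mathlib.RingTheory.Bialgebra.TensorProduct
import Mathlib.RingTheory.HopfAlgebra.Quotient
import Mathlib.LinearAlgebra.Eigenspace.Triangularizable
import Mathlib.LinearAlgebra.Eigenspace.Pi
import Mathlib.FieldTheory.IsAlgClosed.AlgebraicClosure

/-! A commutative affine group is an extension of a unipotent group by its largest subgroup of multiplicative type. -/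

set_option autoImplicit false

universe u

open TensorProduct WithConv

noncomputable section

namespace Groth.Agent.GrpSchLib.UniPart

open Groth.Agent.ComodLib

variable {k : Type u} [Field k] {A : Type u} [CommRing A] [HopfAlgebra k A] [Coalgebra.IsCocomm k A]

/-- The conilpotent part is unipotent. -/
theorem isUnipotent :
    letI := SubHopf.hopf (B k A) (isHopfSubalgebra (k := k) (A := A))
    HopfRep.IsUnipotent k (B k A) := by
  classical
  letI := SubHopf.hopf (B k A) (isHopfSubalgebra (k := k) (A := A))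
  intro V _ _ _ _ _
  let inc : B k A →ₐc[k] A := BialgHom.ofAlgHom (B k A).val rfl
    (AlgHom.ext fun b => SubHopf.map_comulRes (B k A) isHopfSubalgebra b)
  let P : ℕ → Prop := fun n => ∃ v : V, v ≠ 0 ∧ ∀ f : V →ₗ[k] k, (coefFun (C := B k A) f v : A) ∈ Bn k A n
  have hex : ∃ n, P n := by
    obtain ⟨v, hv⟩ := exists_ne (0 : V)
    let cl : (V →ₗ[k] k) →ₗ[k] A :=
      { toFun := fun f => (coefFun (C := B k A) f v : A)
        map_add' := fun f g => by simp [coefFun_apply, LinearMap.rTensor_add]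
        map_smul' := fun r f => by simp [coefFun_apply, LinearMap.rTensor_smul] }
    obtain ⟨n, hn⟩ := exists_Bn_of_fg k A (W := LinearMap.range cl)
      (Module.Finite.iff_fg.mp inferInstance) (by rintro _ ⟨f, rfl⟩; exact (coefFun (C := B k A) f v).2)
    exact ⟨n, v, hv, fun f => hn ⟨f, rfl⟩⟩
  obtain ⟨v, hv, hmem⟩ := Nat.find_spec hex
  rcases Nat.eq_zero_or_pos (Nat.find hex) with h0 | hpos
  · refine absurd ?_ hv
    refine (Module.forall_dual_apply_eq_zero_iff k v).mp fun f => ?_
    have h1 := hmem f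
    rw [h0] at h1
    have h2 : coefFun (C := B k A) f v = 0 := Subtype.ext ((Submodule.mem_bot k).mp h1)
    rw [← counit_coefFun (C := B k A) f v, h2, map_zero]
  obtain ⟨m, hm⟩ := Nat.exists_eq_succ_of_ne_zero hpos.ne'
  have hkill : ∀ ψ : B k A →ₗ[k] k, ψ 1 = 0 → actF ψ v = 0 := by
    intro ψ hψ
    by_contra hne
    refine Nat.find_min hex (show m < Nat.find hex by omega) ⟨actF ψ v, hne, fun f => ?_⟩
    obtain ⟨ψ', hψ'⟩ := LinearMap.exists_extend (p := Subalgebra.toSubmodule (B k A)) ψ
    have hcomp : ψ' ∘ₗ (inc : B k A →ₐ[k] A).toLinearMap = ψ := LinearMap.ext fun b => LinearMap.congr_fun hψ' b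
    have hm2 := hmem f
    rw [hm] at hm2
    have h1 := (mem_Bn_succ k A m _).mp hm2 ψ'
    have h2 : ψ' 1 = 0 := by
      have h3 := LinearMap.congr_fun hcomp 1
      rw [LinearMap.comp_apply, AlgHom.toLinearMap_apply, map_one] at h3
      rw [h3, hψ]
    rw [h2, zero_smul, sub_zero] at h1
    rw [comodHom_actF (isComodHom_coefFun f) ψ v]
    have h4 : actF ψ' ((coefFun (C := B k A) f v : A)) = inc (actF ψ (coefFun (C := B k A) f v)) := by
      rw [← hcomp, ← actF_map]
      rfl
    rw [h4] at h1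
    exact h1
  intro hbot
  refine hv ((Submodule.mem_bot k).mp (hbot ▸ ?_))
  refine ext_of_forall_slice_eq fun ψ => ?_
  rw [slice_tmul]
  have h := hkill (ψ + (-ψ 1) • Coalgebra.counit (R := k)) (by
    simp [Bialgebra.counit_one])
  rw [actF_add, LinearMap.add_apply, actF_smul, LinearMap.smul_apply, actF_counit,
    neg_smul, ← sub_eq_add_neg, sub_eq_zero] at h
  exact h

/-- A commuting family of endomorphisms which are nilpotent lifts some element into a proper invariant subspace. -/
theorem exists_lift_invariant {ι : Type*} {V : Type u} [AddCommGroup V] [Module k V] (N : ι → V →ₗ[k] V)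
    (hc : ∀ i j x, N i (N j x) = N j (N i x)) (W U : Submodule k V) [Module.Finite k W]
    (hWN : ∀ i, ∀ x ∈ W, N i x ∈ W) (hnil : ∀ i, ∀ x ∈ W, ∃ e : ℕ, (N i ^ e) x = 0)
    (hUW : U < W) (hUN : ∀ i, ∀ x ∈ U, N i x ∈ U) : ∃ x ∈ W, x ∉ U ∧ ∀ i, N i x ∈ U := by
  classical
  let Q : ℕ → Prop := fun d => ∃ U' : Submodule k V, U < U' ∧ U' ≤ W ∧ (∀ i, ∀ x ∈ U', N i x ∈ U') ∧
    Module.finrank k U' = d
  have hQ : ∃ d, Q d := ⟨_, W, hUW, le_rfl, hWN, rfl⟩
  obtain ⟨U', h1, h2, h3, h4⟩ := Nat.find_spec hQ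
  haveI : Module.Finite k U' := Submodule.finiteDimensional_of_le h2
  obtain ⟨x, hx, hxU⟩ := SetLike.exists_of_lt h1
  refine ⟨x, h2 hx, hxU, fun i => ?_⟩
  let U'' : Submodule k V := U ⊔ U'.map (N i)
  have hle : U'' ≤ U' := sup_le h1.le (Submodule.map_le_iff_le_comap.mpr fun y hy => h3 i y hy)
  have hinv : ∀ j, ∀ y ∈ U'', N j y ∈ U'' := by
    intro j y hy
    obtain ⟨a, ha, b, ⟨c, hc', rfl⟩, rfl⟩ := Submodule.mem_sup.mp hy
    rw [map_add]
    refine add_mem (Submodule.mem_sup_left (hUN j a ha)) (Submodule.mem_sup_right ?_)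
    exact ⟨N j c, h3 j c hc', hc i j c⟩
  by_contra hni
  have hlt : U < U'' := lt_of_le_not_ge le_sup_left fun hge => hni (hge (Submodule.mem_sup_right ⟨x, hx, rfl⟩))
  have heq : U'' = U' := by
    by_contra hne
    have hlt' : Module.finrank k U'' < Module.finrank k U' := Submodule.finrank_lt_finrank_of_lt (lt_of_le_of_ne hle hne)
    exact Nat.find_min hQ (h4 ▸ hlt') ⟨U'', hlt, hle.trans h2, hinv, rfl⟩
  have hiter : ∀ (e : ℕ) (y : V), y ∈ U' → ∃ z ∈ U', y - (N i ^ e) z ∈ U := by
    intro e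
    induction e with
    | zero => exact fun y hy => ⟨y, hy, by simp⟩
    | succ e ih =>
      intro y hy
      obtain ⟨z, hz, hyz⟩ := ih y hy
      obtain ⟨a, ha, b, ⟨c, hc', rfl⟩, hab⟩ := Submodule.mem_sup.mp (heq ▸ hz : z ∈ U'')
      refine ⟨c, hc', ?_⟩
      have hpow : ∀ (e : ℕ) (w : V), w ∈ U → (N i ^ e) w ∈ U := by
        intro e
        induction e with
        | zero => simp
        | succ e ih' => exact fun w hw => by rw [pow_succ]; exact ih' _ (hUN i w hw)
      have : y - (N i ^ (e + 1)) c = (y - (N i ^ e) z) + (N i ^ e) a := by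
        rw [← hab, map_add, pow_succ]
        show _ = _
        rw [Module.End.mul_apply]
        abel
      rw [this]
      exact add_mem hyz (hpow e a ha)
  obtain ⟨b, hb⟩ : ∃ e : ℕ, ∀ z ∈ W, (N i ^ e) z = 0 := by
    obtain ⟨s, hs⟩ := (Module.Finite.iff_fg (N := W)).mp inferInstance
    choose e he using fun a : s => hnil i a (hs ▸ Submodule.subset_span a.2)
    refine ⟨s.attach.sup e, fun z hz => ?_⟩
    rw [← hs] at hz
    induction hz using Submodule.span_induction with
    | mem a ha =>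
      obtain ⟨d, hd⟩ := Nat.exists_eq_add_of_le (Finset.le_sup (f := e) (s.mem_attach ⟨a, ha⟩))
      rw [hd, add_comm, pow_add, Module.End.mul_apply, he ⟨a, ha⟩, map_zero]
    | zero => simp
    | add a b _ _ ha hb => rw [map_add, ha, hb, add_zero]
    | smul r a _ ha => rw [map_smul, ha, smul_zero]
  obtain ⟨z, hz, hxz⟩ := hiter b x hx
  rw [hb z (h2 hz), sub_zero] at hxz
  exact hxU hxz

omit [Coalgebra.IsCocomm k A] in
theorem isGroupLike_antipode {h : A} (hh : IsGroupLikeElem k h) :
    IsGroupLikeElem k (HopfAlgebra.antipode k h) ∧ HopfAlgebra.antipode k h * h = 1 := by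
  refine ⟨⟨?_, ?_⟩, ?_⟩
  · rw [HopfAlgebra.counit_antipode, hh.counit_eq_one]
  · rw [comul_antipode, hh.comul_eq_tmul_self]
    simp
  · have := HopfAlgebra.mul_antipode_rTensor_comul_apply (R := k) h
    rw [hh.comul_eq_tmul_self, LinearMap.rTensor_tmul, LinearMap.mul'_apply, hh.counit_eq_one, map_one] at this
    exact this

variable (k A) in
/-- The span of the translates of the conilpotent part by group-like elements. -/
def glSpan : Submodule k A := Submodule.span k {x | ∃ g y : A, IsGroupLikeElem k g ∧ y ∈ Bs k A ∧ x = g * y}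

/-- Over an algebraically closed field the translates of the conilpotent part span. -/
theorem glSpan_eq_top [IsAlgClosed k] : glSpan k A = ⊤ := by
  classical
  refine eq_top_iff.mpr fun a _ => ?_
  haveI : Module.Free k A := inferInstance
  obtain ⟨W, hWsub, hWfin, haW⟩ : ∃ W : Submodule k A, HopfRep.IsSubcomod (k := k) (A := A) W ∧
      Module.Finite k W ∧ a ∈ W := by
    obtain ⟨W, h1, h2, h3⟩ := exists_finite_subcomod_mem (k := k) (C := A) a
    exact ⟨W, h3, h1, h2⟩
  haveI := hWfin
  have hcomm : ∀ (φ ψ : A →ₗ[k] k) (x : A), actF φ (actF ψ x) = actF ψ (actF φ x) := fun φ ψ x => by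
    have e1 := actF_convMul (toConv φ) (toConv ψ) x
    have e2 := actF_convMul (toConv ψ) (toConv φ) x
    rw [_root_.mul_comm] at e1
    exact e1.symm.trans e2
  let f : (A →ₗ[k] k) → Module.End k W := fun φ =>
    (actF φ).restrict fun x hx => subcomod_actF_mem hWsub φ hx
  have hfc : ∀ φ ψ, Commute (f φ) (f ψ) := fun φ ψ => LinearMap.ext fun x => Subtype.ext (hcomm φ ψ x)
  have htop : (⨆ χ : (A →ₗ[k] k) → k, ⨅ φ, (f φ).maxGenEigenspace (χ φ)) = ⊤ :=
    Module.End.iSup_iInf_maxGenEigenspace_eq_top_of_forall_mapsTo f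
      (fun φ ψ μ => Module.End.mapsTo_maxGenEigenspace_of_comm (hfc ψ φ) μ)
      (fun φ => Module.End.iSup_maxGenEigenspace_eq_top (f φ))
  suffices hχ : ∀ χ : (A →ₗ[k] k) → k, (⨅ φ, (f φ).maxGenEigenspace (χ φ)).map W.subtype ≤ glSpan k A by
    have h1 : W ≤ glSpan k A := by
      calc W = (⊤ : Submodule k W).map W.subtype := (Submodule.map_subtype_top W).symm
        _ ≤ _ := by rw [← htop, Submodule.map_iSup]; exact iSup_le hχ
    exact h1 haW
  intro χ
  set Wχ := (⨅ φ, (f φ).maxGenEigenspace (χ φ)).map W.subtype with hWχ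
  haveI : Module.Finite k Wχ := Module.Finite.map _ _
  let N : (A →ₗ[k] k) → A →ₗ[k] A := fun φ => actF φ - χ φ • LinearMap.id
  have hNc : ∀ φ ψ x, N φ (N ψ x) = N ψ (N φ x) := fun φ ψ x => by
    simp only [N, LinearMap.sub_apply, LinearMap.smul_apply, LinearMap.id_apply, map_sub, map_smul, hcomm φ ψ]
    module
  have hpow : ∀ (φ : A →ₗ[k] k) (e : ℕ) (x : W),
      (((f φ - χ φ • 1) ^ e) x : A) = (N φ ^ e) (x : A) := by
    intro φ e
    induction e with
    | zero => exact fun x => rfl
    | succ e ih =>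
      intro x
      rw [pow_succ, pow_succ, Module.End.mul_apply, Module.End.mul_apply, ih]
      rfl
  have hnil : ∀ φ, ∀ x ∈ Wχ, ∃ e : ℕ, (N φ ^ e) x = 0 := by
    rintro φ _ ⟨x, hx, rfl⟩
    obtain ⟨e, he⟩ := (Module.End.mem_iInf_maxGenEigenspace_iff f χ x).mp hx φ
    exact ⟨e, (hpow φ e x).symm.trans (congrArg Subtype.val he)⟩
  have hWN : ∀ φ, ∀ x ∈ Wχ, N φ x ∈ Wχ := by
    rintro φ _ ⟨x, hx, rfl⟩
    refine ⟨(f φ - χ φ • 1) x, ?_, rfl⟩
    refine (Module.End.mem_iInf_maxGenEigenspace_iff f χ _).mpr fun ψ => ?_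
    obtain ⟨e, he⟩ := (Module.End.mem_iInf_maxGenEigenspace_iff f χ x).mp hx ψ
    refine ⟨e, Subtype.ext ?_⟩
    refine (hpow ψ e _).trans ?_
    show (N ψ ^ e) (N φ (x : A)) = 0
    have he' : (N ψ ^ e) (x : A) = 0 := (hpow ψ e x).symm.trans (congrArg Subtype.val he)
    have hcc : ∀ (e : ℕ) (y : A), (N ψ ^ e) (N φ y) = N φ ((N ψ ^ e) y) := by
      intro e
      induction e with
      | zero => simp
      | succ e ih => intro y; rw [pow_succ, Module.End.mul_apply, Module.End.mul_apply, hNc ψ φ, ih]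
    rw [hcc, he', map_zero]
  rcases eq_or_ne Wχ ⊥ with hbot | hne
  · rw [hbot]; exact bot_le
  obtain ⟨w, hw, hw0, hwN⟩ := exists_lift_invariant N hNc Wχ ⊥ hWN hnil (bot_lt_iff_ne_bot.mpr hne)
    (fun φ x hx => by rw [(Submodule.mem_bot k).mp hx, map_zero]; exact zero_mem _)
  have hw' : ∀ φ, actF φ w = χ φ • w := fun φ => sub_eq_zero.mp ((Submodule.mem_bot k).mp (hwN φ))
  have hχval : ∀ φ, φ w = χ φ * Coalgebra.counit (R := k) w := fun φ => by
    rw [← counit_actF k A φ w, hw', map_smul, smul_eq_mul]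
  have hεw : Coalgebra.counit (R := k) w ≠ 0 := fun h0 =>
    hw0 ((Submodule.mem_bot k).mpr ((Module.forall_dual_apply_eq_zero_iff k w).mp fun φ => by rw [hχval φ, h0, mul_zero]))
  let h : A := (Coalgebra.counit (R := k) w)⁻¹ • w
  have hφh : ∀ φ : A →ₗ[k] k, φ h = χ φ := fun φ => by
    rw [map_smul, hχval φ, smul_eq_mul, mul_comm (χ φ), ← mul_assoc, inv_mul_cancel₀ hεw, one_mul]
  have hgl : IsGroupLikeElem k h := ⟨by rw [map_smul, smul_eq_mul, inv_mul_cancel₀ hεw],
    ext_of_forall_slice_eq fun φ => by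
      rw [slice_tmul, hφh]
      show actF φ h = _
      rw [map_smul, hw', smul_comm]⟩
  obtain ⟨hgl', hinv⟩ := isGroupLike_antipode hgl
  let U : Submodule k A := Wχ ⊓ (Bs k A).map (LinearMap.mulLeft k h)
  by_contra hnle
  have hUW : U < Wχ := lt_of_le_of_ne inf_le_left fun e => hnle fun x hx => by
    obtain ⟨y, hy, rfl⟩ := (e ▸ hx : x ∈ U).2
    exact Submodule.subset_span ⟨h, y, hgl, hy, rfl⟩
  have hUN : ∀ φ, ∀ x ∈ U, N φ x ∈ U := by
    rintro φ x ⟨hx, y, hy, rfl⟩
    refine ⟨hWN φ _ hx, ?_⟩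
    obtain ⟨n, hn⟩ := (mem_Bs k A y).mp hy
    refine ⟨actF (φ ∘ₗ LinearMap.mulLeft k h) y - χ φ • y,
      sub_mem ((mem_Bs k A _).mpr ⟨n, actF_mem k A hn _⟩) ((Bs k A).smul_mem _ hy), ?_⟩
    simp only [N, LinearMap.mulLeft_apply, LinearMap.sub_apply, LinearMap.smul_apply, LinearMap.id_apply,
      isGroupLike_actF k A hgl, mul_sub, Algebra.mul_smul_comm]
  obtain ⟨x, hx, hxU, hxN⟩ := exists_lift_invariant N hNc Wχ U hWN hnil hUW hUN
  refine hxU ⟨hx, HopfAlgebra.antipode k h * x, ?_, ?_⟩
  · haveI : Module.Finite k U := Submodule.finiteDimensional_of_le inf_le_left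
    obtain ⟨n, hn⟩ := exists_Bn_of_fg k A (W := U.map (LinearMap.mulLeft k (HopfAlgebra.antipode k h)))
      ((Module.Finite.iff_fg.mp (inferInstanceAs (Module.Finite k U))).map _) (by
        rintro _ ⟨z, ⟨-, y, hy, rfl⟩, rfl⟩
        simp only [LinearMap.mulLeft_apply, ← mul_assoc, hinv, one_mul]
        exact hy)
    refine (mem_Bs k A _).mpr ⟨n + 1, (mem_Bn_succ k A n _).mpr fun φ => hn ?_⟩
    refine ⟨_, hxN (φ ∘ₗ LinearMap.mulLeft k (HopfAlgebra.antipode k h)), ?_⟩
    simp only [N, LinearMap.mulLeft_apply, LinearMap.sub_apply, LinearMap.smul_apply, LinearMap.id_apply,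
      isGroupLike_actF k A hgl', mul_sub, Algebra.mul_smul_comm, ← hφh, LinearMap.comp_apply, hinv]
  · rw [LinearMap.mulLeft_apply, ← mul_assoc, _root_.mul_comm h, hinv, one_mul]

/-- The filtration of a base change is spanned by the filtration. -/
theorem Bn_baseChange_le {K : Type u} [Field K] [Algebra k K] : ∀ n,
    Bn K (K ⊗[k] A) n ≤ Submodule.span K {z | ∃ b ∈ Bs k A, z = (1 : K) ⊗ₜ[k] b} := by
  classical
  let bas := Module.Free.chooseBasis k K
  let c := TensorProduct.equivFinsuppOfBasisLeft (N := A) bas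
  have hkey : ∀ n, ∀ z ∈ Bn K (K ⊗[k] A) n, ∀ i, c z i ∈ Bn k A n := by
    intro n
    induction n with
    | zero =>
      intro z hz i
      rw [show z = 0 from (Submodule.mem_bot K).mp hz, map_zero]
      exact zero_mem _
    | succ n ih =>
      intro z hz i
      refine (mem_Bn_succ k A n _).mpr fun φ => ?_
      let Φ : K ⊗[k] A →ₗ[K] K := (AlgebraTensorModule.rid k K K).toLinearMap ∘ₗ φ.baseChange K
      have hΦ : ∀ (r : K) (a : A), Φ (r ⊗ₜ[k] a) = φ a • r := fun r a => by simp [Φ]
      have hact : ∀ w : K ⊗[k] A, actF Φ w = (actF φ).baseChange K w := by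
        intro w
        induction w using TensorProduct.induction_on with
        | zero => simp
        | add x y hx hy => simp only [map_add, hx, hy]
        | tmul r a =>
          rw [show r ⊗ₜ[k] a = r • ((1 : K) ⊗ₜ[k] a) by rw [smul_tmul', smul_eq_mul, mul_one], map_smul, map_smul,
            LinearMap.baseChange_tmul, actF_one_tmul]
          congr 1
          show _ = (1 : K) ⊗ₜ[k] slice φ (CoalgebraStruct.comul (R := k) a)
          induction CoalgebraStruct.comul (R := k) a using TensorProduct.induction_on with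
          | zero => simp
          | tmul u w =>
            simp [hΦ]
            try rw [smul_assoc, one_smul]
          | add u w hu hw => simp only [map_add, hu, hw, tmul_add]
      have h1 := ih _ ((mem_Bn_succ K _ n z).mp hz Φ) i
      have hcw : ∀ (T : A →ₗ[k] A) (w : K ⊗[k] A), c (T.baseChange K w) i = T (c w i) := by
        intro T w
        induction w using TensorProduct.induction_on with
        | zero => simp
        | tmul r a => simp [c, TensorProduct.equivFinsuppOfBasisLeft_apply]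
        | add x y hx hy => simp only [map_add, Finsupp.add_apply, hx, hy]
      rw [hact, Algebra.TensorProduct.one_def, hΦ, map_sub, Finsupp.sub_apply, hcw] at h1
      have h2 : c ((φ 1 • (1 : K)) • z) i = φ 1 • c z i := by
        rw [smul_assoc, one_smul, map_smul, Finsupp.smul_apply]
      rwa [h2] at h1
  intro n z hz
  have hz' : z = (c z).sum fun i n => bas i ⊗ₜ[k] n := by
    rw [← TensorProduct.equivFinsuppOfBasisLeft_symm_apply, LinearEquiv.symm_apply_apply]
  rw [hz']
  refine Submodule.sum_mem _ fun i _ => ?_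
  show (bas i) ⊗ₜ[k] c z i ∈ _
  rw [show bas i ⊗ₜ[k] c z i = bas i • ((1 : K) ⊗ₜ[k] c z i) by rw [smul_tmul', smul_eq_mul, mul_one]]
  exact Submodule.smul_mem _ _ (Submodule.subset_span ⟨_, (mem_Bs k A _).mpr ⟨n, hkey n z hz i⟩, rfl⟩)

variable (k A) in
/-- The ideal of the largest subgroup of multiplicative type. -/
def J : Ideal A := SGA3.augIdealSpan k A (B k A)

theorem isHopfIdeal_J : (J k A).IsHopfIdeal k := by
  let q := Algebra.TensorProduct.map (Ideal.Quotient.mkₐ k (J k A)) (Ideal.Quotient.mkₐ k (J k A))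
  refine { counit_eq_zero := ?_, map_mkQ_comul_eq_zero := ?_, antipode_mem := ?_ }
  · intro x hx
    have : J k A ≤ RingHom.ker (Bialgebra.counitAlgHom k A) := Ideal.span_le.mpr fun b hb => hb.2
    exact this hx
  · intro x hx
    have : J k A ≤ RingHom.ker (q.comp (Bialgebra.comulAlgHom k A)) := Ideal.span_le.mpr fun b hb => by
      obtain ⟨z, hz⟩ := (isHopfSubalgebra (k := k) (A := A)).1 b hb.1
      have hmk : ∀ y : B k A, Ideal.Quotient.mkₐ k (J k A) (y : A) =
          algebraMap k _ (Coalgebra.counit (R := k) (y : A)) := fun y => by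
        rw [← AlgHom.commutes (Ideal.Quotient.mkₐ k (J k A))]
        refine Ideal.Quotient.eq.mpr (Ideal.subset_span ⟨sub_mem y.2 (Subalgebra.algebraMap_mem _ _), ?_⟩)
        rw [map_sub, Bialgebra.counit_algebraMap, sub_self]
      have e : ∀ w : B k A ⊗[k] B k A, q (TensorProduct.map (B k A).val.toLinearMap (B k A).val.toLinearMap w) =
          algebraMap k _ (LinearMap.mul' k k (TensorProduct.map (Coalgebra.counit (R := k)) (Coalgebra.counit (R := k))
            (TensorProduct.map (B k A).val.toLinearMap (B k A).val.toLinearMap w))) := by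
        intro w
        induction w using TensorProduct.induction_on with
        | zero => simp
        | tmul y y' =>
          simp only [q, TensorProduct.map_tmul, AlgHom.toLinearMap_apply, Subalgebra.coe_val,
            Algebra.TensorProduct.map_tmul, hmk, LinearMap.mul'_apply, map_mul]
          simp [Algebra.algebraMap_eq_smul_one, smul_tmul', tmul_smul, smul_smul, Algebra.TensorProduct.one_def, mul_comm]
        | add p r hp hr => simp only [map_add, hp, hr]
      show q (CoalgebraStruct.comul (R := k) b) = 0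
      rw [← hz, e, hz]
      have hcc : LinearMap.mul' k k (TensorProduct.map (Coalgebra.counit (R := k)) (Coalgebra.counit (R := k))
          (CoalgebraStruct.comul (R := k) b)) = Coalgebra.counit (R := k) b := by
        have : ∀ w : A ⊗[k] A, LinearMap.mul' k k (TensorProduct.map (Coalgebra.counit (R := k))
            (Coalgebra.counit (R := k)) w) = Coalgebra.counit (R := k) (slice (Coalgebra.counit (R := k)) w) := by
          intro w
          induction w using TensorProduct.induction_on with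
          | zero => simp
          | tmul y y' => simp [mul_comm]
          | add p r hp hr => simp only [map_add, hp, hr]
        exact (this _).trans (counit_actF k A _ b)
      rw [hcc, hb.2, map_zero]
    exact this hx
  · intro x hx
    have : J k A ≤ (J k A).comap (HopfAlgebra.antipodeAlgHom k A) := Ideal.span_le.mpr fun b hb =>
      Ideal.subset_span ⟨(isHopfSubalgebra (k := k) (A := A)).2 b hb.1,
        (HopfAlgebra.counit_antipode b).trans hb.2⟩
    exact this hx

/-- The quotient by `J` is of multiplicative type. -/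
theorem isMultTypeConst_quot :
    haveI := isHopfIdeal_J (k := k) (A := A)
    SGA3b.IsMultTypeConst k (A ⧸ J k A) := by
  haveI := isHopfIdeal_J (k := k) (A := A)
  let K := AlgebraicClosure k
  refine ⟨K, inferInstance, inferInstance, inferInstance, S16065.isDiag_of_isDiagonalizable ?_⟩
  let q : K ⊗[k] A →ₐc[K] K ⊗[k] (A ⧸ J k A) :=
    Bialgebra.TensorProduct.map (BialgHom.id K K) (Bialgebra.Quotient.mkBialgHom (J k A))
  have hqs : Function.Surjective q := fun z => by
    induction z using TensorProduct.induction_on with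
    | zero => exact ⟨0, map_zero _⟩
    | tmul r y =>
      obtain ⟨a, rfl⟩ := Ideal.Quotient.mk_surjective y
      exact ⟨r ⊗ₜ a, rfl⟩
    | add x y hx hy =>
      obtain ⟨x', rfl⟩ := hx
      obtain ⟨y', rfl⟩ := hy
      exact ⟨x' + y', map_add _ _ _⟩
  have hB : ∀ y ∈ Bs K (K ⊗[k] A), ∃ r : K, q y = r • 1 := by
    intro y hy
    obtain ⟨n, hn⟩ := (mem_Bs K _ y).mp hy
    have h1 : y ∈ Submodule.span K {z | ∃ b ∈ Bs k A, z = (1 : K) ⊗ₜ[k] b} := Bn_baseChange_le n hn
    clear hn hy
    induction h1 using Submodule.span_induction with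
    | mem z hz =>
      obtain ⟨b, hb, rfl⟩ := hz
      refine ⟨algebraMap k K (Coalgebra.counit (R := k) b), ?_⟩
      show (1 : K) ⊗ₜ[k] Ideal.Quotient.mk (J k A) b = _
      have : Ideal.Quotient.mk (J k A) b = algebraMap k (A ⧸ J k A) (Coalgebra.counit (R := k) b) :=
        Ideal.Quotient.eq.mpr (Ideal.subset_span ⟨sub_mem (show b ∈ B k A from hb) (Subalgebra.algebraMap_mem _ _), by
          rw [map_sub, Bialgebra.counit_algebraMap, sub_self]⟩)
      rw [this, Algebra.algebraMap_eq_smul_one, tmul_smul, algebraMap_smul, Algebra.TensorProduct.one_def]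
    | zero => exact ⟨0, by rw [map_zero, zero_smul]⟩
    | add a b _ _ ha hb =>
      obtain ⟨r, hr⟩ := ha
      obtain ⟨s, hs⟩ := hb
      exact ⟨r + s, by rw [map_add, hr, hs, add_smul]⟩
    | smul r a _ ha =>
      obtain ⟨s, hs⟩ := ha
      exact ⟨r * s, by rw [map_smul, hs, smul_smul]⟩
  refine eq_top_iff.mpr fun z _ => ?_
  obtain ⟨x, rfl⟩ := hqs z
  have hx : x ∈ glSpan K (K ⊗[k] A) := by
    rw [glSpan_eq_top (k := K) (A := K ⊗[k] A)]
    exact Submodule.mem_top
  clear * - hx hB
  induction hx using Submodule.span_induction with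
  | mem a ha =>
    obtain ⟨g, y, hg, hy, rfl⟩ := ha
    obtain ⟨r, hr⟩ := hB y hy
    rw [map_mul, hr, mul_smul_comm, mul_one]
    exact Submodule.smul_mem _ _ (Submodule.subset_span (hg.map q))
  | zero => rw [map_zero]; exact zero_mem _
  | add a b _ _ ha hb => rw [map_add]; exact add_mem ha hb
  | smul r a _ ha => rw [map_smul]; exact Submodule.smul_mem _ _ ha

/-- `J` is contained in the ideal of every subgroup of multiplicative type. -/
theorem J_le (I : Ideal A) [I.IsHopfIdeal k] (hI : SGA3b.IsMultTypeConst k (A ⧸ I)) : J k A ≤ I := by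
  obtain ⟨R, _, _, hR, M, _, ⟨e⟩⟩ := hI
  let q : R ⊗[k] A →ₐc[R] R ⊗[k] (A ⧸ I) :=
    Bialgebra.TensorProduct.map (BialgHom.id R R) (Bialgebra.Quotient.mkBialgHom I)
  refine Ideal.span_le.mpr fun b hb => Ideal.Quotient.eq_zero_iff_mem.mp ?_
  obtain ⟨n, hn⟩ := (mem_Bs k A b).mp hb.1
  let g : R ⊗[k] A →ₐc[R] MonoidAlgebra R M := (e : R ⊗[k] (A ⧸ I) →ₐc[R] MonoidAlgebra R M).comp q
  have h1 := monoidAlgebra_Bn n (map_mem g n (tmul_mem_Bn n hn))
  have h2 : Coalgebra.counit (R := R) (g ((1 : R) ⊗ₜ[k] b)) = 0 := by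
    rw [CoalgHomClass.counit_comp_apply, TensorProduct.counit_tmul, hb.2]
    simp
  rw [h2, map_zero] at h1
  have h3 : e ((1 : R) ⊗ₜ[k] Ideal.Quotient.mk I b) = e 0 := h1.trans (map_zero _).symm
  exact (Module.FaithfullyFlat.one_tmul_eq_zero_iff k (M := A ⧸ I) (A := R) _).mp (e.injective h3)

end Groth.Agent.GrpSchLib.UniPart
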